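import Cfsg.Agent.H117.MainB
import Cfsg.Agent.LieClassical.OrthForms
import Cfsg.Agent.LieClassical.OrthFinite

/-!
# Non-trivial representations of `Ω_{2n+1}(q)`, `q ≥ 5` odd, `n ≥ 3`

`omega_bound`: every non-trivial complex representation has degree at least `tt q n = (q^{2n} - 1)/(q² - 1)`.
-/

set_option autoImplicit false

universe u v

namespace Cfsg.Agent.H117

open QuadraticMap Cfsg.Agent.LieClassical.OrthCore Cfsg.Agent.LieClassical.OrthTrans Module
open Cfsg.Agent.LieClassical.OrthCount (hypSum hypSum_apply polar_hypSum)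
open Cfsg.Agent.LieClassical.OrthForms (oddForm coe_oddForm nondeg_oddForm)

section

variable {F W : Type*} [Field F] [AddCommGroup W] [Module F W] {Q : QuadraticForm F W}
  {V : Type*} [AddCommGroup V] [Module ℂ V]

/-- if the radical acts trivially, so does the whole group -/
theorem trivial_of_sE (hG : Good (hypSum Q)) (P : PRep (E (hypSum Q)) V)
    (h : ∀ (v : W) (x : V), P.R (sE Q v) x = x) {g : (W × F × F) ≃ₗ[F] (W × F × F)}
    (hg : g ∈ E (hypSum Q)) (x : V) : P.R g x = x := by
  let K : Subgroup ((W × F × F) ≃ₗ[F] (W × F × F)) :=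
    { carrier := {g | g ∈ E (hypSum Q) ∧ ∀ x, P.R g x = x}
      mul_mem' := by
        rintro g k ⟨hg, hg'⟩ ⟨hk, hk'⟩
        exact ⟨(E _).mul_mem hg hk, fun x => by rw [P.mul' hg hk, hk', hg']⟩
      one_mem' := ⟨(E _).one_mem, fun x => P.one' x⟩
      inv_mem' := by
        rintro g ⟨hg, hg'⟩
        refine ⟨(E _).inv_mem hg, fun x => ?_⟩
        conv_lhs => rw [← hg' x]
        exact P.inv' hg x }
  have hK : E (hypSum Q) ≤ K := by
    conv_lhs => rw [E]
    rw [Subgroup.closure_le]
    rintro _ ⟨u, w, hu, hw, rfl⟩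
    refine ⟨siegel_mem_E _ _, fun x => ?_⟩
    by_cases hu0 : u = 0
    · subst hu0
      have : siegel (hypSum Q) 0 w hu hw = 1 := by
        apply LinearEquiv.ext
        intro v
        rw [siegel_apply]
        simp
      rw [this, P.one']
    · obtain ⟨g, hg, e⟩ := hG.trans_sing hu (hyp0 Q).left hu0 (hyp0 Q).left_ne
      have hgO := E_le_O hg
      have hu' : hypSum Q (g u) = 0 := by rw [mem_O.1 hgO, hu]
      have hw' : polar (hypSum Q) (g u) (g w) = 0 := by rw [polar_map hgO, hw]
      have e1 := siegel_conj hgO hu hw hu' hw'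
      have hw'' : polar (hypSum Q) (e0 F W) (g w) = 0 := by rw [← e]; exact hw'
      have e2 : siegel (hypSum Q) (g u) (g w) hu' hw' = sE Q (g w).1 := by
        have h3 : (g w).2.2 = 0 := by
          rw [polar_hypSum] at hw''
          simpa [e0] using hw''
        have h4 : g w = ((g w).1, 0, 0) + (g w).2.1 • e0 F W := by
          rw [smul_e0]
          ext
          · simp
          · simp
          · simp [h3]
        have h5 : polar (hypSum Q) (e0 F W) (((g w).1, 0, 0) + (g w).2.1 • e0 F W) = 0 := by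
          rw [← h4]; exact hw''
        rw [sE, ← siegel_add_smul (hyp0 Q).left (polar_e0 Q _) (g w).2.1 h5]
        apply LinearEquiv.ext
        intro v
        rw [siegel_apply, siegel_apply, ← h4, e]
      rw [e2] at e1
      have e3 : siegel (hypSum Q) u w hu hw = g⁻¹ * sE Q (g w).1 * g := by
        rw [← e1]
        group
      rw [e3, P.mul' ((E _).mul_mem ((E _).inv_mem hg) (sE_mem Q _)) hg,
        P.mul' ((E _).inv_mem hg) (sE_mem Q _), h, P.inv' hg]
  exact (hK hg).2 x

end

/-- the bound for the groups `E` of the tower -/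
theorem tower_bound {F : Type u} [Field F] [Fintype F] (h2 : (2 : F) ≠ 0) (hq : 5 ≤ Fintype.card F)
    {k : ℕ} {W : Type u} [AddCommGroup W] [Module F W] {Q : QuadraticForm F W}
    (h : IsTw F (k + 3) W Q) {V : Type v} [AddCommGroup V] [Module ℂ V] [FiniteDimensional ℂ V]
    (ρ : Representation ℂ (E Q) V) (hρ : ∃ g, ρ g ≠ 1) : tt (Fintype.card F) (k + 3) ≤ finrank ℂ V := by
  cases h with
  | step h =>
    cases h with
    | step h =>
      cases h with
      | @step _ W' _ _ Q' h =>
        have hT := h.tf h2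
        have hT1 := hT.step h2
        have hT2 := hT1.step h2
        have hT3 := hT2.step h2
        have := hT.finite
        have : Fintype W' := Fintype.ofFinite W'
        obtain ⟨ψ, hψ⟩ := AddChar.exists_apply_ne_zero.2 (one_ne_zero (α := F))
        have hfd := hT.fd
        refine bound_of_PT h2 hq hT ⟨1, hψ⟩ (fun χ hχ => IsTw.PT h2 hq hχ ⟨1, hψ⟩ h) (PRep.ofRep ρ) ?_
        by_contra hc
        push Not at hc
        obtain ⟨g, hg⟩ := hρ
        apply hg
        have hG : Good (hypSum (hypSum (hypSum Q'))) := by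
          apply Cfsg.Agent.LieClassical.OrthFinite.good_of_finite hT3.nondeg
          rw [hT3.rank]
          omega
        apply LinearMap.ext
        intro x
        have h3 := trivial_of_sE hG (PRep.ofRep ρ) hc g.2 x
        rw [PRep.ofRep_apply ρ g.2] at h3
        exact h3

/-- the bound for `Ω_{2n+1}(q)` -/
theorem omega_bound' {F : Type u} [Field F] [Fintype F] (h2 : (2 : F) ≠ 0) (hq : 5 ≤ Fintype.card F)
    {n : ℕ} (hn : 3 ≤ n) {V : Type v} [AddCommGroup V] [Module ℂ V] [FiniteDimensional ℂ V]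
    (ρ : Representation ℂ (Cfsg.Omega F ⇑(oddForm n F)) V) (hρ : ∃ g, ρ g ≠ 1) :
    tt (Fintype.card F) n ≤ finrank ℂ V := by
  obtain ⟨k, rfl⟩ : ∃ k, n = k + 3 := ⟨n - 3, by omega⟩
  obtain ⟨W, _, _, Q, e, h, he⟩ := exists_isTw F (k + 3)
  have he' : ∀ v, oddForm (k + 3) F (e v) = Q v := fun v => by rw [coe_oddForm, he]
  have hT := h.tf h2
  have hG : Good (oddForm (k + 3) F) := by
    apply Cfsg.Agent.LieClassical.OrthFinite.good_of_finite (nondeg_oddForm _ _ h2)
    rw [← e.finrank_eq, hT.rank]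
    omega
  let θ : E Q ≃* Cfsg.Omega F ⇑(oddForm (k + 3) F) :=
    (((ce e).subgroupMap (E Q)).trans (MulEquiv.subgroupCongr (map_E he'))).trans
      ((MulEquiv.subgroupCongr hG.commutator_eq_E.symm).trans
        (Cfsg.Agent.LieClassical.OrthFinite.omegaEquiv (oddForm (k + 3) F)).symm)
  let ρ' : Representation ℂ (E Q) V := ρ.comp θ.toMonoidHom
  refine tower_bound h2 hq h ρ' ?_
  obtain ⟨g, hg⟩ := hρ
  refine ⟨θ.symm g, ?_⟩
  intro h3
  apply hg
  have h4 : ρ' (θ.symm g) = ρ (θ (θ.symm g)) := rfl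
  rw [h4, MulEquiv.apply_symm_apply] at h3
  exact h3

theorem omega_bound {F : Type u} [Field F] [Fintype F] (h2 : (2 : F) ≠ 0) (hq : 5 ≤ Fintype.card F)
    {n : ℕ} (hn : 3 ≤ n) {V : Type v} [AddCommGroup V] [Module ℂ V] [FiniteDimensional ℂ V]
    (ρ : Representation ℂ (Cfsg.Omega F (Cfsg.quadFormOdd n F)) V) (hρ : ∃ g, ρ g ≠ 1) :
    tt (Fintype.card F) n ≤ finrank ℂ V := by
  revert ρ
  rw [← coe_oddForm]
  intro ρ hρ
  exact omega_bound' h2 hq hn ρ hρ

end Cfsg.Agent.H117
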