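import Cfsg.Agent.H117.LeviA
import Cfsg.Agent.H875.SSet

/-!
# Levi restrictions: nodes of type `SL_2(E)` (task 2468, helper117)

* `finrank_ker` : the rank of the kernel `j((x y)_{00}) ^ c` of `SL_2(E)`, `1 ≤ c ≤ |E| - 1`, is `|SS p c|`;
* `lrk_mono` : `lrk J g ≤ lrk J' g` for `J ⊆ J'`;
* **`card_SS_le_lrk`** : `ι : SL_2(E) → ⟨X_i, X_{-i}⟩`, `w⁻¹ α_i > 0`, `w⁻¹ s_i w ∉ W_{J(V)}` and
  `g⁻¹ ι(diag(s, s⁻¹)) g = j(s) ^ c` on `V^U`, `1 ≤ c ≤ |E| - 1`: then `|SS p c| ≤ lrk {i} g`.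
-/

set_option autoImplicit false
set_option linter.unusedSectionVars false
set_option linter.style.haveILetI false

namespace Cfsg.Agent.H117.Levi

open Matrix CoxeterSystem Cfsg.Agent.ChevalleyStructure.CoxeterGeom Cfsg.Agent.Tits.Roots Cfsg.Agent.Tits.Core
  Cfsg.Agent.Tits.Exchange Cfsg.Agent.Nodes.Reps Cfsg.Agent.Nodes.BNOf Cfsg.Agent.Nodes.StabComb
  Cfsg.Agent.Nodes.Bruhat Cfsg.Agent.Nodes.OppDec Cfsg.Agent.Nodes.LeviDec Cfsg.Agent.KFacts.RgdOpp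
  Cfsg.Agent.Omega.CR Cfsg.Agent.Omega.FOne.Lift.Sd Cfsg.Agent.H905.Md
open Cfsg.Agent.H911.SLTwo (Lo hh ww)
open Cfsg.Agent.H875.Fn (SS pw row exists_row)

universe u v

section lin

variable {k V : Type*} [Field k] [AddCommGroup V] [Module k V] [FiniteDimensional k V]

theorem finrank_le_prk {f g : Submodule k V} {Φ : Submodule k (Module.Dual k V)} (hg : g ≤ f)
    (h1 : ∀ v ∈ g, (∀ φ ∈ Φ, φ v = 0) → v = 0) : Module.finrank k g ≤ prk f Φ := by
  have h2 : g ⊓ (f ⊓ Φ.dualCoannihilator) = ⊥ := by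
    rw [eq_bot_iff]
    rintro v ⟨hv, hv'⟩
    exact h1 v hv ((Submodule.mem_dualCoannihilator v).1 hv'.2)
  have h3 := Submodule.finrank_sup_add_finrank_inf_eq g (f ⊓ Φ.dualCoannihilator)
  rw [h2, finrank_bot, add_zero] at h3
  have h4 : Module.finrank k (g ⊔ (f ⊓ Φ.dualCoannihilator) : Submodule k V) ≤ Module.finrank k f :=
    Submodule.finrank_mono (sup_le hg inf_le_left)
  unfold prk
  omega

theorem prk_mono {f f' : Submodule k V} {Φ Φ' : Submodule k (Module.Dual k V)} (hf : f ≤ f') (hΦ : Φ ≤ Φ') :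
    prk f Φ ≤ prk f' Φ' := by
  obtain ⟨g, hg, h1, h2⟩ := exists_compl f Φ
  rw [← h2]
  exact finrank_le_prk (hg.trans hf) fun v hv h0 => h1 v hv fun φ hφ => h0 φ (hΦ hφ)

end lin

/-- the rank of the kernel of `SL_2(E)` -/
theorem finrank_ker {E : Type u} [Field E] [Fintype E] {k : Type v} [Field k] (j : E →+* k) (p : ℕ)
    [hp : Fact p.Prime] [CharP k p] {c : ℕ} (hc1 : 1 ≤ c) (hc : c ≤ Fintype.card E - 1) {a : k} (ha : a ≠ 0) :
    Module.finrank k (Submodule.span k (Set.range fun y : SpecialLinearGroup (Fin 2) E =>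
      fun x : SpecialLinearGroup (Fin 2) E => j ((x * y).1 0 0) ^ c * a)) = (SS p c).card := by
  let P : (E × E → k) →ₗ[k] (SpecialLinearGroup (Fin 2) E → k) := LinearMap.funLeft k k row
  have hval : ∀ (y x : SpecialLinearGroup (Fin 2) E),
      j ((x * y).1 0 0) ^ c * a = (a • P (pw j c (y.1 0 0, y.1 1 0))) x := by
    intro y x
    rw [Cfsg.Agent.H911.SLTwo.m00, Pi.smul_apply, smul_eq_mul, mul_comm]
    rfl
  have h0 : ∀ f ∈ Cfsg.Agent.H875.Fn.L j c, f 0 = 0 := by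
    intro f hf
    unfold Cfsg.Agent.H875.Fn.L at hf
    induction hf using Submodule.span_induction with
    | mem x hx =>
      obtain ⟨d, rfl⟩ := hx
      change j ((0 : E) * d.1 + (0 : E) * d.2) ^ c = 0
      rw [zero_mul, zero_mul, add_zero, map_zero, zero_pow (by omega)]
    | zero => rfl
    | add x y _ _ hx hy => rw [Pi.add_apply, hx, hy, add_zero]
    | smul r x _ hx => rw [Pi.smul_apply, hx, smul_zero]
  have h1 : Submodule.span k (Set.range fun y : SpecialLinearGroup (Fin 2) E =>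
      fun x : SpecialLinearGroup (Fin 2) E => j ((x * y).1 0 0) ^ c * a) = (Cfsg.Agent.H875.Fn.L j c).map P := by
    apply le_antisymm
    · rw [Submodule.span_le]
      rintro _ ⟨y, rfl⟩
      have e : (fun x : SpecialLinearGroup (Fin 2) E => j ((x * y).1 0 0) ^ c * a) =
          a • P (pw j c (y.1 0 0, y.1 1 0)) := funext fun x => hval y x
      rw [SetLike.mem_coe]
      dsimp only
      rw [e]
      exact Submodule.smul_mem _ _ ⟨_, Cfsg.Agent.H875.Fn.pw_mem_L j c _, rfl⟩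
    · unfold Cfsg.Agent.H875.Fn.L
      rw [Submodule.map_span, Submodule.span_le]
      rintro _ ⟨_, ⟨d, rfl⟩, rfl⟩
      by_cases hd : d = 0
      · have e : P (pw j c d) = 0 := by
          funext x
          change j ((row x).1 * d.1 + (row x).2 * d.2) ^ c = 0
          rw [hd]
          change j ((row x).1 * 0 + (row x).2 * 0) ^ c = 0
          rw [mul_zero, mul_zero, add_zero, map_zero, zero_pow (by omega)]
        rw [e]
        exact Submodule.zero_mem _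
      · -- a matrix with first column `d`
        obtain ⟨y, hy⟩ : ∃ y : SpecialLinearGroup (Fin 2) E, (y.1 0 0, y.1 1 0) = d := by
          obtain ⟨z, hz⟩ := exists_row d hd
          refine ⟨z.transpose, ?_⟩
          rw [← hz]
          rfl
        have e : P (pw j c d) = a⁻¹ • fun x : SpecialLinearGroup (Fin 2) E => j ((x * y).1 0 0) ^ c * a := by
          funext x
          rw [Pi.smul_apply, hval y x, hy, Pi.smul_apply, smul_smul, inv_mul_cancel₀ ha, one_smul]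
        rw [e]
        exact Submodule.smul_mem _ _ (Submodule.subset_span ⟨y, rfl⟩)
  rw [h1, ← Cfsg.Agent.H875.Fn.finrank_L j p hc]
  have h2 : Function.Injective (P.domRestrict (Cfsg.Agent.H875.Fn.L j c)) := by
    rw [injective_iff_map_eq_zero]
    rintro ⟨f, hf⟩ h2
    apply Subtype.ext
    funext v
    by_cases hv : v = 0
    · rw [hv]
      exact h0 f hf
    · obtain ⟨x, hx⟩ := exists_row v hv
      have h3 := congrFun h2 x
      change f (row x) = 0 at h3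
      rw [hx] at h3
      exact h3
  have h3 := LinearMap.finrank_range_of_inj h2
  have h4 : LinearMap.range (P.domRestrict (Cfsg.Agent.H875.Fn.L j c)) = (Cfsg.Agent.H875.Fn.L j c).map P := by
    ext x
    constructor
    · rintro ⟨y, rfl⟩
      exact ⟨y.1, y.2, rfl⟩
    · rintro ⟨y, hy, rfl⟩
      exact ⟨⟨y, hy⟩, rfl⟩
  rw [← h3, h4]

/-- Gauss decomposition, first case -/
theorem gauss_of_ne {E : Type u} [Field E] (x : SpecialLinearGroup (Fin 2) E) (s : Eˣ) (hs : x.1 0 0 = s) :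
    x = Lo (x.1 1 0 * ((s⁻¹ : Eˣ) : E)) * hh s * Cfsg.Agent.H911.SLTwo.U (((s⁻¹ : Eˣ) : E) * x.1 0 1) := by
  have hd := Cfsg.Agent.H911.SLTwo.det_eq x
  have hss : (s : E) * ((s⁻¹ : Eˣ) : E) = 1 := by rw [← Units.val_mul, mul_inv_cancel, Units.val_one]
  apply Cfsg.Agent.H911.SLTwo.ext' <;>
    simp only [Cfsg.Agent.H911.SLTwo.m00, Cfsg.Agent.H911.SLTwo.m01, Cfsg.Agent.H911.SLTwo.m10,
      Cfsg.Agent.H911.SLTwo.m11, Cfsg.Agent.H911.SLTwo.Lo00, Cfsg.Agent.H911.SLTwo.Lo01,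
      Cfsg.Agent.H911.SLTwo.Lo10, Cfsg.Agent.H911.SLTwo.Lo11, Cfsg.Agent.H911.SLTwo.hh00,
      Cfsg.Agent.H911.SLTwo.hh01, Cfsg.Agent.H911.SLTwo.hh10, Cfsg.Agent.H911.SLTwo.hh11,
      Cfsg.Agent.H911.SLTwo.U00, Cfsg.Agent.H911.SLTwo.U01, Cfsg.Agent.H911.SLTwo.U10,
      Cfsg.Agent.H911.SLTwo.U11]
  · rw [hs]; ring
  · linear_combination (-x.1 0 1) * hss
  · linear_combination (-x.1 1 0) * hss
  · rw [hs] at hd
    linear_combination ((s⁻¹ : Eˣ) : E) * hd - (x.1 1 1 + x.1 1 0 * x.1 0 1 * ((s⁻¹ : Eˣ) : E)) * hss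

/-- Gauss decomposition, second case -/
theorem gauss_of_eq {E : Type u} [Field E] (x : SpecialLinearGroup (Fin 2) E) (hx : x.1 0 0 = 0) :
    ∃ (s : Eˣ) (t : E), x = Lo t * hh s * ww := by
  have hd := Cfsg.Agent.H911.SLTwo.det_eq x
  rw [hx, zero_mul, zero_sub] at hd
  have h1 : x.1 0 1 ≠ 0 := by
    intro h1
    rw [h1, zero_mul, neg_zero] at hd
    exact zero_ne_one hd
  refine ⟨Units.mk0 _ h1, x.1 1 1 * (x.1 0 1)⁻¹, ?_⟩
  have hss : x.1 0 1 * (x.1 0 1)⁻¹ = 1 := mul_inv_cancel₀ h1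
  apply Cfsg.Agent.H911.SLTwo.ext' <;>
    simp only [Cfsg.Agent.H911.SLTwo.m00, Cfsg.Agent.H911.SLTwo.m01, Cfsg.Agent.H911.SLTwo.m10,
      Cfsg.Agent.H911.SLTwo.m11, Cfsg.Agent.H911.SLTwo.Lo00, Cfsg.Agent.H911.SLTwo.Lo01,
      Cfsg.Agent.H911.SLTwo.Lo10, Cfsg.Agent.H911.SLTwo.Lo11, Cfsg.Agent.H911.SLTwo.hh00,
      Cfsg.Agent.H911.SLTwo.hh01, Cfsg.Agent.H911.SLTwo.hh10, Cfsg.Agent.H911.SLTwo.hh11,
      Cfsg.Agent.H911.SLTwo.ww00, Cfsg.Agent.H911.SLTwo.ww01, Cfsg.Agent.H911.SLTwo.ww10,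
      Cfsg.Agent.H911.SLTwo.ww11, Units.val_mk0, Units.val_inv_eq_inv_val]
  · rw [hx]; ring
  · ring
  · linear_combination (-(x.1 0 1)⁻¹) * hd - x.1 1 0 * hss
  · linear_combination (-x.1 1 1) * hss

variable {I W Y : Type*} [Fintype I] [DecidableEq I] [Group W] [Group Y] {M : CoxeterMatrix I}
  {cs : CoxeterSystem M W} {A : I → I → ℤ} {h : IsCartan M A} {p : ℕ} {T : Subgroup Y} {n : I → Y}
  {X : (I → ℤ) → Subgroup Y}

variable {k V : Type*} [Field k] [AddCommGroup V] [Module k V]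

theorem lrk_mono [FiniteDimensional k V] {ρ : Y →* Module.End k V} {J J' : Set I} (hJ : J ⊆ J') (g : Y) :
    lrk cs h T X ρ J g ≤ lrk cs h T X ρ J' g :=
  prk_mono (Sp_mono ρ (LJ_mono hJ) _) (Sp_mono _ (LJ_mono hJ) _)

section

variable (R : RGD cs h p T n X) [Finite Y] [Finite W] [Fact p.Prime] [CharP k p]
  {ρ : Y →* Module.End k V} [FiniteDimensional k V]
  (hirr : ∀ L : Submodule k V, Ivt ρ (GG cs h T X) L → L = ⊥ ∨ L = ⊤)
include R hirr

/-- the kernel of a node of type `SL_2(E)` -/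
theorem kernel_node [Nontrivial V] {i : I} {w : W} {g : Y} (hg : Rp cs R.nsys w g)
    (hmin : 0 ≤ rep cs h w⁻¹ (sr i)) (hs : w⁻¹ * cs.simple i * w ∉ WJ cs (Jx cs h X ρ))
    {E : Type u} [Field E] (j : E →+* k) (ι : SpecialLinearGroup (Fin 2) E →* Y)
    (hU : ∀ t, ι (Cfsg.Agent.H911.SLTwo.U t) ∈ X (sr i)) (hL : ∀ t, ι (Lo t) ∈ X (-sr i))
    (hT : ∀ s : Eˣ, ι (hh s) ∈ T) (hw : Rp cs R.nsys (cs.simple i) (ι ww)) {c : ℕ} (hc1 : 1 ≤ c)
    {φ : Module.Dual k V} (hφ : φ ∈ fx (dualRep ρ) (UN cs h X)) {v : V} (hv : v ∈ D cs h X ρ)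
    (hχ : ∀ s : Eˣ, ρ (g⁻¹ * ι (hh s) * g) v = j s ^ c • v) (x : SpecialLinearGroup (Fin 2) E) :
    φ (ρ (g⁻¹ * ι x * g) v) = j (x.1 0 0) ^ c * φ v := by
  have hi : IsRoot cs h (sr i) := isRoot_sr cs h i
  have hLo : ∀ t, g⁻¹ * ι (Lo t) * g ∈ UN cs h X := by
    intro t
    have h1 := R.conj_mem' hg hi.neg (hL t)
    refine X_le_UN (hi.neg.act _) ?_ h1
    rw [map_neg]
    exact neg_nonpos.2 hmin
  have hUp : ∀ t, g⁻¹ * ι (Cfsg.Agent.H911.SLTwo.U t) * g ∈ RGD.Sup X (RGD.Pos cs h) := by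
    intro t
    have h1 := R.conj_mem' hg hi (hU t)
    exact RGD.le_Sup (S := RGD.Pos cs h) ⟨hi.act _, hmin⟩ h1
  by_cases hx : x.1 0 0 = 0
  · obtain ⟨s, t, e⟩ := gauss_of_eq x hx
    have e1 : g⁻¹ * ι x * g = (g⁻¹ * ι (Lo t) * g) * (g⁻¹ * (ι (hh s) * ι ww) * g) := by
      rw [e, map_mul, map_mul]
      group
    rw [e1, rho_mul, (mem_fx_dual ρ).1 hφ _ (hLo t), hx, map_zero, zero_pow (by omega), zero_mul]
    by_contra hne
    apply hs
    have h1 : Rp cs R.nsys (1 * cs.simple i) (ι (hh s) * ι ww) := (rp_of_mem (hT s)).mul hw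
    rw [one_mul] at h1
    exact mem_WJ_of_pair R hirr hφ ((hg.inv.mul h1).mul hg) hv hne
  · have e := gauss_of_ne x (Units.mk0 _ hx) rfl
    have e1 : g⁻¹ * ι x * g = (g⁻¹ * ι (Lo (x.1 1 0 * (((Units.mk0 _ hx)⁻¹ : Eˣ) : E))) * g) *
        (g⁻¹ * ι (hh (Units.mk0 _ hx)) * g) *
        (g⁻¹ * ι (Cfsg.Agent.H911.SLTwo.U ((((Units.mk0 _ hx)⁻¹ : Eˣ) : E) * x.1 0 1)) * g) := by
      conv_lhs => rw [e]
      rw [map_mul, map_mul]
      group
    have h3 : ∀ t, ρ (g⁻¹ * ι (Cfsg.Agent.H911.SLTwo.U t) * g) v = v := fun t => hv _ (hUp t)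
    rw [e1, rho_mul, h3, rho_mul, (mem_fx_dual ρ).1 hφ _ (hLo _), hχ, map_smul, smul_eq_mul, Units.val_mk0]

/-- **the rank at a node of type `SL_2(E)`** -/
theorem card_SS_le_lrk [Nontrivial V] {i : I} {w : W} {g : Y} (hg : Rp cs R.nsys w g)
    (hmin : 0 ≤ rep cs h w⁻¹ (sr i)) (hs : w⁻¹ * cs.simple i * w ∉ WJ cs (Jx cs h X ρ))
    {E : Type u} [Field E] [Fintype E] (j : E →+* k) (ι : SpecialLinearGroup (Fin 2) E →* Y)
    (hU : ∀ t, ι (Cfsg.Agent.H911.SLTwo.U t) ∈ X (sr i)) (hL : ∀ t, ι (Lo t) ∈ X (-sr i))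
    (hT : ∀ s : Eˣ, ι (hh s) ∈ T) (hw : Rp cs R.nsys (cs.simple i) (ι ww)) {c : ℕ} (hc1 : 1 ≤ c)
    (hc : c ≤ Fintype.card E - 1)
    (hχ : ∀ s : Eˣ, ∀ v ∈ D cs h X ρ, ρ (g⁻¹ * ι (hh s) * g) v = j s ^ c • v) :
    (SS p c).card ≤ lrk cs h T X ρ {i} g := by
  obtain ⟨v, hv, hv0⟩ := (Submodule.ne_bot_iff _).1 (simp_fx R ρ hirr).ne
  obtain ⟨φ, hφ, hne⟩ := exists_pair_D R hirr hv hv0
  have hi : sr i ∈ RootsJ cs h ({i} : Set I) := sr_mem_Roots i
  have hiW : cs.simple i ∈ WJ cs ({i} : Set I) := simple_mem_WJ cs (Set.mem_singleton i)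
  -- `SL_2(E)` is generated by the root groups
  have hgen : ∀ x, ι x ∈ LJ cs h T X {i} := by
    intro x
    have hw' : ι ww ∈ LJ cs h T X {i} := rp_mem_LJ R hiW hw
    by_cases hx : x.1 0 0 = 0
    · obtain ⟨s, t, e⟩ := gauss_of_eq x hx
      rw [e, map_mul, map_mul]
      exact mul_mem (mul_mem (X_le_LJ (RootsJ.neg hi) (hL t)) (T_le_LJ (hT s))) hw'
    · rw [gauss_of_ne x (Units.mk0 _ hx) rfl, map_mul, map_mul]
      exact mul_mem (mul_mem (X_le_LJ (RootsJ.neg hi) (hL _)) (T_le_LJ (hT _))) (X_le_LJ hi (hU _))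
  have h1 := kernel_le_lrk (ρ := ρ) (J := {i}) (g := g) ι hgen hφ hv
  have h2 : (fun y : SpecialLinearGroup (Fin 2) E => fun x : SpecialLinearGroup (Fin 2) E =>
      φ (ρ (g⁻¹ * ι (x * y) * g) v)) = fun y => fun x => j ((x * y).1 0 0) ^ c * φ v := by
    funext y x
    exact kernel_node R hirr hg hmin hs j ι hU hL hT hw hc1 hφ hv (fun s => hχ s v hv) (x * y)
  rw [h2, finrank_ker j p hc1 hc hne] at h1
  exact h1

end

end Cfsg.Agent.H117.Levi
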