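import Cfsg.Agent.H98.Ore.Defs

/-!
# A polynomial for the special unitary group (S2446, task T2)

`F` has `q²` elements.  There is an irreducible `f` of degree `m ≥ 2` which is coprime to its `σ`-reverse, has
constant term fixed by `σ` and is not fixed by the nontrivial root scalings by elements of norm one.
-/

set_option autoImplicit false
namespace Cfsg.Agent.H117.OrePoly
open Module Polynomial Cfsg.Agent.H951 Matrix Cfsg.Agent.H98.Ore

section arith

theorem n1 {q m d N : ℕ} (hq : 2 ≤ q) (hd : 0 < d) (hdm : 2 * d ≤ m)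
    (hN : N * (q + 1) = (q ^ 2) ^ m - 1) (h : N ∣ (q ^ 2) ^ d - 1) : False := by
  have h4 : q < (q ^ 2) ^ d := by
    calc q < q ^ 2 := by nlinarith
      _ ≤ (q ^ 2) ^ d := Nat.le_self_pow hd.ne' _
  have h1 : N ≤ (q ^ 2) ^ d - 1 := Nat.le_of_dvd (by omega) h
  have h2 : (q ^ 2) ^ (2 * d) ≤ (q ^ 2) ^ m := Nat.pow_le_pow_right (by positivity) hdm
  have h3 : (q ^ 2) ^ (2 * d) = (q ^ 2) ^ d * (q ^ 2) ^ d := by rw [two_mul, pow_add]
  obtain ⟨y, hy⟩ : ∃ y, (q ^ 2) ^ d = y + 1 := ⟨(q ^ 2) ^ d - 1, by omega⟩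
  have hz1 : 1 ≤ (q ^ 2) ^ m := Nat.one_le_pow _ _ (by positivity)
  obtain ⟨z, hz⟩ : ∃ z, (q ^ 2) ^ m = z + 1 := ⟨(q ^ 2) ^ m - 1, by omega⟩
  rw [hy] at h1 h3 h4
  rw [hz] at hN h2
  rw [h3] at h2
  simp only [Nat.add_sub_cancel] at hN h1
  have h5 : N * (q + 1) ≤ y * (q + 1) := Nat.mul_le_mul_right _ h1
  nlinarith

theorem n2a {q m e N : ℕ} (hq : 2 ≤ q) (hm : 2 ≤ m) (he : Odd e) (hem : e ≤ m)
    (hN : N * (q + 1) = (q ^ 2) ^ m - 1) (h : N ∣ q ^ e + 1) : False := by
  have h1 : N ≤ q ^ e + 1 := Nat.le_of_dvd (by omega) h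
  have h2 : (q ^ 2) ^ m = q ^ m * q ^ m := by rw [← pow_mul, two_mul, pow_add]
  have hx1 : 1 ≤ q ^ m := Nat.one_le_pow _ _ (by omega)
  obtain ⟨x, hx⟩ : ∃ x, q ^ m = x + 1 := ⟨q ^ m - 1, by omega⟩
  have h3 : (q ^ 2) ^ m - 1 = x * (x + 2) := by
    rw [h2, hx]
    have : (x + 1) * (x + 1) = x * (x + 2) + 1 := by ring
    omega
  rw [h3] at hN
  have h4 : x * (x + 2) ≤ (q ^ e + 1) * (q + 1) := by
    rw [← hN]; exact Nat.mul_le_mul_right _ h1
  have hqm : q * q ≤ q ^ m := by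
    calc q * q = q ^ 2 := by ring
      _ ≤ q ^ m := Nat.pow_le_pow_right (by omega) hm
  rcases Nat.lt_or_ge e m with hlt | hge
  · have h5 : q ^ e ≤ q ^ (m - 1) := Nat.pow_le_pow_right (by omega) (by omega)
    have h6 : q ^ m = q * q ^ (m - 1) := by
      conv_lhs => rw [show m = (m - 1) + 1 by omega]
      rw [pow_succ]; ring
    have h7 : q ≤ q ^ (m - 1) := Nat.le_self_pow (by omega) _
    generalize q ^ (m - 1) = y at *
    generalize q ^ e = z at *
    have h8 : z + 1 ≤ x := by nlinarith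
    have h9 : (z + 1) * (q + 1) ≤ x * (q + 1) := Nat.mul_le_mul_right _ h8
    have h10 : q + 1 < x + 2 := by nlinarith
    have h11 : 0 < x := by omega
    have h12 : x * (q + 1) < x * (x + 2) := Nat.mul_lt_mul_of_pos_left h10 h11
    omega
  · have hem' : e = m := le_antisymm hem hge
    subst hem'
    have h3m : 3 ≤ e := by
      rcases he with ⟨k, hk⟩
      omega
    rw [hx] at h4
    have h5 : x ≤ q + 1 := by
      have : (x + 2) * x ≤ (x + 2) * (q + 1) := by nlinarith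
      exact Nat.le_of_mul_le_mul_left this (by omega)
    have h6 : q ^ 3 ≤ q ^ e := Nat.pow_le_pow_right (by omega) h3m
    have h7 : q ^ 3 = q * q * q := by ring
    nlinarith

theorem n2 {q m j N : ℕ} (hq : 2 ≤ q) (hm : 2 ≤ m) (hj : j < m)
    (hN : N * (q + 1) = (q ^ 2) ^ m - 1) (h : N ∣ (q ^ 2) ^ j * q + 1) : False := by
  have h0 : (q ^ 2) ^ j * q = q ^ (2 * j + 1) := by rw [← pow_mul, pow_succ]
  rw [h0] at h
  rcases Nat.lt_or_ge m (2 * j + 1) with hlt | hge
  · refine n2a (e := 2 * m - (2 * j + 1)) hq hm ?_ (by omega) hN ?_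
    · exact ⟨m - j - 1, by omega⟩
    · have h1 : q ^ (2 * m - (2 * j + 1)) * (q ^ (2 * j + 1) + 1)
          = ((q ^ 2) ^ m - 1) + (q ^ (2 * m - (2 * j + 1)) + 1) := by
        have : 1 ≤ (q ^ 2) ^ m := Nat.one_le_pow _ _ (by positivity)
        rw [mul_add, ← pow_add, show 2 * m - (2 * j + 1) + (2 * j + 1) = 2 * m by omega, pow_mul]
        omega
      have h2 : N ∣ (q ^ 2) ^ m - 1 := ⟨q + 1, hN.symm⟩
      exact (Nat.dvd_add_right h2).1 (h1 ▸ Dvd.dvd.mul_left h _)
  · exact n2a hq hm ⟨j, rfl⟩ hge hN h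

theorem n3 {q m j N : ℕ} (hq : 2 ≤ q) (hj0 : 0 < j) (hj : j < m)
    (hN : N * (q + 1) = (q ^ 2) ^ m - 1) (h : N ∣ ((q ^ 2) ^ j - 1) * (q + 1)) : False := by
  have h1 : (q ^ 2) ^ m - 1 ∣ ((q ^ 2) ^ j - 1) * ((q + 1) * (q + 1)) := by
    rw [← hN, ← mul_assoc]; exact Nat.mul_dvd_mul_right h _
  set Q := q ^ 2 with hQ
  have hQ4 : 4 ≤ Q := by nlinarith
  set g := Nat.gcd m j with hg
  have hgm : g ∣ m := Nat.gcd_dvd_left _ _
  have hgj : g ∣ j := Nat.gcd_dvd_right _ _
  have hg0 : 0 < g := Nat.gcd_pos_of_pos_right _ hj0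
  have hglej : g ≤ j := Nat.le_of_dvd hj0 hgj
  have hgcd : Nat.gcd (Q ^ m - 1) (Q ^ j - 1) = Q ^ g - 1 := Nat.pow_sub_one_gcd_pow_sub_one _ _ _
  have hQg : 1 < Q ^ g := Nat.one_lt_pow hg0.ne' (by omega)
  obtain ⟨A, hA⟩ : Q ^ g - 1 ∣ Q ^ m - 1 := hgcd ▸ Nat.gcd_dvd_left _ _
  obtain ⟨B, hB⟩ : Q ^ g - 1 ∣ Q ^ j - 1 := hgcd ▸ Nat.gcd_dvd_right _ _
  have hcop : Nat.Coprime A B := by
    have : (Q ^ g - 1) * Nat.gcd A B = (Q ^ g - 1) * 1 := by
      rw [← Nat.gcd_mul_left, ← hA, ← hB, hgcd, mul_one]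
    exact Nat.eq_of_mul_eq_mul_left (by omega) this
  have hAd : A ∣ (q + 1) * (q + 1) := by
    rw [hA, hB, mul_assoc] at h1
    exact hcop.dvd_of_dvd_mul_left (Nat.dvd_of_mul_dvd_mul_left (by omega) h1)
  have hAle : A ≤ (q + 1) * (q + 1) := Nat.le_of_dvd (by positivity) hAd
  have hmg : g ≤ m - g := by
    obtain ⟨k, hk⟩ := hgm
    have hk2 : 2 ≤ k := by
      by_contra hk2
      interval_cases k <;> omega
    have : g * 2 ≤ g * k := Nat.mul_le_mul_left _ hk2
    omega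
  have hpow : Q ^ m = Q ^ (m - g) * Q ^ g := by
    rw [← pow_add]; congr 1; omega
  have hAgt : Q ^ (m - g) < A := by
    by_contra hcon
    have hcon' : A ≤ Q ^ (m - g) := Nat.le_of_not_lt hcon
    obtain ⟨y, hy⟩ : ∃ y, Q ^ g = y + 1 := ⟨Q ^ g - 1, by omega⟩
    have hQmg : 1 < Q ^ (m - g) := Nat.one_lt_pow (by omega) (by omega)
    rw [hpow, hy, Nat.add_sub_cancel] at hA
    have : y * A ≤ y * Q ^ (m - g) := Nat.mul_le_mul_left _ hcon'
    have h3 : Q ^ (m - g) * (y + 1) = y * Q ^ (m - g) + Q ^ (m - g) := by ring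
    omega
  rcases Nat.lt_or_ge (m - g) 2 with hlt | hge
  · have hg1 : g = 1 := by omega
    have hm2 : m = 2 := by omega
    rw [hg1, hm2] at hA
    have hA' : A = Q + 1 := by
      obtain ⟨y, hy⟩ : ∃ y, Q = y + 1 := ⟨Q - 1, by omega⟩
      rw [hy] at hA ⊢
      rw [pow_one, Nat.add_sub_cancel] at hA
      have h5 : (y + 1) ^ 2 - 1 = y * (y + 2) := by
        have : (y + 1) ^ 2 = y * (y + 2) + 1 := by ring
        omega
      rw [h5] at hA
      exact (Nat.eq_of_mul_eq_mul_left (by omega) hA).symm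
    rw [hA'] at hAd
    have h6 : (q + 1) * (q + 1) = (Q + 1) + 2 * q := by rw [hQ]; ring
    rw [h6] at hAd
    have h7 : Q + 1 ∣ 2 * q := (Nat.dvd_add_right (dvd_refl _)).1 hAd
    have h8 : Q + 1 ≤ 2 * q := Nat.le_of_dvd (by omega) h7
    nlinarith
  · have h5 : Q ^ 2 ≤ Q ^ (m - g) := Nat.pow_le_pow_right (by omega) hge
    have h6 : (q + 1) * (q + 1) ≤ Q ^ 2 := by
      have h7 : q + 1 ≤ Q := by nlinarith
      calc (q + 1) * (q + 1) ≤ Q * Q := Nat.mul_le_mul h7 h7
        _ = Q ^ 2 := by ring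
    omega

end arith

section fld

/-- the constant term of the minimal polynomial of a generator -/
theorem coeff_zero_eq {F E : Type*} [Field F] [Field E] [Algebra F E] [FiniteDimensional F E] {x : E}
    (h : (minpoly F x).natDegree = finrank F E) :
    Algebra.norm F x = (-1) ^ finrank F E * (minpoly F x).coeff 0 := by
  have htop : Algebra.adjoin F {x} = ⊤ := by
    have h1 : IntermediateField.adjoin F {x} = ⊤ := by
      apply IntermediateField.eq_of_le_of_finrank_eq le_top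
      rw [IntermediateField.adjoin.finrank (Algebra.IsIntegral.isIntegral x), h,
        IntermediateField.finrank_top']
    rw [← IntermediateField.adjoin_simple_toSubalgebra_of_isAlgebraic (Algebra.IsIntegral.isIntegral x).isAlgebraic, h1]
    rfl
  have h2 := Algebra.PowerBasis.norm_gen_eq_coeff_zero_minpoly
    (PowerBasis.ofAdjoinEqTop (Algebra.IsIntegral.isIntegral x) htop)
  rw [PowerBasis.ofAdjoinEqTop_gen, PowerBasis.ofAdjoinEqTop_dim, h] at h2
  exact h2

theorem exists_poly {F : Type*} [Field F] [Fintype F] {q : ℕ} (hF : Fintype.card F = q ^ 2) (σ : F →+* F)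
    (hσ : ∀ a, σ a = a ^ q) {m : ℕ} (hm : 2 ≤ m) :
    ∃ f : F[X], Irreducible f ∧ f.Monic ∧ f.natDegree = m ∧ σ (f.coeff 0) = f.coeff 0 ∧
      IsCoprime f (f.map σ).reverse ∧ ∀ l : F, l ^ (q + 1) = 1 → l ≠ 1 → f.scaleRoots l ≠ f := by
  classical
  have hq : 2 ≤ q := by
    have h1 : 1 < Fintype.card F := Fintype.one_lt_card
    rw [hF] at h1
    by_contra hcon
    interval_cases q <;> simp at h1
  obtain ⟨p, hp⟩ := CharP.exists F
  obtain ⟨n, hpp, hcard⟩ := FiniteField.card F p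
  have : Fact p.Prime := ⟨hpp⟩
  have : NeZero m := ⟨by omega⟩
  obtain ⟨k, -, hk⟩ : ∃ k ≤ (n : ℕ), q = p ^ k :=
    (Nat.dvd_prime_pow hpp).1 (by rw [← hcard, hF]; exact dvd_pow_self _ (by norm_num))
  set E := FiniteField.Extension F p m with hE
  have hEcard : Nat.card E = (q ^ 2) ^ m := by
    rw [hE, FiniteField.natCard_extension, Nat.card_eq_fintype_card, hF]
  have hEfin : finrank F E = m := FiniteField.finrank_extension F p m
  have : FiniteDimensional F E := inferInstance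
  have : CharP E p := charP_of_injective_algebraMap (algebraMap F E).injective p
  have hQm1 : 1 < (q ^ 2) ^ m := Nat.one_lt_pow (by omega) (by nlinarith)
  -- the generator
  obtain ⟨η, hη⟩ := IsCyclic.exists_generator (α := Eˣ)
  have hηord : orderOf η = (q ^ 2) ^ m - 1 := by
    rw [orderOf_eq_card_of_forall_mem_zpowers hη, Nat.card_units, hEcard]
  have hdvd : q + 1 ∣ (q ^ 2) ^ m - 1 := by
    have h1 : q ^ 2 - 1 ∣ (q ^ 2) ^ m - 1 := by
      simpa using Nat.sub_dvd_pow_sub_pow (q ^ 2) 1 m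
    refine dvd_trans ⟨q - 1, ?_⟩ h1
    obtain ⟨r, rfl⟩ : ∃ r, q = r + 1 := ⟨q - 1, by omega⟩
    have : (r + 1) ^ 2 = (r + 1 + 1) * r + 1 := by ring
    rw [this]; simp
  obtain ⟨N, hN'⟩ := hdvd
  have hN : N * (q + 1) = (q ^ 2) ^ m - 1 := by rw [hN', mul_comm]
  have hN0 : 0 < N := by
    rcases Nat.eq_zero_or_pos N with h0 | h0
    · rw [h0] at hN; omega
    · exact h0
  have hξord : orderOf ((η ^ (q + 1) : Eˣ) : E) = N := by
    rw [orderOf_units, orderOf_pow, hηord, hN', Nat.gcd_mul_right_left, Nat.mul_div_cancel_left _ (by omega)]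
  set ξ : E := ((η ^ (q + 1) : Eˣ) : E) with hξ
  have hξ0 : ξ ≠ 0 := Units.ne_zero _
  have hord : ∀ k : ℕ, ξ ^ k = 1 ↔ N ∣ k := fun k => by rw [← hξord, orderOf_dvd_iff_pow_eq_one]
  have hint : IsIntegral F ξ := Algebra.IsIntegral.isIntegral ξ
  -- the degree
  have hdeg : (minpoly F ξ).natDegree = m := by
    set K := IntermediateField.adjoin F {ξ} with hK
    have h1 : finrank F K = (minpoly F ξ).natDegree := IntermediateField.adjoin.finrank hint
    have h2 : finrank F K * finrank K E = m := by rw [finrank_mul_finrank, hEfin]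
    have h3 : Nat.card K = (q ^ 2) ^ finrank F K := by
      rw [Module.natCard_eq_pow_finrank (K := F), Nat.card_eq_fintype_card, hF]
    have h4 : N ∣ (q ^ 2) ^ finrank F K - 1 := by
      rw [← hord, ← h3]
      have := Fintype.ofFinite K
      have h5 : (⟨ξ, IntermediateField.mem_adjoin_simple_self F ξ⟩ : K) ^ (Nat.card K - 1) = 1 := by
        rw [Nat.card_eq_fintype_card]
        exact FiniteField.pow_card_sub_one_eq_one _ (by
          intro h; exact hξ0 (congrArg Subtype.val h))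
      exact congrArg Subtype.val h5
    have h5 : 0 < finrank F K := finrank_pos
    rw [← h1]
    by_contra hne
    have h6 : 2 ≤ finrank K E := by
      have h7 : 0 < finrank K E := finrank_pos
      rcases Nat.lt_or_ge (finrank K E) 2 with h8 | h8
      · have h9 : finrank K E = 1 := by omega
        rw [h9, mul_one] at h2
        exact absurd h2 hne
      · exact h8
    refine n1 (m := m) hq h5 ?_ hN h4
    calc 2 * finrank F K = finrank F K * 2 := mul_comm _ _
      _ ≤ finrank F K * finrank K E := Nat.mul_le_mul_left _ h6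
      _ = m := h2
  -- the roots
  have hroot : ∀ θ : E, aeval θ (minpoly F ξ) = 0 → ∃ j < m, θ = ξ ^ (q ^ 2) ^ j := by
    intro θ hθ
    obtain ⟨τ, hτ⟩ := minpoly.exists_algEquiv_of_root' (hint.isAlgebraic) hθ
    obtain ⟨i, hi, hiτ⟩ := FiniteField.Extension.exists_frob_pow_eq F p m τ
    refine ⟨i, hi, ?_⟩
    rw [← hτ, ← hiτ, FiniteField.Extension.frob_iterate_apply, Nat.card_eq_fintype_card, hF]
  refine ⟨minpoly F ξ, minpoly.irreducible hint, minpoly.monic hint, hdeg, ?_, ?_, ?_⟩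
  · -- the constant term
    have h1 := coeff_zero_eq (F := F) (x := ξ) (by rw [hdeg, hEfin])
    have h2 : (Algebra.norm F ξ) ^ (q - 1) = 1 := by
      apply (algebraMap F E).injective
      rw [map_pow, FiniteField.algebraMap_norm_eq_pow, map_one, ← pow_mul, hord, hEcard,
        Nat.card_eq_fintype_card, hF]
      have h3 : q ^ 2 - 1 ∣ (q ^ 2) ^ m - 1 := by
        simpa using Nat.sub_dvd_pow_sub_pow (q ^ 2) 1 m
      obtain ⟨S, hS⟩ := h3
      have h4 : 0 < q ^ 2 - 1 := by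
        have : 4 ≤ q ^ 2 := by nlinarith
        omega
      rw [hS, Nat.mul_div_cancel_left _ h4]
      have h5 : q ^ 2 - 1 = (q - 1) * (q + 1) := by
        obtain ⟨r, rfl⟩ : ∃ r, q = r + 1 := ⟨q - 1, by omega⟩
        have : (r + 1) ^ 2 = r * (r + 1 + 1) + 1 := by ring
        rw [this]; simp
      have h6 : N * (q + 1) = (S * (q - 1)) * (q + 1) := by rw [hN, hS, h5]; ring
      rw [Nat.eq_of_mul_eq_mul_right (by omega) h6]
    have h3 : σ (Algebra.norm F ξ) = Algebra.norm F ξ := by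
      rw [hσ]
      conv_lhs => rw [show q = (q - 1) + 1 by omega]
      rw [pow_succ, h2, one_mul]
    rw [h1, map_mul, map_pow, map_neg, map_one] at h3
    exact mul_left_cancel₀ (pow_ne_zero _ (neg_ne_zero.2 one_ne_zero)) h3
  · -- coprime to the reverse
    rw [(minpoly.irreducible hint).coprime_iff_not_dvd]
    intro hdv
    have h1 : aeval ξ (((minpoly F ξ).map σ).reverse) = 0 := by
      obtain ⟨g, hg⟩ := hdv
      rw [hg, map_mul, minpoly.aeval, zero_mul]
    let _ : Invertible (ξ⁻¹) := invertibleOfNonzero (inv_ne_zero hξ0)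
    have h2 : aeval ξ⁻¹ ((minpoly F ξ).map σ) = 0 := by
      have h3 := eval₂_reverse_eq_zero_iff (algebraMap F E) ξ⁻¹ ((minpoly F ξ).map σ)
      rw [invOf_eq_inv, inv_inv] at h3
      exact h3.1 h1
    let φ : E →+* E := iterateFrobenius E p k
    have hφ : ∀ x, φ x = x ^ q := fun x => by rw [hk]; exact iterateFrobenius_def p k x
    have hcomp : (algebraMap F E).comp σ = φ.comp (algebraMap F E) := by
      ext a
      simp [hφ, hσ]
    obtain ⟨θ, hθ⟩ : ∃ θ, φ θ = ξ⁻¹ := (Finite.injective_iff_surjective.1 φ.injective) _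
    have h4 : aeval θ (minpoly F ξ) = 0 := by
      apply φ.injective
      rw [map_zero, ← h2, aeval_def, aeval_def, eval₂_map, hcomp, ← hθ, hom_eval₂]
    obtain ⟨j, hj, hjθ⟩ := hroot θ h4
    have h5 : ξ ^ ((q ^ 2) ^ j * q + 1) = 1 := by
      rw [pow_succ, pow_mul, ← hjθ, ← hφ, hθ, inv_mul_cancel₀ hξ0]
    exact n2 hq hm hj hN ((hord _).1 h5)
  · -- scaling
    intro l hl hl1 hcon
    have h1 := scaleRoots_aeval_eq_zero (R := F) (A := E) (p := minpoly F ξ) (a := ξ) (r := l)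
      (minpoly.aeval F ξ)
    rw [hcon] at h1
    obtain ⟨j, hj, hjl⟩ := hroot _ h1
    have hpos : 1 ≤ (q ^ 2) ^ j := Nat.one_le_pow _ _ (by positivity)
    have h2 : algebraMap F E l = ξ ^ ((q ^ 2) ^ j - 1) := by
      apply mul_right_cancel₀ hξ0
      rw [hjl, ← pow_succ, Nat.sub_add_cancel hpos]
    have h3 : ξ ^ (((q ^ 2) ^ j - 1) * (q + 1)) = 1 := by
      rw [pow_mul, ← h2, ← map_pow, hl, map_one]
    rcases Nat.eq_zero_or_pos j with h0 | h0
    · apply hl1
      apply (algebraMap F E).injective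
      rw [h2, h0, map_one]; simp
    · exact n3 hq h0 hj hN ((hord _).1 h3)

end fld

end Cfsg.Agent.H117.OrePoly
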