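import Cfsg.Agent.H117.Tw

/-!
# Counting vectors of given norm class
-/

set_option autoImplicit false

namespace Cfsg.Agent.H117

open QuadraticMap Cfsg.Agent.LieClassical.OrthCore Cfsg.Agent.LieClassical.OrthTrans
open Cfsg.Agent.LieClassical.OrthCount (hypSum hypSum_apply polar_hypSum)

section

variable {F W : Type*} [Field F] [AddCommGroup W] [Module F W] [Fintype F] [Fintype W]
  (Q : QuadraticForm F W)

open Classical in
/-- nonzero vectors whose norm is a nonzero square times `c` -/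
noncomputable def cls (c : F) : Finset (W × F × F) :=
  Finset.univ.filter fun u => u ≠ 0 ∧ ∃ a : Fˣ, hypSum Q u = (a : F) ^ 2 * c

theorem mem_cls {c : F} {u : W × F × F} :
    u ∈ cls Q c ↔ u ≠ 0 ∧ ∃ a : Fˣ, hypSum Q u = (a : F) ^ 2 * c := by
  simp [cls]

theorem zero_notMem_cls {c : F} : (0 : W × F × F) ∉ cls Q c := by
  rw [mem_cls]
  exact fun h => h.1 rfl

theorem card_cls_ns {c : F} (hc : c ≠ 0) :
    Fintype.card W * (Fintype.card F - 1) ^ 2 ≤ 2 * (cls Q c).card := by
  classical
  let f : W × Fˣ × Fˣ → W × F × F := fun p =>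
    (p.1, (p.2.1 : F), (((p.2.2 : F) ^ 2 * c) - Q p.1) / (p.2.1 : F))
  have h1 : (Finset.univ : Finset (W × Fˣ × Fˣ)).image f ⊆ cls Q c := by
    intro u hu
    obtain ⟨⟨w, x, a⟩, -, rfl⟩ := Finset.mem_image.1 hu
    have hx : (x : F) ≠ 0 := x.ne_zero
    rw [mem_cls]
    refine ⟨?_, a, ?_⟩
    · intro h
      have h3 : (x : F) = 0 := congrArg (fun z : W × F × F => z.2.1) h
      exact hx h3
    · rw [hypSum_apply]
      simp only [f]
      field_simp
      ring
  have h2 : (Finset.univ : Finset (W × Fˣ × Fˣ)).card ≤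
      2 * ((Finset.univ : Finset (W × Fˣ × Fˣ)).image f).card := by
    apply Finset.card_le_mul_card_image
    intro b hb
    obtain ⟨⟨w, x, a⟩, -, rfl⟩ := Finset.mem_image.1 hb
    have h3 : (Finset.univ.filter fun p => f p = f (w, x, a)) ⊆ {(w, x, a), (w, x, -a)} := by
      rintro ⟨w', x', a'⟩ h
      rw [Finset.mem_filter] at h
      have h4 := h.2
      have e1 : w' = w := congrArg (fun z : W × F × F => z.1) h4
      have e2 : (x' : F) = x := congrArg (fun z : W × F × F => z.2.1) h4
      have e3 : ((((a' : Fˣ) : F) ^ 2 * c) - Q w') / (x' : F) = (((a : F) ^ 2 * c) - Q w) / (x : F) :=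
        congrArg (fun z : W × F × F => z.2.2) h4
      have hx : (x : F) ≠ 0 := x.ne_zero
      rw [e1, e2, div_left_inj' hx] at e3
      have e4 : (a' : F) ^ 2 = (a : F) ^ 2 := by
        apply mul_right_cancel₀ hc
        linear_combination e3
      have e5 : x' = x := Units.ext e2
      rw [e1, e5, Finset.mem_insert, Finset.mem_singleton]
      rcases sq_eq_sq_iff_eq_or_eq_neg.1 e4 with h5 | h5
      · left
        rw [Units.ext h5]
      · right
        have : a' = -a := Units.ext (by rw [h5, Units.val_neg])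
        rw [this]
    exact (Finset.card_le_card h3).trans Finset.card_le_two
  rw [Finset.card_univ, Fintype.card_prod, Fintype.card_prod, Fintype.card_units] at h2
  calc Fintype.card W * (Fintype.card F - 1) ^ 2
      = Fintype.card W * ((Fintype.card F - 1) * (Fintype.card F - 1)) := by ring
    _ ≤ _ := h2
    _ ≤ _ := Nat.mul_le_mul_left 2 (Finset.card_le_card h1)

theorem card_cls_zero {k : ℕ} (h : TF (k + 1) (hypSum Q)) :
    (cls Q 0).card = Fintype.card F ^ (2 * k + 2) - 1 := by
  classical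
  have h1 := h.sing
  have h2 : insert (0 : W × F × F) (cls Q 0) = Finset.univ.filter fun u : W × F × F => hypSum Q u = 0 := by
    ext u
    rw [Finset.mem_insert, mem_cls, Finset.mem_filter]
    constructor
    · rintro (rfl | ⟨-, a, ha⟩)
      · exact ⟨Finset.mem_univ _, QuadraticMap.map_zero _⟩
      · exact ⟨Finset.mem_univ _, by rw [ha, mul_zero]⟩
    · rintro ⟨-, hu⟩
      by_cases h0 : u = 0
      · exact Or.inl h0
      · exact Or.inr ⟨h0, 1, by rw [hu, mul_zero]⟩
  have h3 : (Finset.univ.filter fun u : W × F × F => hypSum Q u = 0).card =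
      Fintype.card F ^ (2 * k + 2) := by
    rw [Nat.card_eq_fintype_card, Fintype.card_subtype, Nat.card_eq_fintype_card] at h1
    rw [h1]
    congr 1
  rw [← h2, Finset.card_insert_of_notMem (zero_notMem_cls Q)] at h3
  omega

/-- numerical facts -/
theorem num1 (q k : ℕ) (hq : 5 ≤ q) : 2 * (q ^ (2 * k + 2) - 1) ≤ q ^ (2 * k + 1) * (q - 1) ^ 2 := by
  obtain ⟨r, rfl⟩ : ∃ r, q = r + 5 := ⟨q - 5, by omega⟩
  have h1 : r + 5 - 1 = r + 4 := by omega
  rw [h1]
  have h2 : (r + 5) ^ (2 * k + 2) = (r + 5) ^ (2 * k + 1) * (r + 5) := by rw [← pow_succ]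
  rw [h2]
  have h3 : 2 * (r + 5) ≤ (r + 4) ^ 2 := by nlinarith
  calc 2 * ((r + 5) ^ (2 * k + 1) * (r + 5) - 1) ≤ 2 * ((r + 5) ^ (2 * k + 1) * (r + 5)) := by omega
    _ = (r + 5) ^ (2 * k + 1) * (2 * (r + 5)) := by ring
    _ ≤ _ := Nat.mul_le_mul_left _ h3

theorem card_cls {k : ℕ} (h : TF k Q) (h' : TF (k + 1) (hypSum Q)) (hq : 5 ≤ Fintype.card F) (c : F) :
    Fintype.card F ^ (2 * k + 2) - 1 ≤ (cls Q c).card := by
  by_cases hc : c = 0
  · rw [hc, card_cls_zero Q h']
  · have h1 := card_cls_ns Q hc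
    have h2 := h.card
    rw [Nat.card_eq_fintype_card, Nat.card_eq_fintype_card] at h2
    rw [h2] at h1
    have h3 := num1 (Fintype.card F) k hq
    omega

end

end Cfsg.Agent.H117
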