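import Cfsg.Agent.H117.Two

/-!
# Generation and transitivity for `W ⟂ H`
-/

set_option autoImplicit false

namespace Cfsg.Agent.H117

open QuadraticMap Cfsg.Agent.LieClassical.OrthCore Cfsg.Agent.LieClassical.OrthTrans
open Cfsg.Agent.LieClassical.OrthCount (hypSum hypSum_apply polar_hypSum)

variable {F W : Type*} [Field F] [AddCommGroup W] [Module F W] {Q : QuadraticForm F W}

/-- the Weyl element attached to a nonsingular vector -/
theorem om_apply {w0 : W} (h0 : Q w0 ≠ 0) (a : W) (x y : F) :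
    (sE Q w0 * sF Q ((Q w0)⁻¹ • w0) * sE Q w0) (a, x, y) =
      (a - ((Q w0)⁻¹ * polar Q w0 a) • w0, -(Q w0) * y, -(Q w0)⁻¹ * x) := by
  rw [LinearEquiv.mul_apply, LinearEquiv.mul_apply, sE_apply, sF_apply, sE_apply]
  simp only [QuadraticMap.map_smul, polar_add_right, polar_smul_right, polar_smul_left, polar_self',
    smul_eq_mul]
  ext
  · simp only
    match_scalars
    · ring
    · field_simp
      ring
  · simp only
    field_simp
    ring
  · simp only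
    field_simp
    ring

theorem om_mem {w0 : W} :
    sE Q w0 * sF Q ((Q w0)⁻¹ • w0) * sE Q w0 ∈ E (hypSum Q) :=
  (E _).mul_mem ((E _).mul_mem (sE_mem Q _) (sF_mem Q _)) (sE_mem Q _)

theorem io_sq_mem {w0 : W} (h0 : Q w0 ≠ 0) (c : Fˣ) : io (c ^ 2) (1 : W ≃ₗ[F] W) ∈ E (hypSum Q) := by
  have hc : (c : F) ≠ 0 := c.ne_zero
  have h1 : Q ((c : F) • w0) ≠ 0 := by
    rw [QuadraticMap.map_smul, smul_eq_mul]
    exact mul_ne_zero (mul_ne_zero hc hc) h0
  have h2 : io (c ^ 2) (1 : W ≃ₗ[F] W) =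
      (sE Q ((c : F) • w0) * sF Q ((Q ((c : F) • w0))⁻¹ • ((c : F) • w0)) * sE Q ((c : F) • w0)) *
        (sE Q w0 * sF Q ((Q w0)⁻¹ • w0) * sE Q w0) := by
    apply LinearEquiv.ext
    rintro ⟨a, x, y⟩
    rw [LinearEquiv.mul_apply (sE Q ((c : F) • w0) * _ * _), om_apply h0, om_apply h1, io_apply]
    simp only [QuadraticMap.map_smul, polar_sub_right, polar_smul_right, polar_smul_left,
      polar_self', smul_eq_mul, Units.val_pow_eq_pow_val, LinearEquiv.coe_one, id_eq]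
    ext
    · simp only
      match_scalars
      · ring
      · field_simp
        ring
    · simp only
      field_simp
    · simp only
      field_simp
  rw [h2]
  exact (E _).mul_mem om_mem om_mem

theorem smul_e0 (c : F) : c • e0 F W = (0, c, 0) := by
  ext <;> simp [e0]

theorem exists_to_e0 (h2 : (2 : F) ≠ 0) (hQ : Nondeg Q) {w0 : W} (h0 : Q w0 ≠ 0) {u : W × F × F}
    (hu : hypSum Q u = 0) (hu0 : u ≠ 0) : ∃ g ∈ E (hypSum Q), ∃ c : Fˣ, g u = (c : F) • e0 F W := by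
  -- the case of nonzero last coordinate
  have key : ∀ (w : W) (x y : F), hypSum Q (w, x, y) = 0 → y ≠ 0 →
      ∃ g ∈ E (hypSum Q), ∃ c : Fˣ, g (w, x, y) = (c : F) • e0 F W := by
    intro w x y h hy
    have hq : Q w + x * y = 0 := h
    refine ⟨(sE Q w0 * sF Q ((Q w0)⁻¹ • w0) * sE Q w0) * sE Q (-y⁻¹ • w),
      (E _).mul_mem om_mem (sE_mem Q _), Units.mk0 (-(Q w0) * y) (mul_ne_zero (neg_ne_zero.2 h0) hy), ?_⟩
    rw [LinearEquiv.mul_apply (_ * _ * _), sE_apply, om_apply h0, smul_e0]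
    have e1 : w + y • -y⁻¹ • w = 0 := by
      rw [smul_smul]
      have : y * -y⁻¹ = -1 := by field_simp
      rw [this]
      module
    have e2 : x - polar Q (-y⁻¹ • w) w - Q (-y⁻¹ • w) * y = 0 := by
      rw [QuadraticMap.map_smul, polar_smul_left, polar_self', smul_eq_mul, smul_eq_mul]
      have : x = -(Q w) / y := by
        field_simp
        linear_combination hq
      rw [this]
      field_simp
      ring
    rw [e1, e2]
    simp
  obtain ⟨w, x, y⟩ := u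
  by_cases hy : y = 0
  · subst hy
    have hq : Q w = 0 := by
      have : Q w + x * 0 = 0 := hu
      rwa [mul_zero, add_zero] at this
    by_cases hw : w = 0
    · subst hw
      have hx : x ≠ 0 := by
        rintro rfl
        exact hu0 rfl
      exact ⟨1, (E _).one_mem, Units.mk0 x hx, by rw [smul_e0]; rfl⟩
    · obtain ⟨v0, hv0⟩ := hQ.exists_polar_eq hw 1
      have hv0' : polar Q v0 w = 1 := by rw [polar_comm]; exact hv0
      obtain ⟨v, hv⟩ : ∃ v : W, (0 : F) - polar Q v w - Q v * x ≠ 0 := by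
        by_cases h1 : (0 : F) - polar Q v0 w - Q v0 * x = 0
        · refine ⟨-v0, ?_⟩
          rw [polar_neg_left, QuadraticMap.map_neg, hv0']
          rw [hv0'] at h1
          intro h3
          apply h2
          linear_combination h3 - h1
        · exact ⟨v0, h1⟩
      have h3 : hypSum Q (sF Q v (w, x, 0)) = 0 := by
        rw [mem_O.1 (E_le_O (sF_mem Q v))]
        exact hu
      rw [sF_apply] at h3
      obtain ⟨g, hg, c, hc⟩ := key _ _ _ h3 hv
      exact ⟨g * sF Q v, (E _).mul_mem hg (sF_mem Q v), c, by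
        rw [LinearEquiv.mul_apply, sF_apply, hc]⟩
  · exact key w x y hu hy

/-- every isometry of `W ⟂ H` is a product of an element of `E` and of `io c s` -/
theorem exists_decomp (h2 : (2 : F) ≠ 0) (hQ : Nondeg Q) {w0 : W} (h0 : Q w0 ≠ 0)
    {g : (W × F × F) ≃ₗ[F] (W × F × F)} (hg : g ∈ O (hypSum Q)) :
    ∃ e ∈ E (hypSum Q), ∃ (c : Fˣ), ∃ s ∈ O Q, g = e * io c s := by
  have hs : hypSum Q (g (e0 F W)) = 0 := by
    rw [mem_O.1 hg]
    exact (hyp0 Q).left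
  have hne : g (e0 F W) ≠ 0 := by
    intro h
    have : e0 F W = 0 := by
      apply g.injective
      rw [h, map_zero]
    exact (hyp0 Q).left_ne this
  obtain ⟨e, he, c, hc⟩ := exists_to_e0 h2 hQ h0 hs hne
  have h1 : io c⁻¹ (1 : W ≃ₗ[F] W) * e * g ∈ O (hypSum Q) :=
    (O _).mul_mem ((O _).mul_mem (io_mem_O.2 (O _).one_mem) (E_le_O he)) hg
  have h3 : (io c⁻¹ (1 : W ≃ₗ[F] W) * e * g) (e0 F W) = e0 F W := by
    rw [LinearEquiv.mul_apply, LinearEquiv.mul_apply, hc, smul_e0, io_apply]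
    simp [e0]
  have h4 := (hyp0 Q).map h1
  rw [h3] at h4
  obtain ⟨e2, he2, e3, e4⟩ := siegel_partner (hyp0 Q) h4
  have h5 : e2⁻¹ * (io c⁻¹ (1 : W ≃ₗ[F] W) * e * g) ∈ O (hypSum Q) := (O _).mul_mem ((O _).inv_mem (E_le_O he2)) h1
  obtain ⟨s, hs, h6⟩ := exists_io_of_fix h5
    (by
      rw [LinearEquiv.mul_apply, h3]
      conv_lhs => rw [← e3]
      exact LinearEquiv.symm_apply_apply e2 _)
    (by
      rw [LinearEquiv.mul_apply, ← e4]
      exact LinearEquiv.symm_apply_apply e2 _)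
  refine ⟨e⁻¹ * (io c 1 * e2 * (io c 1)⁻¹),
    (E _).mul_mem ((E _).inv_mem he) (conj_mem_E (io_mem_O.2 (O _).one_mem) he2), c, s, hs, ?_⟩
  have h7 : io c s = io c 1 * io 1 s := by rw [io_mul, mul_one, one_mul]
  rw [h7, ← h6, io_inv, inv_one]
  have h8 : (io c⁻¹ (1 : W ≃ₗ[F] W)) * io c 1 = 1 := by rw [io_mul, inv_mul_cancel, mul_one, io_one]
  have h9 : (io c (1 : W ≃ₗ[F] W)) * io c⁻¹ 1 = 1 := by rw [io_mul, mul_inv_cancel, mul_one, io_one]
  calc g = e⁻¹ * (e * g) := by group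
    _ = e⁻¹ * (io c (1 : W ≃ₗ[F] W) * io c⁻¹ 1) * (e * g) := by rw [h9, mul_one]
    _ = e⁻¹ * (io c 1 * e2 * (io c⁻¹ 1 * io c 1)) * (e2⁻¹ * (io c⁻¹ 1 * e * g)) := by
        rw [h8]; group
    _ = _ := by group

/-- `DD Q`: every rotation `s` of `W` has `io a s ∈ E` for some `a` -/
def DD (Q : QuadraticForm F W) : Prop := ∀ s ∈ SO Q, ∃ a : Fˣ, io a s ∈ E (hypSum Q)

variable [Finite F] [FiniteDimensional F W]

theorem SO_decomp (h2 : (2 : F) ≠ 0) (hQ : Nondeg Q) {w0 : W} (h0 : Q w0 ≠ 0) (hD : DD Q)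
    {g : (W × F × F) ≃ₗ[F] (W × F × F)} (hg : g ∈ SO (hypSum Q)) :
    ∃ e ∈ E (hypSum Q), ∃ c : Fˣ, g = e * io c 1 := by
  obtain ⟨e, he, c, s, hs, rfl⟩ := exists_decomp h2 hQ h0 (SO_le_O hg)
  have h1 : io c s ∈ SO (hypSum Q) := by
    have := (SO (hypSum Q)).mul_mem ((SO (hypSum Q)).inv_mem (E_le_SO he)) hg
    rwa [inv_mul_cancel_left] at this
  obtain ⟨a, ha⟩ := hD s (io_mem_SO.1 h1)
  refine ⟨e * io a s, (E _).mul_mem he ha, a⁻¹ * c, ?_⟩
  rw [mul_assoc, io_mul, mul_one, mul_inv_cancel_left]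

theorem DD_step (h2 : (2 : F) ≠ 0) (hQ : Nondeg Q) {w0 : W} (h0 : Q w0 ≠ 0) (hD : DD Q) :
    DD (hypSum Q) := by
  intro g hg
  obtain ⟨e, he, c, rfl⟩ := SO_decomp h2 hQ h0 hD hg
  refine ⟨c, ?_⟩
  have : io c (e * io c 1) = io 1 e * io c (io c 1) := by rw [io_mul, one_mul]
  rw [this]
  exact (E _).mul_mem (io_mem_E he) (zz_mem Q c)

/-! ### transitivity of `SO` -/

theorem SO_to_e0 (h2 : (2 : F) ≠ 0) (hQ : Nondeg Q) {w0 : W} (h0 : Q w0 ≠ 0) {u : W × F × F}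
    (hu : hypSum Q u = 0) (hu0 : u ≠ 0) : ∃ g ∈ SO (hypSum Q), g u = e0 F W := by
  obtain ⟨g, hg, c, hc⟩ := exists_to_e0 h2 hQ h0 hu hu0
  refine ⟨io c⁻¹ 1 * g, (SO _).mul_mem (io_mem_SO.2 (SO _).one_mem) (E_le_SO hg), ?_⟩
  rw [LinearEquiv.mul_apply, hc, smul_e0, io_apply]
  simp [e0]

theorem SO_to_hyp (h2 : (2 : F) ≠ 0) (hQ : Nondeg Q) {w0 : W} (h0 : Q w0 ≠ 0) {u v : W × F × F}
    (h : Hyp (hypSum Q) u v) : ∃ g ∈ SO (hypSum Q), g u = e0 F W ∧ g v = f0 F W := by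
  obtain ⟨g, hg, e⟩ := SO_to_e0 h2 hQ h0 h.left h.left_ne
  have h1 := h.map (SO_le_O hg)
  rw [e] at h1
  obtain ⟨g2, hg2, e2, e3⟩ := siegel_partner h1 (hyp0 Q)
  refine ⟨g2 * g, (SO _).mul_mem (E_le_SO hg2) hg, ?_, ?_⟩
  · rw [LinearEquiv.mul_apply, e, e2]
  · rw [LinearEquiv.mul_apply, e3]

/-- `SO` is transitive on nonzero vectors of given norm -/
theorem SO_trans (h2 : (2 : F) ≠ 0) (hQ : Nondeg Q) (hQ' : Nondeg (hypSum Q)) {w0 : W} (h0 : Q w0 ≠ 0)
    {u v : W × F × F} (hu : u ≠ 0) (hv : v ≠ 0) (h : hypSum Q u = hypSum Q v) :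
    ∃ g ∈ SO (hypSum Q), g u = v := by
  obtain ⟨x1, y1, h1, e1⟩ := exists_hyp_decomp hQ' (hyp0 Q) hu
  obtain ⟨x2, y2, h3, e2⟩ := exists_hyp_decomp hQ' (hyp0 Q) hv
  obtain ⟨g, hg, g1, g2⟩ := SO_to_hyp h2 hQ h0 h1
  obtain ⟨k, hk, k1, k2⟩ := SO_to_hyp h2 hQ h0 h3
  refine ⟨k⁻¹ * g, (SO _).mul_mem ((SO _).inv_mem hk) hg, ?_⟩
  have h4 : g u = k v := by
    conv_lhs => rw [e1]
    conv_rhs => rw [e2]
    rw [map_add, map_smul, map_add, map_smul, g1, g2, k1, k2, h]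
  rw [LinearEquiv.mul_apply, h4]
  exact LinearEquiv.symm_apply_apply k _

omit [Finite F] [FiniteDimensional F W] in
theorem nondeg_hypSum (hQ : Nondeg Q) : Nondeg (hypSum Q) := by
  rintro ⟨w, x, y⟩ h
  have h1 := h (0, 1, 0)
  have h2 := h (0, 0, 1)
  rw [polar_hypSum] at h1 h2
  have hy : y = 0 := by simpa using h1
  have hx : x = 0 := by simpa using h2
  have hw : w = 0 := by
    apply hQ
    intro v
    have := h (v, 0, 0)
    rw [polar_hypSum] at this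
    simpa using this
  rw [hx, hy, hw]
  rfl

/-! ### the base -/

omit [Finite F] in
theorem DD_sq : DD (QuadraticMap.sq (R := F)) := by
  intro s hs
  have h1 : s = 1 := by
    have hd := (mem_SO.1 hs).2
    have h3 : (LinearEquiv.det s : F) = s 1 := by
      rw [LinearEquiv.coe_det, LinearMap.det_ring]
      rfl
    rw [hd, Units.val_one] at h3
    apply LinearEquiv.ext
    intro x
    have : s x = x • s 1 := by rw [← map_smul, smul_eq_mul, mul_one]
    rw [this, ← h3]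
    simp
  refine ⟨1, ?_⟩
  rw [h1, io_one]
  exact Subgroup.one_mem _

end Cfsg.Agent.H117
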