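import Cfsg.Agent.LieClassical.OrthTrans
import Cfsg.Agent.LieClassical.OrthCount

/-!
# Elements of the isometry group of `W ⟂ H`

`hypSum Q` on `W × F × F`.  `sE Q v`, `sF Q v`: Siegel transformations based on the two standard singular vectors;
`io c s : (a, x, y) ↦ (s a, c x, c⁻¹ y)`.
-/

set_option autoImplicit false

namespace Cfsg.Agent.H117

open QuadraticMap Cfsg.Agent.LieClassical.OrthCore Cfsg.Agent.LieClassical.OrthTrans
open Cfsg.Agent.LieClassical.OrthCount (hypSum hypSum_apply polar_hypSum)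

section SOdef

variable {F W : Type*} [Field F] [AddCommGroup W] [Module F W]

/-! ### special orthogonal group -/

/-- isometries of determinant one -/
noncomputable def SO (Q : QuadraticForm F W) : Subgroup (W ≃ₗ[F] W) := O Q ⊓ LinearEquiv.det.ker

variable {Q : QuadraticForm F W}

theorem mem_SO {g : W ≃ₗ[F] W} : g ∈ SO Q ↔ g ∈ O Q ∧ LinearEquiv.det g = 1 := by
  rw [SO, Subgroup.mem_inf, MonoidHom.mem_ker]

theorem SO_le_O : SO Q ≤ O Q := inf_le_left

theorem siegel_zero {u : W} (hu : Q u = 0) (h : polar Q u 0 = 0) : siegel Q u 0 hu h = 1 := by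
  ext v
  rw [siegel_apply]
  simp

theorem siegel_pow {u w : W} (hu : Q u = 0) (hw : polar Q u w = 0) (n : ℕ) :
    ∃ h, siegel Q u w hu hw ^ n = siegel Q u ((n : F) • w) hu h := by
  induction n with
  | zero =>
    refine ⟨by simp, ?_⟩
    rw [pow_zero]
    ext v
    rw [siegel_apply]
    simp
  | succ n ih =>
    obtain ⟨h, e⟩ := ih
    have h' : polar Q u ((n : F) • w + w) = 0 := by rw [polar_add_right, h, hw, add_zero]
    have h'' : polar Q u (((n + 1 : ℕ) : F) • w) = 0 := by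
      rw [Nat.cast_add, Nat.cast_one, add_smul, one_smul]
      exact h'
    refine ⟨h'', ?_⟩
    rw [pow_succ, e, siegel_mul hu h hw h']
    have : (n : F) • w + w = ((n + 1 : ℕ) : F) • w := by
      rw [Nat.cast_add, Nat.cast_one, add_smul, one_smul]
    ext v
    rw [siegel_apply, siegel_apply, this]

theorem det_siegel [Finite F] {u w : W} (hu : Q u = 0) (hw : polar Q u w = 0) :
    LinearEquiv.det (siegel Q u w hu hw) = 1 := by
  obtain ⟨p, hp⟩ := CharP.exists F
  have hpp : p.Prime := by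
    rcases CharP.char_is_prime_or_zero F p with h | h
    · exact h
    · subst h
      have : CharZero F := CharP.charP_to_charZero F
      have : Infinite F := CharZero.infinite F
      exact (not_finite F).elim
  have : Fact p.Prime := ⟨hpp⟩
  obtain ⟨h, e⟩ := siegel_pow hu hw p
  have e1 : siegel Q u w hu hw ^ p = 1 := by
    rw [e]
    ext v
    rw [siegel_apply, CharP.cast_eq_zero]
    simp
  have e2 : (LinearEquiv.det (siegel Q u w hu hw)) ^ p = 1 := by
    rw [← map_pow, e1, map_one]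
  have e3 : ((LinearEquiv.det (siegel Q u w hu hw) : Fˣ) : F) ^ p = 1 ^ p := by
    rw [← Units.val_pow_eq_pow_val, e2, Units.val_one, one_pow]
  apply Units.ext
  exact frobenius_inj F p e3

theorem E_le_SO [Finite F] : E Q ≤ SO Q := by
  rw [E, Subgroup.closure_le]
  rintro _ ⟨u, w, hu, hw, rfl⟩
  exact mem_SO.2 ⟨siegel_mem_O hu hw, det_siegel hu hw⟩

end SOdef

section El

variable {F W : Type*} [Field F] [AddCommGroup W] [Module F W] (Q : QuadraticForm F W)

/-- first standard singular vector -/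
def e0 (F W : Type*) [Field F] [AddCommGroup W] : W × F × F := (0, 1, 0)

/-- second standard singular vector -/
def f0 (F W : Type*) [Field F] [AddCommGroup W] : W × F × F := (0, 0, 1)

theorem hyp0 : Hyp (hypSum Q) (e0 F W) (f0 F W) := by
  refine ⟨?_, ?_, ?_⟩
  · simp [hypSum_apply, e0]
  · simp [hypSum_apply, f0]
  · rw [polar_hypSum]; simp [e0, f0]

theorem polar_e0 (v : W) : polar (hypSum Q) (e0 F W) (v, 0, 0) = 0 := by
  rw [polar_hypSum]; simp [e0]

theorem polar_f0 (v : W) : polar (hypSum Q) (f0 F W) (v, 0, 0) = 0 := by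
  rw [polar_hypSum]; simp [f0]

/-- Siegel transformation based on the first standard vector -/
def sE (v : W) : (W × F × F) ≃ₗ[F] (W × F × F) :=
  siegel (hypSum Q) (e0 F W) (v, 0, 0) (hyp0 Q).left (polar_e0 Q v)

/-- Siegel transformation based on the second standard vector -/
def sF (v : W) : (W × F × F) ≃ₗ[F] (W × F × F) :=
  siegel (hypSum Q) (f0 F W) (v, 0, 0) (hyp0 Q).right (polar_f0 Q v)

theorem sE_apply (v a : W) (x y : F) :
    sE Q v (a, x, y) = (a + y • v, x - polar Q v a - Q v * y, y) := by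
  rw [sE, siegel_apply, polar_hypSum, polar_hypSum, hypSum_apply]
  ext <;> simp [e0]

theorem sF_apply (v a : W) (x y : F) :
    sF Q v (a, x, y) = (a + x • v, x, y - polar Q v a - Q v * x) := by
  rw [sF, siegel_apply, polar_hypSum, polar_hypSum, hypSum_apply]
  ext <;> simp [f0]

theorem sE_mem (v : W) : sE Q v ∈ E (hypSum Q) := siegel_mem_E _ _

theorem sF_mem (v : W) : sF Q v ∈ E (hypSum Q) := siegel_mem_E _ _

theorem sE_add (v w : W) : sE Q (v + w) = sE Q v * sE Q w := by
  apply LinearEquiv.ext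
  rintro ⟨a, x, y⟩
  rw [LinearEquiv.mul_apply, sE_apply, sE_apply, sE_apply, Q_add, polar_add_right, polar_add_left,
    polar_smul_right]
  ext
  · simp only [smul_add]; abel
  · simp only [smul_eq_mul]; ring
  · rfl

theorem sE_zero : sE Q (0 : W) = 1 := by
  apply LinearEquiv.ext
  rintro ⟨a, x, y⟩
  rw [sE_apply]
  simp

theorem sF_add (v w : W) : sF Q (v + w) = sF Q v * sF Q w := by
  apply LinearEquiv.ext
  rintro ⟨a, x, y⟩
  rw [LinearEquiv.mul_apply, sF_apply, sF_apply, sF_apply, Q_add, polar_add_right, polar_add_left,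
    polar_smul_right]
  ext
  · simp only [smul_add]; abel
  · rfl
  · simp only [smul_eq_mul]; ring

theorem sF_zero : sF Q (0 : W) = 1 := by
  apply LinearEquiv.ext
  rintro ⟨a, x, y⟩
  rw [sF_apply]
  simp

/-- `(a, x, y) ↦ (s a, c x, c⁻¹ y)` -/
def io (c : Fˣ) (s : W ≃ₗ[F] W) : (W × F × F) ≃ₗ[F] (W × F × F) :=
  LinearEquiv.prodCongr s
    (LinearEquiv.prodCongr (LinearEquiv.smulOfUnit c) (LinearEquiv.smulOfUnit c⁻¹))

theorem io_apply (c : Fˣ) (s : W ≃ₗ[F] W) (a : W) (x y : F) :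
    io c s (a, x, y) = (s a, (c : F) * x, (c : F)⁻¹ * y) := by
  rw [io, LinearEquiv.prodCongr_apply, LinearEquiv.prodCongr_apply]
  simp [LinearEquiv.smulOfUnit, Units.smul_def]

theorem io_mul (c c' : Fˣ) (s s' : W ≃ₗ[F] W) : io c s * io c' s' = io (c * c') (s * s') := by
  apply LinearEquiv.ext
  rintro ⟨a, x, y⟩
  rw [LinearEquiv.mul_apply, io_apply, io_apply, io_apply, LinearEquiv.mul_apply]
  ext
  · rfl
  · simp [mul_assoc]
  · simp [mul_comm, mul_left_comm]

theorem io_one : io (1 : Fˣ) (1 : W ≃ₗ[F] W) = 1 := by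
  apply LinearEquiv.ext
  rintro ⟨a, x, y⟩
  rw [io_apply]
  simp

theorem io_inv (c : Fˣ) (s : W ≃ₗ[F] W) : (io c s)⁻¹ = io c⁻¹ s⁻¹ := by
  rw [inv_eq_iff_mul_eq_one, io_mul, mul_inv_cancel, mul_inv_cancel, io_one]

variable {Q} in
theorem io_mem_O {c : Fˣ} {s : W ≃ₗ[F] W} : io c s ∈ O (hypSum Q) ↔ s ∈ O Q := by
  constructor
  · intro h v
    have := h (v, 0, 0)
    rw [io_apply, hypSum_apply, hypSum_apply] at this
    simpa using this
  · rintro h ⟨a, x, y⟩
    rw [io_apply, hypSum_apply, hypSum_apply]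
    simp only
    rw [mem_O.1 h]
    have : (c : F) ≠ 0 := c.ne_zero
    field_simp

theorem det_io [FiniteDimensional F W] (c : Fˣ) (s : W ≃ₗ[F] W) :
    LinearEquiv.det (io c s) = LinearEquiv.det s := by
  apply Units.ext
  rw [LinearEquiv.coe_det, LinearEquiv.coe_det]
  have h1 : ((io c s : (W × F × F) ≃ₗ[F] (W × F × F)) : (W × F × F) →ₗ[F] (W × F × F)) =
      LinearMap.prodMap (s : W →ₗ[F] W)
        (LinearMap.prodMap ((c : F) • LinearMap.id) ((c : F)⁻¹ • LinearMap.id)) := by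
    apply LinearMap.ext
    rintro ⟨a, x, y⟩
    show io c s (a, x, y) = _
    rw [io_apply]
    simp
  rw [h1, LinearMap.det_prodMap, LinearMap.det_prodMap, LinearMap.det_smul, LinearMap.det_smul]
  have : (c : F) ≠ 0 := c.ne_zero
  simp [this]

variable {Q} in
theorem io_mem_SO [FiniteDimensional F W] {c : Fˣ} {s : W ≃ₗ[F] W} :
    io c s ∈ SO (hypSum Q) ↔ s ∈ SO Q := by
  rw [mem_SO, mem_SO, io_mem_O, det_io]

variable {Q} in
theorem io_sE {s : W ≃ₗ[F] W} (hs : s ∈ O Q) (c : Fˣ) (v : W) :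
    io c s * sE Q v = sE Q ((c : F) • s v) * io c s := by
  apply LinearEquiv.ext
  rintro ⟨a, x, y⟩
  have hc : (c : F) ≠ 0 := c.ne_zero
  rw [LinearEquiv.mul_apply, LinearEquiv.mul_apply, sE_apply, io_apply, io_apply, sE_apply,
    QuadraticMap.map_smul, mem_O.1 hs, polar_smul_left, polar_map hs, map_add, map_smul]
  ext
  · simp only [smul_smul]
    congr 1
    field_simp
  · simp only [smul_eq_mul]
    field_simp
  · rfl

variable {Q} in
theorem io_sF {s : W ≃ₗ[F] W} (hs : s ∈ O Q) (c : Fˣ) (v : W) :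
    io c s * sF Q v = sF Q ((c : F)⁻¹ • s v) * io c s := by
  apply LinearEquiv.ext
  rintro ⟨a, x, y⟩
  have hc : (c : F) ≠ 0 := c.ne_zero
  rw [LinearEquiv.mul_apply, LinearEquiv.mul_apply, sF_apply, io_apply, io_apply, sF_apply,
    QuadraticMap.map_smul, mem_O.1 hs, polar_smul_left, polar_map hs, map_add, map_smul]
  ext
  · simp only [smul_smul]
    congr 1
    field_simp
  · rfl
  · simp only [smul_eq_mul]
    field_simp

/-- the swap of the two standard vectors -/
def kap (F W : Type*) [Field F] [AddCommGroup W] [Module F W] : (W × F × F) ≃ₗ[F] (W × F × F) :=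
  LinearEquiv.prodCongr (LinearEquiv.refl F W) (LinearEquiv.prodComm F F F)

theorem kap_apply (a : W) (x y : F) : kap F W (a, x, y) = (a, y, x) := rfl

theorem kap_mul_kap : kap F W * kap F W = 1 := by
  apply LinearEquiv.ext
  rintro ⟨a, x, y⟩
  rfl

theorem kap_inv : (kap F W)⁻¹ = kap F W := inv_eq_of_mul_eq_one_left kap_mul_kap

theorem kap_mem_O : kap F W ∈ O (hypSum Q) := by
  rintro ⟨a, x, y⟩
  rw [kap_apply, hypSum_apply, hypSum_apply]
  simp only
  ring

theorem kap_sE (v : W) : kap F W * sE Q v = sF Q v * kap F W := by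
  apply LinearEquiv.ext
  rintro ⟨a, x, y⟩
  rw [LinearEquiv.mul_apply, LinearEquiv.mul_apply, sE_apply, kap_apply, kap_apply, sF_apply]

theorem kap_sF (v : W) : kap F W * sF Q v = sE Q v * kap F W := by
  apply LinearEquiv.ext
  rintro ⟨a, x, y⟩
  rw [LinearEquiv.mul_apply, LinearEquiv.mul_apply, sF_apply, kap_apply, kap_apply, sE_apply]

theorem kap_io (c : Fˣ) (s : W ≃ₗ[F] W) : kap F W * io c s = io c⁻¹ s * kap F W := by
  apply LinearEquiv.ext
  rintro ⟨a, x, y⟩
  rw [LinearEquiv.mul_apply, LinearEquiv.mul_apply, io_apply, kap_apply, kap_apply, io_apply]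
  simp

/-- the embedding of the smaller group respects Siegel transformations -/
theorem io_siegel {u w : W} (hu : Q u = 0) (hw : polar Q u w = 0)
    (hu' : hypSum Q (u, 0, 0) = 0) (hw' : polar (hypSum Q) (u, 0, 0) (w, 0, 0) = 0) :
    io 1 (siegel Q u w hu hw) = siegel (hypSum Q) (u, 0, 0) (w, 0, 0) hu' hw' := by
  apply LinearEquiv.ext
  rintro ⟨a, x, y⟩
  rw [io_apply, siegel_apply, siegel_apply, polar_hypSum, polar_hypSum, hypSum_apply]
  ext <;> simp

variable {Q} in
theorem io_mem_E {s : W ≃ₗ[F] W} (hs : s ∈ E Q) : io 1 s ∈ E (hypSum Q) := by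
  induction hs using Subgroup.closure_induction with
  | mem x hx =>
    obtain ⟨u, w, hu, hw, rfl⟩ := hx
    have hu' : hypSum Q (u, 0, 0) = 0 := by rw [hypSum_apply]; simp [hu]
    have hw' : polar (hypSum Q) (u, 0, 0) (w, 0, 0) = 0 := by rw [polar_hypSum]; simp [hw]
    rw [io_siegel Q hu hw hu' hw']
    exact siegel_mem_E _ _
  | one => rw [io_one]; exact Subgroup.one_mem _
  | mul x y _ _ hx hy =>
    have := (E (hypSum Q)).mul_mem hx hy
    rwa [io_mul, mul_one] at this
  | inv x _ hx =>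
    have := (E (hypSum Q)).inv_mem hx
    rwa [io_inv, inv_one] at this

/-- an isometry fixing both standard vectors comes from the small space -/
theorem exists_io_of_fix {Q : QuadraticForm F W} {g : (W × F × F) ≃ₗ[F] (W × F × F)}
    (hg : g ∈ O (hypSum Q)) (he : g (e0 F W) = e0 F W) (hf : g (f0 F W) = f0 F W) :
    ∃ s ∈ O Q, g = io 1 s := by
  have key : ∀ (h : (W × F × F) ≃ₗ[F] (W × F × F)), h ∈ O (hypSum Q) → h (e0 F W) = e0 F W →
      h (f0 F W) = f0 F W → ∀ a : W, h (a, 0, 0) = ((h (a, 0, 0)).1, 0, 0) := by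
    intro h hh he hf a
    have h1 := polar_map hh (e0 F W) (a, 0, 0)
    have h2 := polar_map hh (f0 F W) (a, 0, 0)
    rw [he, polar_e0, polar_hypSum] at h1
    rw [hf, polar_f0, polar_hypSum] at h2
    ext
    · rfl
    · simpa [f0] using h2
    · simpa [e0] using h1
  have hi : g⁻¹ ∈ O (hypSum Q) := (O (hypSum Q)).inv_mem hg
  have hei : g⁻¹ (e0 F W) = e0 F W := by
    conv_lhs => rw [← he]
    exact LinearEquiv.symm_apply_apply g _
  have hfi : g⁻¹ (f0 F W) = f0 F W := by
    conv_lhs => rw [← hf]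
    exact LinearEquiv.symm_apply_apply g _
  have k1 := key g hg he hf
  have k2 := key g⁻¹ hi hei hfi
  let p : W →ₗ[F] W := (LinearMap.fst F W (F × F)) ∘ₗ (g : _ →ₗ[F] _) ∘ₗ (LinearMap.inl F W (F × F))
  let p' : W →ₗ[F] W := (LinearMap.fst F W (F × F)) ∘ₗ ((g⁻¹ : (W × F × F) ≃ₗ[F] (W × F × F)) : _ →ₗ[F] _) ∘ₗ
    (LinearMap.inl F W (F × F))
  have hp : ∀ a, g (a, 0, 0) = (p a, 0, 0) := k1
  have hp' : ∀ a, g⁻¹ (a, 0, 0) = (p' a, 0, 0) := k2
  have h12 : ∀ a, p (p' a) = a := by
    intro a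
    have h1 : g (g⁻¹ (a, 0, 0)) = (a, 0, 0) := LinearEquiv.apply_symm_apply g _
    rw [hp', hp] at h1
    exact congrArg Prod.fst h1
  have h21 : ∀ a, p' (p a) = a := by
    intro a
    have h1 : g⁻¹ (g (a, 0, 0)) = (a, 0, 0) := LinearEquiv.symm_apply_apply g _
    rw [hp, hp'] at h1
    exact congrArg Prod.fst h1
  let s : W ≃ₗ[F] W := LinearEquiv.ofLinearMap p p' (LinearMap.ext h12) (LinearMap.ext h21)
  have hs : ∀ a, s a = p a := fun a => rfl
  refine ⟨s, ?_, ?_⟩
  · intro a
    have h1 := hg (a, 0, 0)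
    rw [hp, hypSum_apply, hypSum_apply] at h1
    rw [hs]
    simpa using h1
  · apply LinearEquiv.ext
    rintro ⟨a, x, y⟩
    have h1 : ((a, x, y) : W × F × F) = (a, 0, 0) + x • e0 F W + y • f0 F W := by
      ext <;> simp [e0, f0]
    rw [io_apply, h1, map_add, map_add, map_smul, map_smul, he, hf, hp, hs]
    ext <;> simp [e0, f0]

end El

end Cfsg.Agent.H117
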