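import Cfsg.Agent.H117.Theta
import Cfsg.Agent.H117.Cnt

/-!
# Representations of `SO` generated by a semi-invariant vector of the stabiliser of a singular point
-/

set_option autoImplicit false

universe u v

namespace Cfsg.Agent.H117

open QuadraticMap Cfsg.Agent.LieClassical.OrthCore Cfsg.Agent.LieClassical.OrthTrans Module
open Cfsg.Agent.LieClassical.OrthCount (hypSum hypSum_apply polar_hypSum)

/-- `∑_{i<k} q^{2i}` -/
def tt (q : ℕ) : ℕ → ℕ
  | 0 => 0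
  | k + 1 => tt q k + q ^ (2 * k)

theorem tt_mul (q k : ℕ) (hq : 1 ≤ q) : tt q k * (q ^ 2 - 1) = q ^ (2 * k) - 1 := by
  obtain ⟨m, hm⟩ : ∃ m, q ^ 2 = m + 1 := ⟨q ^ 2 - 1, by have := Nat.one_le_pow 2 q hq; omega⟩
  rw [hm, Nat.add_sub_cancel]
  induction k with
  | zero => simp [tt]
  | succ k ih =>
    rw [tt, add_mul, ih]
    have h1 : q ^ (2 * (k + 1)) = q ^ (2 * k) * (m + 1) := by rw [← hm]; ring
    have h2 : 1 ≤ q ^ (2 * k) := Nat.one_le_pow _ _ hq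
    rw [h1, mul_add, mul_one]
    omega

section A

variable {F A : Type*} [Field F] [AddCommGroup A] [Module F A] {V : Type*} [AddCommGroup V] [Module ℂ V]
  {G : Subgroup ((A × F × F) ≃ₗ[F] (A × F × F))}

/-- vectors fixed by the radical on which the torus acts by `χ` -/
def Neig (P : PRep G V) (Q : QuadraticForm F A) (χ : Fˣ → ℂ) : Submodule ℂ V where
  carrier := {x | (∀ v : A, P.R (sE Q v) x = x) ∧ ∀ a : Fˣ, P.R (io a 1) x = χ a • x}
  add_mem' := by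
    rintro x y ⟨hx, hx'⟩ ⟨hy, hy'⟩
    refine ⟨fun v => by rw [map_add, hx, hy], fun a => by rw [map_add, hx', hy', smul_add]⟩
  zero_mem' := ⟨fun v => map_zero _, fun a => by rw [map_zero, smul_zero]⟩
  smul_mem' := by
    rintro c x ⟨hx, hx'⟩
    refine ⟨fun v => by rw [map_smul, hx], fun a => by rw [map_smul, hx', smul_comm]⟩

theorem mem_Neig {P : PRep G V} {Q : QuadraticForm F A} {χ : Fˣ → ℂ} {x : V} :
    x ∈ Neig P Q χ ↔ (∀ v : A, P.R (sE Q v) x = x) ∧ ∀ a : Fˣ, P.R (io a 1) x = χ a • x := Iff.rfl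

theorem Neig_add_le [Fintype A] [FiniteDimensional ℂ V] (P : PRep G V) (Q : QuadraticForm F A)
    (ψ : AddChar F ℂ) {χ : Fˣ → ℂ} (hχ : ∃ a, χ a ≠ 1) :
    finrank ℂ (Neig P Q χ) + finrank ℂ (Neig P Q fun _ => 1) ≤ finrank ℂ (wt Q ψ (TT P Q) 0) := by
  have h1 : Neig P Q χ ⊓ Neig P Q (fun _ => 1) = ⊥ := by
    rw [eq_bot_iff]
    rintro x ⟨⟨-, hx⟩, ⟨-, hx'⟩⟩
    obtain ⟨a, ha⟩ := hχ
    rw [Submodule.mem_bot]
    have h3 := hx a
    rw [hx' a] at h3
    have h4 : (χ a - 1) • x = 0 := by rw [sub_smul, ← h3, sub_self]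
    exact (smul_eq_zero.1 h4).resolve_left (sub_ne_zero.2 ha)
  have h2 := Submodule.finrank_sup_add_finrank_inf_eq (Neig P Q χ) (Neig P Q fun _ => 1)
  rw [h1, finrank_bot, add_zero] at h2
  rw [← h2]
  apply Submodule.finrank_mono
  rw [sup_le_iff]
  exact ⟨fun x hx => mem_wt_zero.2 hx.1, fun x hx => mem_wt_zero.2 hx.1⟩

end A

section B

variable {F W : Type*} [Field F] [AddCommGroup W] [Module F W] [Fintype F] [Fintype W]
  {Q : QuadraticForm F W}

omit [Fintype F] [Fintype W] in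
theorem nn_xr (t : F) : nn W 1 * xr Q t = yr Q (-t) * nn W 1 := by
  apply LinearEquiv.ext
  rintro ⟨⟨w, x, y⟩, x', y'⟩
  rw [LinearEquiv.mul_apply, LinearEquiv.mul_apply, xr_apply, nn1_apply, nn1_apply, yr_apply]
  ext <;> simp
  ring

variable {V : Type v} [AddCommGroup V] [Module ℂ V]
  {G : Subgroup (((W × F × F) × F × F) ≃ₗ[F] ((W × F × F) × F × F))}

/-- if the radical acts trivially then so do the elements of both `SL₂` -/
theorem nn_trivial (P : PRep G V) (hE : E (hypSum (hypSum Q)) ≤ G)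
    (h : ∀ (v : W × F × F) (x : V), P.R (sE (hypSum Q) v) x = x) (x : V) : P.R (nn W 1) x = x := by
  have hn : nn W 1 ∈ G := hE (nn_mem Q 1)
  have h1 : ∀ (t : F) (x : V), P.R (yr Q t) x = x := by
    intro t x
    have e := P.swap hn (hE (xr_mem Q _)) (hE (yr_mem Q _)) hn (nn_xr (Q := Q) (-t)) (P.R (nn W 1)⁻¹ x)
    rw [neg_neg, P.inv'' hn] at e
    rw [← e]
    have : P.R (xr Q (-t)) (P.R (nn W 1)⁻¹ x) = P.R (nn W 1)⁻¹ x := h _ _
    rw [this, P.inv'' hn]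
  rw [nn_eq Q, P.mul' (G.mul_mem (hE (xr_mem Q _)) (hE (yr_mem Q _))) (hE (xr_mem Q _)),
    P.mul' (hE (xr_mem Q _)) (hE (yr_mem Q _))]
  have h2 : ∀ (t : F) (x : V), P.R (xr Q t) x = x := fun t x => h _ _
  rw [h2, h1, h2]

theorem exists_weight [FiniteDimensional ℂ V] (P : PRep G V) {ψ : AddChar F ℂ} (hψ : ∃ c, ψ c ≠ 1)
    (hQ : Nondeg Q) (hE : E (hypSum (hypSum Q)) ≤ G)
    (h : ∃ (v : W × F × F) (x : V), P.R (sE (hypSum Q) v) x ≠ x) :
    ∃ u : W × F × F, u ≠ 0 ∧ wt (hypSum Q) ψ (TT P (hypSum Q)) u ≠ ⊥ := by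
  have hW := wd_TT (P := P) (nondeg_hypSum hQ) hψ hE
  by_contra hc
  push Not at hc
  obtain ⟨v, x, hvx⟩ := h
  apply hvx
  have h1 : pr (hypSum Q) ψ (TT P (hypSum Q)) 0 x = x := by
    conv_rhs => rw [← sum_pr hW x]
    symm
    refine Finset.sum_eq_single (0 : W × F × F) ?_ ?_
    · intro u _ hu
      have := pr_mem hW u x
      rw [hc u hu] at this
      exact this
    · intro h
      exact absurd (Finset.mem_univ _) h
  have h2 := pr_mem hW 0 x
  rw [h1] at h2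
  exact mem_wt_zero.1 h2 v

/-- the statement of lemma `T` -/
def PT (χ : Fˣ → ℂ) (k : ℕ) (Q : QuadraticForm F W) : Prop :=
  ∀ (V : Type v) [AddCommGroup V] [Module ℂ V] [FiniteDimensional ℂ V] (P : PRep (SO (hypSum Q)) V)
    (z : V), z ≠ 0 → (∀ w, P.R (sE Q w) z = z) →
    (∀ (a : Fˣ) (s : W ≃ₗ[F] W), s ∈ SO Q → P.R (io a s) z = χ a • z) →
    tt (Fintype.card F) (k + 1) ≤ finrank ℂ V

/-- the induction step -/
theorem PT_step [FiniteDimensional ℂ V] (h2 : (2 : F) ≠ 0) (hq : 5 ≤ Fintype.card F) {χ : Fˣ → ℂ}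
    (hχ : ∃ a, χ a ≠ 1) {ψ : AddChar F ℂ} (hψ : ∃ c, ψ c ≠ 1) {k : ℕ} (hT : TF k Q)
    (hP : PT.{v} χ k Q) (P : PRep (SO (hypSum (hypSum Q))) V) {z : V} (hz : z ≠ 0)
    (hz0 : ∀ v, P.R (sE (hypSum Q) v) z = z)
    (hz1 : ∀ (a : Fˣ) (s : (W × F × F) ≃ₗ[F] (W × F × F)), s ∈ SO (hypSum Q) → P.R (io a s) z = χ a • z) :
    (Fintype.card F ^ (2 * k + 2) - 1) + finrank ℂ (Neig P (hypSum Q) χ) + tt (Fintype.card F) (k + 1) ≤
      finrank ℂ V := by
  classical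
  have hfd := hT.fd
  obtain ⟨w0, hw0⟩ := hT.ns
  have hne : Q w0 ≠ 0 := by rw [hw0]; exact one_ne_zero
  have hT' := hT.step h2
  have hE : E (hypSum (hypSum Q)) ≤ SO (hypSum (hypSum Q)) := E_le_SO
  have hW := wd_TT (P := P) hT'.nondeg hψ hE
  have hn : nn W 1 ∈ SO (hypSum (hypSum Q)) := hE (nn_mem Q 1)
  have h1SO : (1 : W ≃ₗ[F] W) ∈ SO Q := (SO Q).one_mem
  -- a nonzero weight
  obtain ⟨u, hu0, hu⟩ : ∃ u : W × F × F, u ≠ 0 ∧ wt (hypSum Q) ψ (TT P (hypSum Q)) u ≠ ⊥ := by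
    apply exists_weight P hψ hT.nondeg hE
    by_contra hc
    push Not at hc
    have hn' := nn_trivial P hE hc
    obtain ⟨a, ha⟩ := hχ
    have e1 := P.swap hn (io_mem_SO.2 (io_mem_SO.2 h1SO)) (io_mem_SO.2 (io_mem_SO.2 h1SO)) hn
      (nn_io (W := W) a 1 1) z
    rw [hn', hn', io_one, hz1 a 1 (SO _).one_mem, hz1 1 _ (io_mem_SO.2 h1SO)] at e1
    have e2 := hz1 1 1 (SO _).one_mem
    rw [io_one, P.one'] at e2
    rw [← e2] at e1
    have e3 : (χ a - 1) • z = 0 := by rw [sub_smul, one_smul, ← e1, sub_self]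
    rcases smul_eq_zero.1 e3 with h | h
    · exact ha (sub_eq_zero.1 h)
    · exact hz h
  have hpos : 1 ≤ finrank ℂ (wt (hypSum Q) ψ (TT P (hypSum Q)) u) := by
    rw [Nat.one_le_iff_ne_zero]
    intro h
    exact hu (Submodule.finrank_eq_zero.1 h)
  have hcls : ∀ u' ∈ cls Q (hypSum Q u), 1 ≤ finrank ℂ (wt (hypSum Q) ψ (TT P (hypSum Q)) u') := by
    intro u' hu'
    obtain ⟨hu'0, a, ha⟩ := (mem_cls Q).1 hu'
    have hane : (a : F) ≠ 0 := a.ne_zero
    have h4 : (a : F)⁻¹ • u' ≠ 0 := smul_ne_zero (inv_ne_zero hane) hu'0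
    have h5 : hypSum Q u = hypSum Q ((a : F)⁻¹ • u') := by
      rw [QuadraticMap.map_smul, ha, smul_eq_mul]
      field_simp
    obtain ⟨s, hs, hs'⟩ := SO_trans h2 hT.nondeg hT'.nondeg hne hu0 h4 h5
    have hg : io a⁻¹ s ∈ SO (hypSum (hypSum Q)) := io_mem_SO.2 hs
    refine hpos.trans (finrank_wt_le (P.inv_mul hg) fun x hx => ?_)
    have h6 := io_wt P hE (SO_le_O hs) hg hx
    rw [hs', Units.val_inv_eq_inv_val, inv_inv, smul_smul, mul_inv_cancel₀ hane, one_smul] at h6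
    exact h6
  have h7 := finrank_ge hW (cls Q (hypSum Q u)) (zero_notMem_cls Q) 1 hcls
  rw [one_mul] at h7
  have h8 := card_cls Q hT hT' hq (hypSum Q u)
  have h9 := Neig_add_le P (hypSum Q) ψ hχ
  -- the vector `Th z`
  have h10 : tt (Fintype.card F) (k + 1) ≤ finrank ℂ (Neig P (hypSum Q) fun _ => 1) := by
    have hm : ∀ s ∈ SO (hypSum Q), ∀ x ∈ Neig P (hypSum Q) (fun _ => 1),
        P.R (io 1 s) x ∈ Neig P (hypSum Q) (fun _ => 1) := by
      rintro s hs x ⟨hx, hx'⟩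
      refine ⟨fun v => ?_, fun a => ?_⟩
      · have h11 := io_wt P hE (ψ := ψ) (a := 1) (SO_le_O hs) (io_mem_SO.2 hs) (u := 0) (x := x)
          (mem_wt_zero.2 hx)
        rw [map_zero, smul_zero] at h11
        exact mem_wt_zero.1 h11 v
      · have e1 : io a 1 * io 1 s = io 1 s * io a (1 : (W × F × F) ≃ₗ[F] (W × F × F)) := by
          rw [io_mul, io_mul]; simp
        rw [P.swap (io_mem_SO.2 (SO _).one_mem) (io_mem_SO.2 hs) (io_mem_SO.2 hs)
          (io_mem_SO.2 (SO _).one_mem) e1, hx']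
        rw [one_smul, one_smul]
    obtain ⟨P', hP'⟩ := P.exists_sub (G' := SO (hypSum Q)) (Neig P (hypSum Q) fun _ => 1)
      (fun s => io 1 s) hm (fun x hx => by rw [io_one, P.one'])
      (fun s hs t ht x hx => by
        rw [← P.mul' (io_mem_SO.2 hs) (io_mem_SO.2 ht), io_mul, mul_one])
    have hh : ∀ b : Fˣ, P.R (io b (io b⁻¹ 1)) z = χ b • z := fun b => hz1 b _ (io_mem_SO.2 h1SO)
    have hne2 : Th P Q ψ z ≠ 0 :=
      Th_ne P hT.nondeg hψ hE hz (mem_wt_zero.2 hz0) (fun w => by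
        have e1 := hz1 1 (sE Q w) (E_le_SO (sE_mem Q w))
        have e2 := hz1 1 1 (SO _).one_mem
        rw [io_one, P.one'] at e2
        rw [e1, ← e2]) hh
    have hmem : Th P Q ψ z ∈ Neig P (hypSum Q) (fun _ => 1) := by
      refine ⟨mem_wt_zero.1 (Th_mem P hT.nondeg hψ hE z), fun a => ?_⟩
      have e1 := Th_io P hT.nondeg hψ hE (a := a) (b := 1) (O Q).one_mem
        (io_mem_SO.2 (io_mem_SO.2 h1SO)) (io_mem_SO.2 (io_mem_SO.2 h1SO)) z
      rw [io_one] at e1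
      have e2 := hz1 1 (io a 1) (io_mem_SO.2 h1SO)
      have e3 := hz1 1 1 (SO _).one_mem
      rw [io_one, P.one'] at e3
      rw [e1, e2, ← e3, one_smul]
    refine hP (Neig P (hypSum Q) fun _ => 1) P' ⟨Th P Q ψ z, hmem⟩ ?_ ?_ ?_
    · intro h
      exact hne2 (congrArg Subtype.val h)
    · intro w
      apply Subtype.ext
      rw [hP' _ (E_le_SO (sE_mem Q w)), Th_sE P hT.nondeg hψ hE, hz0]
    · intro b s hs
      apply Subtype.ext
      rw [hP' _ (io_mem_SO.2 hs)]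
      have e1 := Th_io P hT.nondeg hψ hE (a := 1) (b := b) (SO_le_O hs)
        (io_mem_SO.2 (io_mem_SO.2 hs)) (io_mem_SO.2 (io_mem_SO.2 hs)) z
      have e2 := hz1 b (io 1 s) (io_mem_SO.2 hs)
      have hsm : ∀ (c : ℂ) (x : V), Th P Q ψ (c • x) = c • Th P Q ψ x := by
        intro c x
        unfold Th
        rw [map_smul, map_smul]
      rw [e1, e2, hsm]
      rfl
  omega

/-- lemma `T` -/
theorem PT_base (χ : Fˣ → ℂ) : PT.{v} χ 0 Q := by
  intro V _ _ _ P z hz _ _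
  have : Nontrivial V := ⟨⟨z, 0, hz⟩⟩
  have h1 : 0 < finrank ℂ V := finrank_pos
  have h2 : tt (Fintype.card F) (0 + 1) = 1 := by simp [tt]
  rw [h2]
  exact h1

end B

/-- lemma `T` for the tower -/
theorem IsTw.PT {F : Type u} [Field F] [Fintype F] (h2 : (2 : F) ≠ 0) (hq : 5 ≤ Fintype.card F)
    {χ : Fˣ → ℂ} (hχ : ∃ a, χ a ≠ 1) {ψ : AddChar F ℂ} (hψ : ∃ c, ψ c ≠ 1) {k : ℕ} {W : Type u}
    [AddCommGroup W] [Module F W] {Q : QuadraticForm F W} (h : IsTw F k W Q) :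
    ∀ [Fintype W], H117.PT.{v} χ k Q := by
  induction h with
  | base => intro _; exact PT_base χ
  | @step k W _ _ Q h ih =>
    intro _
    have hT := h.tf h2
    have := hT.finite
    have : Fintype W := Fintype.ofFinite W
    intro V _ _ _ P z hz hz0 hz1
    have h3 := PT_step h2 hq hχ hψ hT ih P hz hz0 hz1
    have h4 : 1 ≤ finrank ℂ (Neig P (hypSum Q) χ) := by
      rw [Nat.one_le_iff_ne_zero]
      intro h5
      have h6 := Submodule.finrank_eq_zero.1 h5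
      have h7 : z ∈ Neig P (hypSum Q) χ := ⟨hz0, fun a => hz1 a 1 (SO _).one_mem⟩
      rw [h6] at h7
      exact hz h7
    have h8 : 1 ≤ Fintype.card F ^ (2 * k + 2) := Nat.one_le_pow _ _ (by omega)
    have h9 : tt (Fintype.card F) (k + 1 + 1) = tt (Fintype.card F) (k + 1) + Fintype.card F ^ (2 * k + 2) := rfl
    rw [h9]
    omega

end Cfsg.Agent.H117
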