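import Cfsg.Agent.H905.MdC

/-!
# Levi restrictions of simple modules in the defining characteristic (task 2468, helper117)

`R : RGD cs h p T n X`, `V` simple in characteristic `p`, `D = V^U`, `J ⊆ I` a set of nodes, `g` over `w`.

* `prk f Φ` : the rank of the pairing of `f ≤ V` and `Φ ≤ V*`; `sum_prk_le` : pairwise orthogonal families;
* `Lf J g = k[L_J] g D`, `Lp J g = k[L_J] g (V*)^{U⁻}`, `lrk J g` : the rank of the pairing;
* `exists_opp_decJ` : `L_J = U_J⁻ N_J U_J`;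
* `mem_of_pairJ` : if `w⁻¹ J > 0`, `w'⁻¹ J > 0` and `Lp J g` does not kill `Lf J g'`, then
  `w⁻¹ x w' ∈ W_{J(V)}` for some `x ∈ W_J` (the same double coset);
* **`dim_ge_levi`** : different double cosets: `∑ lrk J (g a) ≤ dim V`;
* `kernel_le_lrk` : `ι : G → L_J`: the rank of `(x, y) ↦ φ₀ (g⁻¹ ι(x y) g v₀)` is at most `lrk J g`;
* `one_le_lrk` : `1 ≤ lrk J g`.
-/

set_option autoImplicit false
set_option linter.unusedSectionVars false
set_option linter.style.haveILetI false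

namespace Cfsg.Agent.H117.Levi

open CoxeterSystem Cfsg.Agent.ChevalleyStructure.CoxeterGeom Cfsg.Agent.Tits.Roots Cfsg.Agent.Tits.Core
  Cfsg.Agent.Tits.Exchange Cfsg.Agent.Nodes.Reps Cfsg.Agent.Nodes.BNOf Cfsg.Agent.Nodes.StabComb
  Cfsg.Agent.Nodes.Bruhat Cfsg.Agent.Nodes.OppDec Cfsg.Agent.Nodes.LeviDec Cfsg.Agent.KFacts.RgdOpp
  Cfsg.Agent.Omega.CR Cfsg.Agent.Omega.FOne.Lift.Sd Cfsg.Agent.H905.Md

/-! ### the rank of a pairing -/

section lin

variable {k V : Type*} [Field k] [AddCommGroup V] [Module k V]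

/-- the rank of the pairing between `f` and `Φ` -/
noncomputable def prk (f : Submodule k V) (Φ : Submodule k (Module.Dual k V)) : ℕ :=
  Module.finrank k f - Module.finrank k (f ⊓ Φ.dualCoannihilator : Submodule k V)

variable [FiniteDimensional k V]

/-- a complement of the radical -/
theorem exists_compl (f : Submodule k V) (Φ : Submodule k (Module.Dual k V)) :
    ∃ g ≤ f, (∀ v ∈ g, (∀ φ ∈ Φ, φ v = 0) → v = 0) ∧ Module.finrank k g = prk f Φ := by
  obtain ⟨C, hC⟩ := Submodule.exists_isCompl (f ⊓ Φ.dualCoannihilator)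
  refine ⟨f ⊓ C, inf_le_left, ?_, ?_⟩
  · rintro v ⟨hv, hvC⟩ h0
    have h1 : v ∈ (f ⊓ Φ.dualCoannihilator) ⊓ C :=
      ⟨⟨hv, (Submodule.mem_dualCoannihilator v).2 h0⟩, hvC⟩
    rw [hC.inf_eq_bot, Submodule.mem_bot] at h1
    exact h1
  · have h1 : (f ⊓ Φ.dualCoannihilator) ⊔ (f ⊓ C) = f := by
      have h2 := sup_inf_assoc_of_le (C) (inf_le_left : f ⊓ Φ.dualCoannihilator ≤ f)
      rw [hC.sup_eq_top, top_inf_eq] at h2
      rw [inf_comm f C]
      exact h2.symm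
    have h2 : (f ⊓ Φ.dualCoannihilator) ⊓ (f ⊓ C) = ⊥ := by
      rw [eq_bot_iff, ← hC.inf_eq_bot]
      exact inf_le_inf_left _ inf_le_right
    have h3 := Submodule.finrank_sup_add_finrank_inf_eq (f ⊓ Φ.dualCoannihilator) (f ⊓ C)
    rw [h1, h2, finrank_bot, add_zero] at h3
    unfold prk
    omega

/-- **orthogonal families** -/
theorem sum_prk_le {ι : Type*} [Fintype ι] (f : ι → Submodule k V) (Φ : ι → Submodule k (Module.Dual k V))
    (h2 : ∀ i j, i ≠ j → ∀ φ ∈ Φ i, ∀ v ∈ f j, φ v = 0) : ∑ i, prk (f i) (Φ i) ≤ Module.finrank k V := by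
  choose g hg h1 h3 using fun i => exists_compl (f i) (Φ i)
  calc ∑ i, prk (f i) (Φ i) = ∑ i, Module.finrank k (g i) := Finset.sum_congr rfl fun i _ => (h3 i).symm
    _ ≤ Module.finrank k (⨆ i, g i : Submodule k V) :=
      sum_le_of_sep (Φ := Φ) h1 fun i j hij φ hφ v hv => h2 i j hij φ hφ v (hg j hv)
    _ ≤ Module.finrank k V := Submodule.finrank_le _

/-- a lower bound for the rank -/
theorem finrank_map_le_prk {M : Type*} [AddCommGroup M] [Module k M] (f : Submodule k V)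
    (Φ : Submodule k (Module.Dual k V)) (Ψ : V →ₗ[k] M)
    (hΨ : ∀ v ∈ f, (∀ φ ∈ Φ, φ v = 0) → Ψ v = 0) : Module.finrank k (f.map Ψ) ≤ prk f Φ := by
  obtain ⟨g, hg, h1, h2⟩ := exists_compl f Φ
  have h3 : f.map Ψ = g.map Ψ := by
    obtain ⟨C, hC⟩ := Submodule.exists_isCompl (f ⊓ Φ.dualCoannihilator)
    have h4 := LinearMap.finrank_range_add_finrank_ker (Ψ.domRestrict f)
    refine le_antisymm ?_ (Submodule.map_mono hg)
    -- `f = g + rad`
    have h5 : f ≤ g ⊔ (f ⊓ Φ.dualCoannihilator) := by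
      have h6 : g ⊓ (f ⊓ Φ.dualCoannihilator) = ⊥ := by
        rw [eq_bot_iff]
        rintro v ⟨hv, hv'⟩
        exact h1 v hv ((Submodule.mem_dualCoannihilator v).1 hv'.2)
      have h7 := Submodule.finrank_sup_add_finrank_inf_eq g (f ⊓ Φ.dualCoannihilator)
      rw [h6, finrank_bot, add_zero, h2] at h7
      have h8 : Module.finrank k (f ⊓ Φ.dualCoannihilator : Submodule k V) ≤ Module.finrank k f :=
        Submodule.finrank_mono inf_le_left
      have h9 : g ⊔ (f ⊓ Φ.dualCoannihilator) = f := by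
        refine Submodule.eq_of_le_of_finrank_eq (sup_le hg inf_le_left) ?_
        rw [h7]
        unfold prk
        omega
      exact h9.ge
    refine (Submodule.map_mono h5).trans ?_
    rw [Submodule.map_sup, sup_le_iff]
    refine ⟨le_rfl, ?_⟩
    rintro _ ⟨v, hv, rfl⟩
    rw [hΨ v hv.1 ((Submodule.mem_dualCoannihilator v).1 hv.2)]
    exact zero_mem _
  rw [h3, ← h2]
  exact Submodule.finrank_map_le Ψ g

theorem one_le_prk {f : Submodule k V} {Φ : Submodule k (Module.Dual k V)} {v : V} (hv : v ∈ f)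
    {φ : Module.Dual k V} (hφ : φ ∈ Φ) (hne : φ v ≠ 0) : 1 ≤ prk f Φ := by
  have h1 := finrank_map_le_prk f Φ φ fun v _ h0 => h0 φ hφ
  refine le_trans ?_ h1
  rw [Nat.one_le_iff_ne_zero]
  intro h2
  rw [Submodule.finrank_eq_zero] at h2
  have h3 : φ v ∈ f.map φ := ⟨v, hv, rfl⟩
  rw [h2, Submodule.mem_bot] at h3
  exact hne h3

end lin

variable {I W Y : Type*} [Fintype I] [DecidableEq I] [Group W] [Group Y] {M : CoxeterMatrix I}
  {cs : CoxeterSystem M W} {A : I → I → ℤ} {h : IsCartan M A} {p : ℕ} {T : Subgroup Y} {n : I → Y}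
  {X : (I → ℤ) → Subgroup Y}

variable {k V : Type*} [Field k] [AddCommGroup V] [Module k V]

/-! ### positivity -/

omit [Group Y] in
/-- `w` maps the positive roots of `J` to positive roots -/
theorem rep_nonneg {J : Set I} {w : W} (hmin : ∀ i ∈ J, 0 ≤ rep cs h w (sr i)) {x : I → ℤ}
    (hx : x ∈ PosJ cs h J) : 0 ≤ rep cs h w x := by
  have h2 : x = ∑ k, x k • sr k := by
    funext k
    rw [Finset.sum_apply, Finset.sum_eq_single k (fun b _ hb => by
      rw [Pi.smul_apply, sr_ne hb.symm, smul_zero]) (by simp), Pi.smul_apply, sr_self, smul_eq_mul, mul_one]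
  rw [h2, map_sum]
  refine Finset.sum_nonneg fun k _ => ?_
  rw [map_smul]
  by_cases hk : k ∈ J
  · exact smul_nonneg (hx.2.1 k) (hmin k hk)
  · rw [hx.2.2 k hk, zero_smul]

/-- the negative roots of `J` -/
def NegJ (cs : CoxeterSystem M W) (h : IsCartan M A) (J : Set I) : Set (I → ℤ) := {x | -x ∈ PosJ cs h J}

/-- `U_J⁻` -/
def UNJ (cs : CoxeterSystem M W) (h : IsCartan M A) (X : (I → ℤ) → Subgroup Y) (J : Set I) : Subgroup Y :=
  RGD.Sup X (NegJ cs h J)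

theorem isRoot_of_negJ {J : Set I} {x : I → ℤ} (hx : x ∈ NegJ cs h J) : IsRoot cs h x := by
  have h1 := hx.1.neg
  rwa [neg_neg] at h1

section

variable (R : RGD cs h p T n X)
include R

/-- `L_J = U_J⁻ N_J U_J` -/
theorem exists_opp_decJ [Finite W] {J : Set I} {l : Y} (hl : l ∈ LJ cs h T X J) :
    ∃ a ∈ UNJ cs h X J, ∃ x ∈ WJ cs J, ∃ y, Rp cs R.nsys x y ∧ ∃ u ∈ UJ cs h X J, l = a * y * u := by
  obtain ⟨w0, hw0⟩ := exists_isLongest cs J
  obtain ⟨n0, hn0⟩ := exists_rp cs R.nsys w0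
  have h1 : n0⁻¹ * l ∈ LJ cs h T X J := mul_mem (inv_mem (rp_mem_LJ R hw0.1 hn0)) hl
  obtain ⟨w, hw, b₁, hb₁, y, hy, b₂, hb₂, e⟩ := (mem_LJ R).1 h1
  -- `B_J = T U_J`
  have hB : ∀ b ∈ BJ cs h T X J, ∃ t ∈ T, ∃ u ∈ UJ cs h X J, b = t * u := by
    intro b hb
    have hn : T ≤ Subgroup.normalizer (UJ cs h X J : Set Y) := by
      intro t ht
      rw [mem_normalizer_iff_cj]
      unfold UJ
      rw [RGD.cj_Sup]
      refine le_antisymm (iSup_le ?_) (RGD.Sup_le fun x hx => ?_)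
      · rintro ⟨x, hx⟩
        have h3 : cj t (X x) = X x := R.tor x hx.1 t ht
        rw [h3]
        exact RGD.le_Sup hx
      · have h3 : cj t (X x) = X x := R.tor x hx.1 t ht
        refine le_trans ?_ (le_iSup (fun x : PosJ cs h J => cj t (X x)) ⟨x, hx⟩)
        rw [h3]
    have h2 : b ∈ ((T ⊔ UJ cs h X J : Subgroup Y) : Set Y) := hb
    rw [Subgroup.coe_mul_of_left_le_normalizer_right _ _ hn, Set.mem_mul] at h2
    obtain ⟨t, ht, u, hu, e⟩ := h2
    exact ⟨t, ht, u, hu, e.symm⟩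
  obtain ⟨t₁, ht₁, u₁, hu₁, rfl⟩ := hB b₁ hb₁
  obtain ⟨t₂, ht₂, u₂, hu₂, rfl⟩ := hB b₂ hb₂
  have hn1 : Rp cs R.nsys w0 (n0 * t₁) := hn0.mul_mem_right ht₁
  refine ⟨(n0 * t₁) * u₁ * (n0 * t₁)⁻¹, ?_, w0 * w, mul_mem hw0.1 hw, (n0 * t₁) * (y * t₂),
    hn1.mul (hy.mul_mem_right ht₂), u₂, hu₂, ?_⟩
  · refine conj_mem_Sup R hn1 (fun x hx => hx.1) (fun x hx => ?_) hu₁
    refine ⟨(hx.1.act w0).neg, ?_, ?_⟩
    · exact neg_nonneg.2 (rep_longest_nonpos hw0 hx)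
    · intro i hi
      have h3 := (RootsJ.act hw0.1 (PosJ_subset J hx)).2 i hi
      rw [Pi.neg_apply, h3, neg_zero]
  · have h2 : l = n0 * (t₁ * u₁ * y * (t₂ * u₂)) := by rw [← e]; group
    rw [h2]
    group

end

/-! ### Levi restrictions -/

/-- the module generated by the vertex of `g` under the Levi subgroup of `J` -/
def Lf (cs : CoxeterSystem M W) (h : IsCartan M A) (T : Subgroup Y) (X : (I → ℤ) → Subgroup Y)
    (ρ : Y →* Module.End k V) (J : Set I) (g : Y) : Submodule k V :=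
  Sp ρ (LJ cs h T X J) ((D cs h X ρ).map (ρ g))

/-- the dual module -/
def Lp (cs : CoxeterSystem M W) (h : IsCartan M A) (T : Subgroup Y) (X : (I → ℤ) → Subgroup Y)
    (ρ : Y →* Module.End k V) (J : Set I) (g : Y) : Submodule k (Module.Dual k V) :=
  Sp (dualRep ρ) (LJ cs h T X J) ((fx (dualRep ρ) (UN cs h X)).map (dualRep ρ g))

/-- the rank of the pairing -/
noncomputable def lrk (cs : CoxeterSystem M W) (h : IsCartan M A) (T : Subgroup Y) (X : (I → ℤ) → Subgroup Y)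
    (ρ : Y →* Module.End k V) (J : Set I) (g : Y) : ℕ := prk (Lf cs h T X ρ J g) (Lp cs h T X ρ J g)

section

variable (R : RGD cs h p T n X) [Finite Y] [Finite W] [Fact p.Prime] [CharP k p]
  {ρ : Y →* Module.End k V} [FiniteDimensional k V]
  (hirr : ∀ L : Submodule k V, Ivt ρ (GG cs h T X) L → L = ⊥ ∨ L = ⊤)
include R hirr

omit [Finite Y] [Finite W] [Fact p.Prime] [CharP k p] [FiniteDimensional k V] hirr in
/-- the value on generators -/
theorem pair_genJ [Finite W] {J : Set I} {w w' : W} {g g' : Y} (hg : Rp cs R.nsys w g) (hg' : Rp cs R.nsys w' g')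
    (hmin : ∀ i ∈ J, 0 ≤ rep cs h w⁻¹ (sr i)) (hmin' : ∀ i ∈ J, 0 ≤ rep cs h w'⁻¹ (sr i))
    {φ : Module.Dual k V} (hφ : φ ∈ fx (dualRep ρ) (UN cs h X)) {v : V} (hv : v ∈ D cs h X ρ) {l : Y}
    (hl : l ∈ LJ cs h T X J) : ∃ x ∈ WJ cs J, ∃ y, Rp cs R.nsys x y ∧
      φ (ρ (g⁻¹ * l * g') v) = φ (ρ (g⁻¹ * y * g') v) := by
  obtain ⟨a, ha, x, hx, y, hy, u, hu, rfl⟩ := exists_opp_decJ R hl
  refine ⟨x, hx, y, hy, ?_⟩
  have h1 : g⁻¹ * a * g ∈ UN cs h X := by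
    refine conj_mem_Sup' R hg (fun x hx => isRoot_of_negJ hx) (fun x hx => ?_) ha
    refine ⟨(isRoot_of_negJ hx).act _, ?_⟩
    have h2 := rep_nonneg hmin hx
    rw [map_neg] at h2
    exact neg_nonneg.1 h2
  have h2 : g'⁻¹ * u * g' ∈ RGD.Sup X (RGD.Pos cs h) := by
    refine conj_mem_Sup' R hg' (fun x hx => hx.1) (fun x hx => ?_) hu
    exact ⟨hx.1.act _, rep_nonneg hmin' hx⟩
  have e : g⁻¹ * (a * y * u) * g' = (g⁻¹ * a * g) * (g⁻¹ * y * g') * (g'⁻¹ * u * g') := by group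
  have h3 : ρ (g'⁻¹ * u * g') v = v := hv _ h2
  rw [e, rho_mul, h3, rho_mul, (mem_fx_dual ρ).1 hφ _ h1]

/-- **the same double coset** -/
theorem mem_of_pairJ [Nontrivial V] {J : Set I} {w w' : W} {g g' : Y} (hg : Rp cs R.nsys w g)
    (hg' : Rp cs R.nsys w' g') (hmin : ∀ i ∈ J, 0 ≤ rep cs h w⁻¹ (sr i))
    (hmin' : ∀ i ∈ J, 0 ≤ rep cs h w'⁻¹ (sr i)) {φ : Module.Dual k V} (hφ : φ ∈ Lp cs h T X ρ J g) {v : V}
    (hv : v ∈ Lf cs h T X ρ J g') (hne : φ v ≠ 0) : ∃ x ∈ WJ cs J, w⁻¹ * x * w' ∈ WJ cs (Jx cs h X ρ) := by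
  by_contra hcon
  push Not at hcon
  apply hne
  have key : ∀ l ∈ LJ cs h T X J, ∀ ψ ∈ fx (dualRep ρ) (UN cs h X), ∀ m ∈ D cs h X ρ,
      ψ (ρ (g⁻¹ * l * g') m) = 0 := by
    intro l hl ψ hψ m hm
    obtain ⟨x, hx, y, hy, e⟩ := pair_genJ R hg hg' hmin hmin' hψ hm hl
    rw [e]
    by_contra h0
    exact hcon x hx (mem_WJ_of_pair R hirr hψ ((hg.inv.mul hy).mul hg') hm h0)
  clear hne
  unfold Lp Sp at hφ
  unfold Lf Sp at hv
  induction hφ using Submodule.span_induction with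
  | mem x hx =>
    obtain ⟨b, hb, _, ⟨ψ, hψ, rfl⟩, rfl⟩ := hx
    induction hv using Submodule.span_induction with
    | mem z hz =>
      obtain ⟨c, hc, _, ⟨m, hm, rfl⟩, rfl⟩ := hz
      have h1 := key (b⁻¹ * c) (mul_mem (inv_mem hb) hc) ψ hψ m hm
      rw [dualRep_apply, dualRep_apply, ← rho_mul, ← rho_mul, ← rho_mul]
      have e : g⁻¹ * b⁻¹ * c * g' = g⁻¹ * (b⁻¹ * c) * g' := by group
      rw [e]
      exact h1
    | zero => rw [map_zero]
    | add x y _ _ hx hy => rw [map_add, hx, hy, add_zero]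
    | smul a x _ hx => rw [map_smul, hx, smul_zero]
  | zero => rfl
  | add x y _ _ hx hy => rw [LinearMap.add_apply, hx, hy, add_zero]
  | smul a x _ hx => rw [LinearMap.smul_apply, hx, smul_zero]

/-- **Levi restrictions**: the double cosets contribute independently -/
theorem dim_ge_levi [Nontrivial V] (J : Set I) {α : Type*} [Fintype α] (w : α → W) (g : α → Y)
    (hg : ∀ a, Rp cs R.nsys (w a) (g a)) (hmin : ∀ a, ∀ i ∈ J, 0 ≤ rep cs h (w a)⁻¹ (sr i))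
    (hsep : ∀ a a', a ≠ a' → ∀ x ∈ WJ cs J, (w a)⁻¹ * x * w a' ∉ WJ cs (Jx cs h X ρ)) :
    ∑ a, lrk cs h T X ρ J (g a) ≤ Module.finrank k V := by
  refine sum_prk_le _ _ fun a a' haa φ hφ v hv => ?_
  by_contra hne
  obtain ⟨x, hx, h1⟩ := mem_of_pairJ R hirr (hg a) (hg a') (hmin a) (hmin a') hφ hv hne
  exact hsep a a' haa x hx h1

omit R hirr [Finite Y] [Finite W] [Fact p.Prime] [CharP k p] in
/-- the kernel -/
theorem kernel_le_lrk {J : Set I} {g : Y} {G : Type*} [Group G] (ι : G →* Y) (hι : ∀ x, ι x ∈ LJ cs h T X J)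
    {φ : Module.Dual k V} (hφ : φ ∈ fx (dualRep ρ) (UN cs h X)) {v : V} (hv : v ∈ D cs h X ρ) :
    Module.finrank k (Submodule.span k (Set.range fun y : G => fun x : G => φ (ρ (g⁻¹ * ι (x * y) * g) v))) ≤
      lrk cs h T X ρ J g := by
  let Ψ : V →ₗ[k] (G → k) := LinearMap.pi fun x => φ.comp (ρ (g⁻¹ * ι x))
  have h1 := finrank_map_le_prk (Lf cs h T X ρ J g) (Lp cs h T X ρ J g) Ψ (by
    intro u _ h0
    funext x
    have h2 := h0 (dualRep ρ (ι x)⁻¹ (dualRep ρ g φ)) (mem_Sp _ (inv_mem (hι x)) ⟨φ, hφ, rfl⟩)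
    rw [dualRep_apply, dualRep_apply, inv_inv, ← rho_mul] at h2
    exact h2)
  refine le_trans (Submodule.finrank_mono ?_) h1
  rw [Submodule.span_le]
  rintro _ ⟨y, rfl⟩
  refine ⟨ρ (ι y) (ρ g v), mem_Sp _ (hι y) ⟨v, hv, rfl⟩, ?_⟩
  funext x
  change φ (ρ (g⁻¹ * ι x) (ρ (ι y) (ρ g v))) = _
  have e : g⁻¹ * ι x * ι y * g = g⁻¹ * ι (x * y) * g := by rw [map_mul]; group
  rw [← rho_mul, ← rho_mul, e]

/-- every vertex contributes -/
theorem one_le_lrk [Nontrivial V] (J : Set I) (g : Y) : 1 ≤ lrk cs h T X ρ J g := by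
  obtain ⟨c, hc, hc0⟩ := (Submodule.ne_bot_iff _).1 (simp_fx R ρ hirr).ne
  obtain ⟨φ, hφ, hne⟩ := exists_pair_D R hirr hc hc0
  refine one_le_prk (v := ρ g c) (φ := dualRep ρ g φ) (le_Sp ρ ⟨c, hc, rfl⟩) (le_Sp _ ⟨φ, hφ, rfl⟩) ?_
  rw [dualRep_apply, rho_inv_rho]
  exact hne

end

end Cfsg.Agent.H117.Levi
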