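import Cfsg.Agent.H117.LeviC

/-!
# Levi restrictions: generalised edges (task 2468, helper117)

`J` a set of nodes, `g` over `w`, `w⁻¹ J > 0`, `Rd = (Lp J g)^⊥`.

* `mem_Rd_of_fix` : a `U_J`-fixed vector killed by the functionals `ψ (g⁻¹ y ·)`, `y ∈ N_J`, is in `Rd`;
* `Ti_sub_mem` : `T_i g D ⊆ g D + Rd`; `n_memJ` : `n_i g D ⊆ k[X_{-i}] g D + Rd`;
* `Fi i = k[L_i] g D + Rd`, `Ii i` the interior, `finrank_Fi_le`;
* **`lrk_ge`** : `#vertices * dim D + ∑_edges (lrk {i} g - 2 dim D) ≤ lrk J g`.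
-/

set_option autoImplicit false
set_option linter.unusedSectionVars false
set_option linter.style.haveILetI false

namespace Cfsg.Agent.H117.Levi

open CoxeterSystem Cfsg.Agent.ChevalleyStructure.CoxeterGeom Cfsg.Agent.Tits.Roots Cfsg.Agent.Tits.Core
  Cfsg.Agent.Tits.Exchange Cfsg.Agent.Nodes.Reps Cfsg.Agent.Nodes.BNOf Cfsg.Agent.Nodes.StabComb
  Cfsg.Agent.Nodes.Bruhat Cfsg.Agent.Nodes.OppDec Cfsg.Agent.Nodes.LeviDec Cfsg.Agent.KFacts.RgdOpp
  Cfsg.Agent.Omega.CR Cfsg.Agent.Omega.FOne.Lift.Sd Cfsg.Agent.H905.Md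

variable {I W Y : Type*} [Fintype I] [DecidableEq I] [Group W] [Group Y] {M : CoxeterMatrix I}
  {cs : CoxeterSystem M W} {A : I → I → ℤ} {h : IsCartan M A} {p : ℕ} {T : Subgroup Y} {n : I → Y}
  {X : (I → ℤ) → Subgroup Y}

variable {k V : Type*} [Field k] [AddCommGroup V] [Module k V]

/-! ### the Weyl group -/

section weyl

omit [Group Y]

/-- an element which maps a simple root to a simple root -/
theorem conj_simple' {f : W} {i j : I} (e : rep cs h f (sr i) = sr j) : f * cs.simple i * f⁻¹ = cs.simple j := by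
  have e' : rep cs h f⁻¹ (sr j) = sr i := by rw [← e, rep_inv_apply]
  have hlt : ∀ {w : W} {i : I}, 0 ≤ rep cs h w (sr i) → cs.length (w * cs.simple i) = cs.length w + 1 := by
    intro w i h0
    rcases cs.length_mul_simple w i with h1 | h1
    · exact h1
    · exfalso
      exact ((isRoot_sr cs h i).act w).not_pos_neg h0 (nonpos_of_lt cs h w i (by omega))
  have hlt' : ∀ {w : W} {i : I}, 0 ≤ rep cs h w⁻¹ (sr i) → cs.length (cs.simple i * w) = cs.length w + 1 := by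
    intro w i h0
    have h1 := hlt h0
    rwa [cs.length_inv, ← cs.length_inv (w⁻¹ * cs.simple i), mul_inv_rev, inv_inv, cs.inv_simple] at h1
  have h2 := hlt' (w := f) (i := j) (by rw [e']; exact sr_nonneg i)
  rcases fold cs h2 (hlt (by rw [e]; exact sr_nonneg j)) with h6 | h6
  · exfalso
    have h7 : 0 ≤ rep cs h (cs.simple j * f) (sr i) := by
      refine nonneg_of_lt cs h _ i ?_
      omega
    have h8 : rep cs h (cs.simple j * f) (sr i) = - sr j := by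
      rw [rep_mul_apply, e, rep_simple_sr]
    rw [h8] at h7
    have h9 := h7 j
    rw [Pi.neg_apply, sr_self] at h9
    have h10 : (0 : ℤ) ≤ -1 := h9
    omega
  · rw [← h6, mul_inv_cancel_right]

/-- the reflection of a root of `J'` -/
theorem refl_mem_WJ [Finite W] {J' : Set I} {w : W} {i : I} (hβ : rep cs h w⁻¹ (sr i) ∈ RootsJ cs h J') :
    w⁻¹ * cs.simple i * w ∈ WJ cs J' := by
  obtain ⟨v, hv, j, hj, e⟩ := exists_of_mem_RootsJ hβ
  have h1 : rep cs h (w * v) (sr j) = sr i := by rw [rep_mul_apply, ← e, rep_apply_inv]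
  have h2 := conj_simple' h1
  have h3 : w⁻¹ * cs.simple i * w = v * cs.simple j * v⁻¹ := by rw [← h2]; group
  rw [h3]
  exact mul_mem (mul_mem hv (simple_mem_WJ cs hj)) (inv_mem hv)

/-- the stabiliser is a standard parabolic subgroup -/
theorem not_mem_of_up [Finite W] {J J' : Set I} {w : W} (hmin : ∀ i ∈ J, 0 ≤ rep cs h w⁻¹ (sr i)) {i : I} (hi : i ∈ J)
    (hs : w⁻¹ * cs.simple i * w ∉ WJ cs J') {x : W} (hx : x ∈ WJ cs J) (hxi : 0 ≤ rep cs h x (sr i)) :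
    w⁻¹ * (x * cs.simple i) * w ∉ WJ cs J' := by
  intro hu
  have hβ : IsRoot cs h (rep cs h w⁻¹ (sr i)) := (isRoot_sr cs h i).act _
  have h1 : rep cs h (w⁻¹ * (x * cs.simple i) * w) (rep cs h w⁻¹ (sr i)) = - rep cs h w⁻¹ (rep cs h x (sr i)) := by
    rw [rep_mul_apply, rep_apply_inv, rep_mul_apply, rep_mul_apply, rep_simple_sr, map_neg, map_neg]
  have h2 : rep cs h x (sr i) ∈ RootsJ cs h J := RootsJ.act hx (PosJ_subset J (sr_mem_PosJ hi))
  have h3 : 0 ≤ rep cs h w⁻¹ (rep cs h x (sr i)) := rep_nonneg hmin ⟨h2.1, hxi, h2.2⟩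
  rcases mem_PosJ_or_NotJ J' hβ (hmin i hi) with h4 | h4
  · exact hs (refl_mem_WJ (PosJ_subset _ h4))
  · have h5 := NotJ.act hu h4
    rw [h1] at h5
    exact h5.1.not_pos_neg h5.2.1 (neg_nonpos.2 h3)

theorem mem_WJ_single {i : I} {x : W} (hx : x ∈ WJ cs ({i} : Set I)) : x = 1 ∨ x = cs.simple i := by
  unfold WJ at hx
  induction hx using Subgroup.closure_induction with
  | mem y hy =>
    obtain ⟨j, hj, rfl⟩ := hy
    rw [Set.mem_singleton_iff] at hj
    right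
    rw [hj]
  | one => exact Or.inl rfl
  | mul a b _ _ ha hb =>
    rcases ha with rfl | rfl <;> rcases hb with rfl | rfl
    · left; rw [one_mul]
    · right; rw [one_mul]
    · right; rw [mul_one]
    · left; rw [cs.simple_mul_simple_self]
  | inv a _ ha =>
    rcases ha with rfl | rfl
    · left; rw [inv_one]
    · right; rw [cs.inv_simple]

end weyl

/-! ### the radical -/

/-- the vectors killed by `Lp J g` -/
def Rd (cs : CoxeterSystem M W) (h : IsCartan M A) (T : Subgroup Y) (X : (I → ℤ) → Subgroup Y)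
    (ρ : Y →* Module.End k V) (J : Set I) (g : Y) : Submodule k V := (Lp cs h T X ρ J g).dualCoannihilator

theorem mem_Rd {ρ : Y →* Module.End k V} {J : Set I} {g : Y} {v : V} : v ∈ Rd cs h T X ρ J g ↔
    ∀ l ∈ LJ cs h T X J, ∀ ψ ∈ fx (dualRep ρ) (UN cs h X), ψ (ρ (g⁻¹ * l) v) = 0 := by
  unfold Rd
  rw [Submodule.mem_dualCoannihilator]
  constructor
  · intro h0 l hl ψ hψ
    have h1 := h0 (dualRep ρ l⁻¹ (dualRep ρ g ψ)) (mem_Sp _ (inv_mem hl) ⟨ψ, hψ, rfl⟩)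
    rwa [dualRep_apply, dualRep_apply, inv_inv, ← rho_mul] at h1
  · intro h0 φ hφ
    unfold Lp Sp at hφ
    induction hφ using Submodule.span_induction with
    | mem x hx =>
      obtain ⟨b, hb, _, ⟨ψ, hψ, rfl⟩, rfl⟩ := hx
      rw [dualRep_apply, dualRep_apply, ← rho_mul]
      exact h0 _ (inv_mem hb) ψ hψ
    | zero => rfl
    | add x y _ _ hx hy => rw [LinearMap.add_apply, hx, hy, add_zero]
    | smul a x _ hx => rw [LinearMap.smul_apply, hx, smul_zero]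

theorem Ivt_Rd {ρ : Y →* Module.End k V} {J : Set I} {g : Y} : Ivt ρ (LJ cs h T X J) (Rd cs h T X ρ J g) := by
  intro b hb v hv
  rw [mem_Rd] at hv ⊢
  intro l hl ψ hψ
  have h1 := hv (l * b) (mul_mem hl hb) ψ hψ
  rwa [← rho_mul, mul_assoc]

/-- the functionals of `Lp {i} g` kill `Rd`, `i ∈ J` -/
theorem kill_Rd {ρ : Y →* Module.End k V} {J J' : Set I} (hJ : J' ⊆ J) {g : Y} {φ : Module.Dual k V}
    (hφ : φ ∈ Lp cs h T X ρ J' g) {v : V} (hv : v ∈ Rd cs h T X ρ J g) : φ v = 0 :=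
  (Submodule.mem_dualCoannihilator v).1 hv φ (Sp_mono _ (LJ_mono hJ) _ hφ)

section

variable (R : RGD cs h p T n X) [Finite Y] [Finite W] [Fact p.Prime] [CharP k p]
  {ρ : Y →* Module.End k V} [FiniteDimensional k V]
  (hirr : ∀ L : Submodule k V, Ivt ρ (GG cs h T X) L → L = ⊥ ∨ L = ⊤)
  {J : Set I} {w : W} {g : Y} (hg : Rp cs R.nsys w g) (hmin : ∀ i ∈ J, 0 ≤ rep cs h w⁻¹ (sr i))

include R hg in
omit [Finite Y] [Finite W] [Fact p.Prime] [CharP k p] [FiniteDimensional k V] in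
/-- the root groups of `J` and `g D` -/
theorem fix_of_pos {x : I → ℤ} (hx : IsRoot cs h x) (hwx : 0 ≤ rep cs h w⁻¹ x) {u : Y} (hu : u ∈ X x) {v : V}
    (hv : v ∈ (D cs h X ρ).map (ρ g)) : ρ u v = v := by
  obtain ⟨d, hd, rfl⟩ := hv
  have h1 := R.conj_mem' hg hx hu
  have h2 : ρ (g⁻¹ * u * g) d = d := hd _ (RGD.le_Sup (S := RGD.Pos cs h) ⟨hx.act _, hwx⟩ h1)
  have e : u * g = g * (g⁻¹ * u * g) := by group
  rw [← rho_mul, e, rho_mul, h2]

include R hg hmin in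
omit [Finite Y] [Finite W] [Fact p.Prime] [CharP k p] [FiniteDimensional k V] in
/-- the functionals and the commutators -/
theorem kill_cm {x : I → ℤ} (hx : x ∈ NegJ cs h J) {v : V} (hv : v ∈ cm ρ (X x) (⊤ : Submodule k V))
    {ψ : Module.Dual k V} (hψ : ψ ∈ fx (dualRep ρ) (UN cs h X)) : ψ (ρ g⁻¹ v) = 0 := by
  have h1 : ρ g⁻¹ v ∈ (cm ρ (X x) (⊤ : Submodule k V)).map (ρ g⁻¹) := ⟨v, hv, rfl⟩
  rw [map_cm, R.conj_rp hg.inv (isRoot_of_negJ hx)] at h1
  refine apply_cm hψ (cm_mono (X_le_UN ((isRoot_of_negJ hx).act _) ?_) le_top h1)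
  have h2 := rep_nonneg hmin hx
  rw [map_neg] at h2
  exact neg_nonneg.1 h2

include R hirr hg in
/-- `T` preserves `g D` -/
theorem T_gD [Nontrivial V] : Ivt ρ T ((D cs h X ρ).map (ρ g)) := by
  rintro t ht _ ⟨d, hd, rfl⟩
  have h1 : g⁻¹ * t * g ∈ T := by
    have h2 := (Subgroup.mem_normalizer_iff.1 hg.inv.mem_normalizer t).1 ht
    rwa [inv_inv] at h2
  refine ⟨ρ (g⁻¹ * t * g) d, D_ivt R hirr _ h1 d hd, ?_⟩
  rw [← rho_mul, ← rho_mul]
  congr 2
  group

include R hg hmin in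
omit [Finite Y] [Fact p.Prime] [CharP k p] [FiniteDimensional k V] in
/-- a `U_J`-fixed vector killed by the functionals over `N_J` -/
theorem mem_Rd_of_fix {v : V} (hv : ∀ u ∈ UJ cs h X J, ρ u v = v)
    (h0 : ∀ x ∈ WJ cs J, ∀ y, Rp cs R.nsys x y → ∀ ψ ∈ fx (dualRep ρ) (UN cs h X), ψ (ρ (g⁻¹ * y) v) = 0) :
    v ∈ Rd cs h T X ρ J g := by
  rw [mem_Rd]
  intro l hl ψ hψ
  obtain ⟨a, ha, x, hx, y, hy, u, hu, rfl⟩ := exists_opp_decJ R hl
  have h1 : g⁻¹ * a * g ∈ UN cs h X := by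
    refine conj_mem_Sup' R hg (fun x hx => isRoot_of_negJ hx) (fun x hx => ?_) ha
    refine ⟨(isRoot_of_negJ hx).act _, ?_⟩
    have h2 := rep_nonneg hmin hx
    rw [map_neg] at h2
    exact neg_nonneg.1 h2
  have e : g⁻¹ * (a * y * u) = (g⁻¹ * a * g) * (g⁻¹ * y) * u := by group
  rw [e, rho_mul, hv u hu, rho_mul, (mem_fx_dual ρ).1 hψ _ h1]
  exact h0 x hx y hy ψ hψ

include R hg hmin in
omit [Fact p.Prime] [CharP k p] [FiniteDimensional k V] [Finite W] in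
/-- `T_i g D` is fixed by `U_J` -/
theorem Ti_fixJ {i : I} (hi : i ∈ J) {v : V} (hv : v ∈ (D cs h X ρ).map (ρ g)) {u : Y} (hu : u ∈ UJ cs h X J) :
    ρ u (Ti n X ρ i v) = Ti n X ρ i v := by
  classical
  let _ := Fintype.ofFinite (X (sr i))
  -- the complement of `X_i`
  set S : Set (I → ℤ) := PosJ cs h J \ {sr i} with hS
  have hvS : ∀ a ∈ RGD.Sup X S, ρ a v = v := by
    obtain ⟨d, hd, rfl⟩ := hv
    intro a ha
    have h2 : g⁻¹ * a * g ∈ RGD.Sup X (RGD.Pos cs h) := by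
      refine conj_mem_Sup' R hg (fun x hx => hx.1.1) (fun x hx => ?_) ha
      exact ⟨hx.1.1.act _, rep_nonneg hmin hx.1⟩
    have h3 : ρ (g⁻¹ * a * g) d = d := hd _ h2
    have e : a * g = g * (g⁻¹ * a * g) := by group
    rw [← rho_mul, e, rho_mul, h3]
  have hn : X (sr i) ≤ Subgroup.normalizer (RGD.Sup X S : Set Y) := by
    refine R.X_le_normalizer_diff (fun x hx => ⟨hx.1, hx.2.1⟩) (isRoot_sr cs h i) (sr_nonneg i) ?_
    intro y hy hyi z hz
    refine ⟨⟨hz.1, RGD.nonneg_of_btwn (sr_nonneg i) hy.2.1 hz, fun l hl => ?_⟩,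
      btwn_ne_sr hz (sr_nonneg i) hy.1 hy.2.1 hyi⟩
    exact btwn_apply_zero hz (sr_ne (by rintro rfl; exact hl hi)) (hy.2.2 l hl)
  have key : ∀ a ∈ RGD.Sup X S, ρ a (Ti n X ρ i v) = Ti n X ρ i v := by
    intro a ha
    rw [Ti_apply, sg_def, map_sum]
    refine Finset.sum_congr rfl fun x _ => ?_
    have h1 : (x : Y)⁻¹ * a * x ∈ RGD.Sup X S := by
      have h2 := (Subgroup.mem_normalizer_iff.1 (inv_mem (hn x.2)) a).1 ha
      rwa [inv_inv] at h2
    have h2 : (n i)⁻¹ * ((x : Y)⁻¹ * a * x) * n i ∈ RGD.Sup X S := by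
      refine conj_mem_Sup' R (rp_simple cs R.nsys i) (fun x hx => hx.1.1) (fun x hx => ?_) h1
      rw [cs.inv_simple]
      refine ⟨⟨hx.1.1.act _, hx.1.1.simple_nonneg hx.1.2.1 i hx.2, fun l hl => ?_⟩, ?_⟩
      · rw [rep_simple_apply cs h i x l (by rintro rfl; exact hl hi)]
        exact hx.1.2.2 l hl
      · intro h3
        rw [Set.mem_singleton_iff] at h3
        have h4 : x = - sr i := by
          have h5 : rep cs h (cs.simple i) (rep cs h (cs.simple i) x) = x := by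
            rw [← rep_mul_apply, cs.simple_mul_simple_self, map_one, Module.End.one_apply]
          rw [← h5, h3, rep_simple_sr]
        have h5 := hx.1.2.1
        rw [h4] at h5
        exact (isRoot_sr cs h i).neg.not_pos_neg h5 (neg_nonpos.2 (sr_nonneg i))
    have h4 : a * ((x : Y) * n i) = (x : Y) * n i * ((n i)⁻¹ * ((x : Y)⁻¹ * a * x) * n i) := by group
    rw [← rho_mul ρ (x : Y), ← rho_mul, h4, rho_mul, hvS _ h2]
  obtain ⟨r, hr, b, hb, rfl⟩ := exists_mul R (S := PosJ cs h J) (i := i) (fun x hx => ⟨hx.1, hx.2.1⟩)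
    (sr_mem_PosJ hi) (fun y hy hyi z hz => ⟨hz.1, RGD.nonneg_of_btwn (sr_nonneg i) hy.2.1 hz, fun l hl =>
      btwn_apply_zero hz (sr_ne (by rintro rfl; exact hl hi)) (hy.2.2 l hl)⟩) hu
  have h5 : ρ b (Ti n X ρ i v) = Ti n X ρ i v := rho_sg_of_mem ρ _ hb _
  rw [rho_mul, h5, key r hr]

include R hirr hg hmin in
/-- the functionals kill `y n_i g D` if `y α_i > 0` -/
theorem kill_up [Nontrivial V] {i : I} (hi : i ∈ J) (hs : w⁻¹ * cs.simple i * w ∉ WJ cs (Jx cs h X ρ)) {x : W}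
    (hx : x ∈ WJ cs J) (hxi : 0 ≤ rep cs h x (sr i)) {y : Y} (hy : Rp cs R.nsys x y) {ψ : Module.Dual k V}
    (hψ : ψ ∈ fx (dualRep ρ) (UN cs h X)) {v : V} (hv : v ∈ (D cs h X ρ).map (ρ g)) :
    ψ (ρ (g⁻¹ * (y * n i)) v) = 0 := by
  obtain ⟨d, hd, rfl⟩ := hv
  by_contra hne
  rw [← rho_mul] at hne
  exact not_mem_of_up hmin hi hs hx hxi
    (mem_WJ_of_pair R hirr hψ ((hg.inv.mul (hy.mul (rp_simple cs R.nsys i))).mul hg) hd hne)

include R hirr hg hmin in
/-- `T_i g D ⊆ g D + Rd` -/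
theorem Ti_mem [Nontrivial V] {i : I} (hi : i ∈ J) (hs : w⁻¹ * cs.simple i * w ∉ WJ cs (Jx cs h X ρ)) {v : V}
    (hv : v ∈ (D cs h X ρ).map (ρ g)) : Ti n X ρ i v ∈ (D cs h X ρ).map (ρ g) ⊔ Rd cs h T X ρ J g := by
  classical
  let _ := Fintype.ofFinite (X (sr i))
  -- `u n_i v = y_u t_u v`
  have key : ∀ u : X (sr i), ∃ t ∈ T, ∃ y ∈ X (-sr i), (u : Y) ≠ 1 → ρ ((u : Y) * n i) v = ρ (y * t) v := by
    intro u
    by_cases hu : (u : Y) = 1
    · exact ⟨1, one_mem _, 1, one_mem _, fun h1 => absurd hu h1⟩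
    · obtain ⟨y, hy, t, ht, b, hb, e⟩ := mul_n R i u.2 hu
      refine ⟨t, ht, y, hy, fun _ => ?_⟩
      rw [e, rho_mul, fix_of_pos R hg (isRoot_sr cs h i) (hmin i hi) hb hv]
  choose t ht y hy e using key
  set s : V := ∑ u ∈ Finset.univ.erase (1 : X (sr i)), ρ (t u) v with hs_def
  have hsD : s ∈ (D cs h X ρ).map (ρ g) := Submodule.sum_mem _ fun u _ => T_gD R hirr hg _ (ht u) v hv
  have hT : Ti n X ρ i v = ρ (n i) v + ∑ u ∈ Finset.univ.erase (1 : X (sr i)), ρ ((u : Y) * n i) v := by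
    rw [Ti_apply, sg_def, ← Finset.add_sum_erase _ _ (Finset.mem_univ (1 : X (sr i)))]
    congr 1
    · rw [Subgroup.coe_one, rho_one]
    · exact Finset.sum_congr rfl fun u _ => (rho_mul ρ _ _ _).symm
  have hne1 : ∀ u ∈ Finset.univ.erase (1 : X (sr i)), (u : Y) ≠ 1 := fun u hu h1 =>
    Finset.ne_of_mem_erase hu (Subtype.ext h1)
  -- the case `x α_i > 0`
  have up : ∀ x ∈ WJ cs J, 0 ≤ rep cs h x (sr i) → ∀ z, Rp cs R.nsys x z →
      ∀ ψ ∈ fx (dualRep ρ) (UN cs h X), ψ (ρ (g⁻¹ * z) (Ti n X ρ i v)) = ψ (ρ (g⁻¹ * z) s) := by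
    intro x hx hxi z hz ψ hψ
    rw [hT, map_add, map_add, ← rho_mul, mul_assoc, kill_up R hirr hg hmin hi hs hx hxi hz hψ hv, zero_add, hs_def,
      map_sum, map_sum, map_sum, map_sum]
    refine Finset.sum_congr rfl fun u hu => ?_
    rw [e u (hne1 u hu), rho_mul ρ (y u)]
    -- `z y_u z⁻¹` fixes the functional
    have hr : rep cs h x (sr i) ∈ RootsJ cs h J := RootsJ.act hx (PosJ_subset J (sr_mem_PosJ hi))
    have hneg : -rep cs h x (sr i) ∈ NegJ cs h J := by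
      change - -rep cs h x (sr i) ∈ PosJ cs h J
      rw [neg_neg]
      exact ⟨hr.1, hxi, hr.2⟩
    have h1 : ρ (y u) (ρ (t u) v) - ρ (t u) v ∈ cm ρ (X (-sr i)) (⊤ : Submodule k V) := mem_cm (hy u) trivial
    have h2 : ρ z (ρ (y u) (ρ (t u) v) - ρ (t u) v) ∈ (cm ρ (X (-sr i)) (⊤ : Submodule k V)).map (ρ z) := ⟨_, h1, rfl⟩
    rw [map_cm, R.conj_rp hz (isRoot_sr cs h i).neg, map_neg] at h2
    have h3 := kill_cm R hg hmin hneg (cm_mono le_rfl le_top h2) hψ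
    rw [map_sub, map_sub, map_sub, sub_eq_zero] at h3
    rw [rho_mul ρ g⁻¹, h3, rho_mul]
  have h1 : Ti n X ρ i v - s ∈ Rd cs h T X ρ J g := by
    refine mem_Rd_of_fix R hg hmin ?_ ?_
    · intro u hu
      rw [map_sub, Ti_fixJ R hg hmin hi hv hu]
      congr 1
      obtain ⟨d, hd, hds⟩ := hsD
      have h2 : g⁻¹ * u * g ∈ RGD.Sup X (RGD.Pos cs h) := by
        refine conj_mem_Sup' R hg (fun x hx => hx.1) (fun x hx => ?_) hu
        exact ⟨hx.1.act _, rep_nonneg hmin hx⟩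
      have h3 : ρ (g⁻¹ * u * g) d = d := hd _ h2
      have e : u * g = g * (g⁻¹ * u * g) := by group
      rw [← hds, ← rho_mul, e, rho_mul, h3]
    · intro x hx z hz ψ hψ
      rw [map_sub, map_sub, sub_eq_zero]
      rcases ((isRoot_sr cs h i).act x).pos_or_neg with hxi | hxi
      · exact up x hx hxi z hz ψ hψ
      · -- `x = x' s_i`
        have hx' : x * cs.simple i ∈ WJ cs J := mul_mem hx (simple_mem_WJ cs hi)
        have hxi' : 0 ≤ rep cs h (x * cs.simple i) (sr i) := by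
          rw [rep_mul_apply, rep_simple_sr, map_neg]
          exact neg_nonneg.2 hxi
        have hz' : Rp cs R.nsys (x * cs.simple i) (z * (n i)⁻¹) := by
          have := hz.mul (rp_simple cs R.nsys i).inv
          rwa [cs.inv_simple] at this
        have hr : rep cs h (x * cs.simple i) (sr i) ∈ RootsJ cs h J :=
          RootsJ.act hx' (PosJ_subset J (sr_mem_PosJ hi))
        have hneg : -rep cs h (x * cs.simple i) (sr i) ∈ NegJ cs h J := by
          change - -rep cs h (x * cs.simple i) (sr i) ∈ PosJ cs h J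
          rw [neg_neg]
          exact ⟨hr.1, hxi', hr.2⟩
        have hright : ψ (ρ (g⁻¹ * z) s) = 0 := by
          have h2 := kill_up R hirr hg hmin hi hs hx' hxi' hz' hψ hsD
          rwa [inv_mul_cancel_right] at h2
        rw [hright]
        -- the other side
        have h2 : ∀ u : X (sr i), ψ (ρ (g⁻¹ * z) (ρ (u : Y) (ρ (n i) v))) =
            ψ (ρ (g⁻¹ * (z * n i)) v) := by
          intro u
          have h3 : n i * u * (n i)⁻¹ ∈ X (-sr i) := by
            have := R.conj_mem (rp_simple cs R.nsys i) (isRoot_sr cs h i) u.2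
            rwa [rep_simple_sr] at this
          have h4 : ρ (n i * u * (n i)⁻¹) (ρ (n i * n i) v) - ρ (n i * n i) v ∈
              cm ρ (X (-sr i)) (⊤ : Submodule k V) := mem_cm h3 trivial
          have h5 : ρ (z * (n i)⁻¹) (ρ (n i * u * (n i)⁻¹) (ρ (n i * n i) v) - ρ (n i * n i) v) ∈
              (cm ρ (X (-sr i)) (⊤ : Submodule k V)).map (ρ (z * (n i)⁻¹)) := ⟨_, h4, rfl⟩
          rw [map_cm, R.conj_rp hz' (isRoot_sr cs h i).neg, map_neg] at h5
          have h6 := kill_cm R hg hmin hneg (cm_mono le_rfl le_top h5) hψ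
          rw [map_sub, map_sub, map_sub, sub_eq_zero, ← rho_mul, ← rho_mul, ← rho_mul, ← rho_mul, ← rho_mul] at h6
          rw [← rho_mul, ← rho_mul]
          have e1 : g⁻¹ * z * u * n i = g⁻¹ * (z * (n i)⁻¹) * (n i * u * (n i)⁻¹) * (n i * n i) := by group
          have e2 : g⁻¹ * (z * n i) = g⁻¹ * (z * (n i)⁻¹) * (n i * n i) := by group
          rw [e1, e2, h6]
        rw [Ti_apply, sg_def, map_sum, map_sum, Finset.sum_congr rfl fun u _ => h2 u, Finset.sum_const,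
          Finset.card_univ, nsmul_eq_mul, ← Nat.card_eq_fintype_card, (CharP.cast_eq_zero_iff k p _).2 (p_dvd R i),
          zero_mul]
  have h2 : Ti n X ρ i v = s + (Ti n X ρ i v - s) := by abel
  rw [h2]
  exact Submodule.add_mem_sup hsD h1

include R hirr hg hmin in
/-- `n_i g D ⊆ k[X_{-i}] g D + Rd` -/
theorem n_memJ [Nontrivial V] {i : I} (hi : i ∈ J) {v : V} (hv : v ∈ (D cs h X ρ).map (ρ g)) :
    ρ (n i) v ∈ Sp ρ (X (-sr i)) ((D cs h X ρ).map (ρ g)) ⊔ Rd cs h T X ρ J g := by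
  classical
  by_cases hs : w⁻¹ * cs.simple i * w ∈ WJ cs (Jx cs h X ρ)
  · refine Submodule.mem_sup_left (le_Sp ρ ?_)
    obtain ⟨d, hd, rfl⟩ := hv
    refine ⟨ρ (g⁻¹ * n i * g) d, rp_D R hirr hs ((hg.inv.mul (rp_simple cs R.nsys i)).mul hg) hd, ?_⟩
    rw [← rho_mul, ← rho_mul]
    congr 2
    group
  · let _ := Fintype.ofFinite (X (sr i))
    have hT : Ti n X ρ i v = ρ (n i) v + ∑ u ∈ Finset.univ.erase (1 : X (sr i)), ρ ((u : Y) * n i) v := by
      rw [Ti_apply, sg_def, ← Finset.add_sum_erase _ _ (Finset.mem_univ (1 : X (sr i)))]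
      congr 1
      · rw [Subgroup.coe_one, rho_one]
      · exact Finset.sum_congr rfl fun u _ => (rho_mul ρ _ _ _).symm
    have h1 : ρ (n i) v = Ti n X ρ i v - ∑ u ∈ Finset.univ.erase (1 : X (sr i)), ρ ((u : Y) * n i) v := by
      rw [hT]; abel
    rw [h1]
    refine Submodule.sub_mem _ (sup_le_sup_right (le_Sp ρ) _ (Ti_mem R hirr hg hmin hi hs hv)) ?_
    refine Submodule.mem_sup_left (Submodule.sum_mem _ fun u hu => ?_)
    have hu1 : (u : Y) ≠ 1 := fun h1 => Finset.ne_of_mem_erase hu (Subtype.ext h1)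
    obtain ⟨y, hy, t, ht, b, hb, e⟩ := mul_n R i u.2 hu1
    rw [e, rho_mul, fix_of_pos R hg (isRoot_sr cs h i) (hmin i hi) hb hv, rho_mul]
    exact mem_Sp ρ hy (T_gD R hirr hg t ht v hv)

/-! ### the edge modules -/

/-- `k[L_i] g D + Rd` -/
def Fi (cs : CoxeterSystem M W) (h : IsCartan M A) (T : Subgroup Y) (X : (I → ℤ) → Subgroup Y)
    (ρ : Y →* Module.End k V) (J : Set I) (g : Y) (i : I) : Submodule k V :=
  Lf cs h T X ρ {i} g ⊔ Rd cs h T X ρ J g

/-- `[F_i, X_x] + Rd` -/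
def Ci (cs : CoxeterSystem M W) (h : IsCartan M A) (T : Subgroup Y) (X : (I → ℤ) → Subgroup Y)
    (ρ : Y →* Module.End k V) (J : Set I) (g : Y) (i : I) (x : I → ℤ) : Submodule k V :=
  cm ρ (X x) (Fi cs h T X ρ J g i) ⊔ Rd cs h T X ρ J g

/-- the interior of the edge -/
def Ii (cs : CoxeterSystem M W) (h : IsCartan M A) (T : Subgroup Y) (X : (I → ℤ) → Subgroup Y)
    (ρ : Y →* Module.End k V) (J : Set I) (g : Y) (i : I) : Submodule k V :=
  Ci cs h T X ρ J g i (sr i) ⊓ Ci cs h T X ρ J g i (-sr i)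

omit [Finite Y] [Finite W] [Fact p.Prime] [CharP k p] [FiniteDimensional k V] in
theorem Ivt_supJ {B : Subgroup Y} {L L' : Submodule k V} (h : Ivt ρ B L) (h' : Ivt ρ B L') : Ivt ρ B (L ⊔ L') := by
  intro b hb v hv
  obtain ⟨a, ha, c, hc, rfl⟩ := Submodule.mem_sup.1 hv
  rw [map_add]
  exact Submodule.add_mem_sup (h b hb a ha) (h' b hb c hc)

omit [Finite Y] [Finite W] [Fact p.Prime] [CharP k p] [FiniteDimensional k V] in
theorem Ivt_Fi {i : I} (hi : i ∈ J) : Ivt ρ (LJ cs h T X {i}) (Fi cs h T X ρ J g i) :=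
  Ivt_supJ (Ivt_Sp _ _) (Ivt.mono (LJ_mono (Set.singleton_subset_iff.2 hi)) Ivt_Rd)

include R hirr hg hmin in
/-- `F_i = k[X_{-i}] g D + Rd` -/
theorem Fi_eq [Nontrivial V] {i : I} (hi : i ∈ J) :
    Fi cs h T X ρ J g i = Sp ρ (X (-sr i)) ((D cs h X ρ).map (ρ g)) ⊔ Rd cs h T X ρ J g := by
  have hX : X (-sr i) ≤ LJ cs h T X {i} := X_le_LJ (RootsJ.neg (sr_mem_Roots i))
  have hRd : Ivt ρ (LJ cs h T X {i}) (Rd cs h T X ρ J g) :=
    Ivt.mono (LJ_mono (Set.singleton_subset_iff.2 hi)) Ivt_Rd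
  set N := Sp ρ (X (-sr i)) ((D cs h X ρ).map (ρ g)) ⊔ Rd cs h T X ρ J g with hN
  apply le_antisymm
  · refine sup_le (Sp_le ((le_Sp ρ).trans le_sup_left) ?_) le_sup_right
    have hT : Ivt ρ T N := by
      refine Ivt_supJ (Ivt_of_le ρ (T_stable ρ (T_gD R hirr hg) fun t ht c hc => ?_)) (Ivt.mono T_le_LJ hRd)
      rw [← R.tor _ (isRoot_sr cs h i).neg t ht]
      exact conj_mem_cj.2 hc
    have hm : Ivt ρ (X (-sr i)) N := Ivt_supJ (Ivt_Sp _ _) (Ivt.mono hX hRd)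
    -- `n i`
    have hn : ∀ v ∈ N, ρ (n i) v ∈ N := by
      intro v hv
      obtain ⟨a, ha, c, hc, rfl⟩ := Submodule.mem_sup.1 hv
      rw [map_add]
      refine add_mem ?_ (Submodule.mem_sup_right (hRd _ (n_mem_LJ R rfl) c hc))
      clear hv
      unfold Sp at ha
      induction ha using Submodule.span_induction with
      | mem x hx =>
        obtain ⟨b, hb, v, hv, rfl⟩ := hx
        by_cases hb1 : b = 1
        · rw [hb1, rho_one]; exact n_memJ R hirr hg hmin hi hv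
        have h1 : n i * b * (n i)⁻¹ ∈ X (sr i) := by
          have := R.conj_mem (rp_simple cs R.nsys i) (isRoot_sr cs h i).neg hb
          rwa [map_neg, rep_simple_sr, neg_neg] at this
        have h2 : n i * b * (n i)⁻¹ ≠ 1 := fun h3 => hb1 (mul_eq_left.1 (mul_inv_eq_one.1 h3))
        obtain ⟨y, hy, t, ht, c, hc, e⟩ := mul_n R i h1 h2
        have e1 : n i * b = n i * b * (n i)⁻¹ * n i := by group
        rw [← rho_mul, e1, e, rho_mul, rho_mul, fix_of_pos R hg (isRoot_sr cs h i) (hmin i hi) hc hv]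
        exact Submodule.mem_sup_left (mem_Sp ρ hy (T_gD R hirr hg t ht v hv))
      | zero => rw [map_zero]; exact zero_mem _
      | add x y _ _ hx hy => rw [map_add]; exact add_mem hx hy
      | smul a x _ hx => rw [map_smul]; exact Submodule.smul_mem _ _ hx
    have hn' : n i ∈ stS ρ N := by
      refine mem_stS ρ hn fun v hv => ?_
      have h1 : (n i)⁻¹ = (n i * n i)⁻¹ * n i := by group
      rw [h1, rho_mul]
      exact hT _ (inv_mem (R.sq_mem_T i)) _ (hn v hv)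
    refine Ivt_of_le ρ (LJ_single_le (Ivt.le_stS hT) ?_ (Ivt.le_stS hm))
    intro x hx
    have h1 : (n i)⁻¹ * x * n i ∈ X (-sr i) := conj_n_X' R i hx
    have h2 : x = n i * ((n i)⁻¹ * x * n i) * (n i)⁻¹ := by group
    rw [h2]
    exact mul_mem (mul_mem hn' (Ivt.le_stS hm h1)) (inv_mem hn')
  · exact sup_le_sup_right (Sp_mono ρ hX _) _

include R hirr hg hmin in
theorem Fi_le [Nontrivial V] {i : I} (hi : i ∈ J) :
    Fi cs h T X ρ J g i ≤ (D cs h X ρ).map (ρ g) ⊔ Ci cs h T X ρ J g i (-sr i) := by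
  conv_lhs => rw [Fi_eq R hirr hg hmin hi]
  refine sup_le ?_ (le_sup_right.trans le_sup_right)
  unfold Sp
  rw [Submodule.span_le]
  rintro _ ⟨b, hb, v, hv, rfl⟩
  have e : ρ b v = v + (ρ b v - v) := by abel
  rw [e]
  exact Submodule.add_mem_sup hv (Submodule.mem_sup_left (mem_cm hb (Submodule.mem_sup_left (le_Sp ρ hv))))

omit [Finite Y] [Finite W] [Fact p.Prime] [CharP k p] [FiniteDimensional k V] in
theorem Ci_le {i : I} (hi : i ∈ J) {x : I → ℤ} (hx : x ∈ RootsJ cs h ({i} : Set I)) :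
    Ci cs h T X ρ J g i x ≤ Fi cs h T X ρ J g i :=
  sup_le (cm_le fun b hb v hv => Submodule.sub_mem _ (Ivt_Fi hi b (X_le_LJ hx hb) v hv) hv) le_sup_right

omit [Finite Y] [Finite W] [Fact p.Prime] [CharP k p] [FiniteDimensional k V] in
theorem map_of_Ivt {B : Subgroup Y} {L : Submodule k V} (hL : Ivt ρ B L) {b : Y} (hb : b ∈ B) :
    L.map (ρ b) = L := by
  apply le_antisymm
  · rintro _ ⟨v, hv, rfl⟩
    exact hL b hb v hv
  · intro v hv
    exact ⟨ρ b⁻¹ v, hL _ (inv_mem hb) v hv, rho_rho_inv ρ _ v⟩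

include R in
omit [Finite Y] [Finite W] [Fact p.Prime] [CharP k p] [FiniteDimensional k V] in
theorem n_Ci {i : I} (hi : i ∈ J) {x : I → ℤ} (hx : IsRoot cs h x) :
    (Ci cs h T X ρ J g i x).map (ρ (n i)) = Ci cs h T X ρ J g i (rep cs h (cs.simple i) x) := by
  have hn : n i ∈ LJ cs h T X ({i} : Set I) := n_mem_LJ R rfl
  unfold Ci
  rw [Submodule.map_sup, map_cm, map_of_Ivt (Ivt_Fi hi) hn, R.conj_rp (rp_simple cs R.nsys i) hx,
    map_of_Ivt (Ivt_Rd (J := J)) (n_mem_LJ R hi)]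

include R in
omit [Finite Y] [Finite W] [Fact p.Prime] [CharP k p] [FiniteDimensional k V] in
theorem n_Ii {i : I} (hi : i ∈ J) : (Ii cs h T X ρ J g i).map (ρ (n i)) = Ii cs h T X ρ J g i := by
  unfold Ii
  have hinj : Function.Injective (ρ (n i)) := (Cfsg.Agent.H905.DC.rhoEquiv ρ (n i)).injective
  rw [Submodule.map_inf (ρ (n i)) hinj, n_Ci R hi (isRoot_sr cs h i), n_Ci R hi (isRoot_sr cs h i).neg, map_neg,
    rep_simple_sr, neg_neg, inf_comm]

omit [Finite Y] [Finite W] [Fact p.Prime] [CharP k p] [FiniteDimensional k V] in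
theorem Ii_le {i : I} (hi : i ∈ J) : Ii cs h T X ρ J g i ≤ Fi cs h T X ρ J g i :=
  inf_le_left.trans (Ci_le hi (sr_mem_Roots i))

include R hirr hg hmin in
theorem finrank_Fi_le [Nontrivial V] {i : I} (hi : i ∈ J) :
    Module.finrank k (Fi cs h T X ρ J g i) ≤
      Module.finrank k (Ii cs h T X ρ J g i) + 2 * Module.finrank k (D cs h X ρ) := by
  have h1 := Submodule.finrank_mono (Fi_le R hirr hg hmin hi)
  have h2 := Submodule.finrank_add_le_finrank_add_finrank ((D cs h X ρ).map (ρ g)) (Ci cs h T X ρ J g i (-sr i))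
  have h3 : Module.finrank k (Ci cs h T X ρ J g i (sr i)) = Module.finrank k (Ci cs h T X ρ J g i (-sr i)) := by
    have h4 := n_Ci (ρ := ρ) (g := g) R hi (isRoot_sr cs h i)
    rw [rep_simple_sr] at h4
    rw [← h4, finrank_map]
  have h4 := Submodule.finrank_sup_add_finrank_inf_eq (Ci cs h T X ρ J g i (sr i)) (Ci cs h T X ρ J g i (-sr i))
  have h6 : sr i ∈ RootsJ cs h ({i} : Set I) := sr_mem_Roots i
  have h5 : Module.finrank k (Ci cs h T X ρ J g i (sr i) ⊔ Ci cs h T X ρ J g i (-sr i) : Submodule k V) ≤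
      Module.finrank k (Fi cs h T X ρ J g i) :=
    Submodule.finrank_mono (sup_le (Ci_le hi h6) (Ci_le hi (RootsJ.neg h6)))
  rw [finrank_map] at h2
  unfold Ii
  omega

/-! ### orthogonality -/

include R hg hmin in
omit [Finite Y] [Fact p.Prime] [CharP k p] [FiniteDimensional k V] [Finite W] in
/-- the vertex functionals kill the interiors -/
theorem vertex_killJ {x : W} (hx : x ∈ WJ cs J) {y : Y} (hy : Rp cs R.nsys x y) {i : I} (hi : i ∈ J) {m : V}
    (hm : m ∈ Ii cs h T X ρ J g i) {ψ : Module.Dual k V} (hψ : ψ ∈ fx (dualRep ρ) (UN cs h X)) :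
    ψ (ρ (g⁻¹ * y) m) = 0 := by
  have hyL : y ∈ LJ cs h T X J := rp_mem_LJ R hx hy
  have hr : rep cs h x (sr i) ∈ RootsJ cs h J := RootsJ.act hx (PosJ_subset J (sr_mem_PosJ hi))
  -- a root `β = ± α_i` with `x β < 0`
  have key : ∀ β, IsRoot cs h β → rep cs h x β ∈ NegJ cs h J → m ∈ Ci cs h T X ρ J g i β →
      ψ (ρ (g⁻¹ * y) m) = 0 := by
    intro β hβ hneg hm
    obtain ⟨a, ha, r, hr, rfl⟩ := Submodule.mem_sup.1 hm
    have h1 := (mem_Rd.1 hr) y hyL ψ hψ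
    have h2 : ρ y a ∈ (cm ρ (X β) (Fi cs h T X ρ J g i)).map (ρ y) := ⟨a, ha, rfl⟩
    rw [map_cm, R.conj_rp hy hβ] at h2
    have h3 := kill_cm R hg hmin hneg (cm_mono le_rfl le_top h2) hψ
    rw [map_add, map_add, h1, add_zero, rho_mul]
    exact h3
  rcases hr.1.pos_or_neg with h0 | h0
  · refine key (-sr i) (isRoot_sr cs h i).neg ?_ hm.2
    rw [map_neg]
    change - -rep cs h x (sr i) ∈ PosJ cs h J
    rw [neg_neg]
    exact ⟨hr.1, h0, hr.2⟩
  · exact key (sr i) (isRoot_sr cs h i) ⟨hr.1.neg, neg_nonneg.2 h0, (RootsJ.neg hr).2⟩ hm.1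

include R hg hmin in
omit [Finite Y] [Fact p.Prime] [CharP k p] [FiniteDimensional k V] [Finite W] in
/-- the edge functionals and the root groups outside the edge -/
theorem kill_edge {i : I} (hi : i ∈ J) {γ : I → ℤ} (hγ : γ ∈ NegJ cs h J) (hγi : γ ∉ RootsJ cs h ({i} : Set I))
    {ψ : Module.Dual k V} (hψ : ψ ∈ Lp cs h T X ρ {i} g) {v : V} (hv : v ∈ cm ρ (X γ) (⊤ : Submodule k V)) :
    ψ v = 0 := by
  set S : Set (I → ℤ) := {x | x ∈ NotNJ cs h ({i} : Set I) ∧ x ∈ RootsJ cs h J} with hS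
  have hnorm : LJ cs h T X {i} ≤ Subgroup.normalizer (RGD.Sup X S : Set Y) := by
    refine sup_le (R.T_le_normalizer fun _ hx => hx.2.1) (RGD.Sup_le fun x hx => ?_)
    refine R.le_normalizer hx.1 fun y hy => ⟨hy.2.1, Or.inr ⟨?_, fun z hz => ⟨btwn_NotNJ hx hy.1 hz, hz.1, ?_⟩⟩⟩
    · intro h1
      exact ne_neg_of_NotJ (RootsJ.neg hx) hy.1 (by rw [h1])
    · intro l hl
      exact btwn_apply_zero hz (hx.2 l (by rintro rfl; exact hl hi)) (hy.2.2 l hl)
  have h1 : Lp cs h T X ρ {i} g ≤ fx (dualRep ρ) (RGD.Sup X S) := by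
    refine Sp_le ?_ (fx_Ivt hnorm)
    rw [map_fx]
    intro φ hφ b hb
    refine hφ b ?_
    rw [mem_cj]
    refine conj_mem_Sup' R hg (fun x hx => hx.2.1) (fun x hx => ?_) hb
    refine ⟨hx.2.1.act _, ?_⟩
    have h2 : -x ∈ PosJ cs h J := by
      have h3 : -x ∈ NotJ cs h ({i} : Set I) := hx.1
      exact ⟨h3.1, h3.2.1, (RootsJ.neg hx.2).2⟩
    have h3 := rep_nonneg hmin h2
    rw [map_neg] at h3
    exact neg_nonneg.1 h3
  have h2 : X γ ≤ RGD.Sup X S := by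
    refine RGD.le_Sup ⟨?_, ?_⟩
    · refine (mem_PosJ_or_NotJ ({i} : Set I) hγ.1 hγ.2.1).resolve_left fun h3 => hγi ?_
      have := RootsJ.neg (PosJ_subset _ h3)
      rwa [neg_neg] at this
    · have := RootsJ.neg (PosJ_subset _ hγ)
      rwa [neg_neg] at this
  exact apply_cm (h1 hψ) (cm_mono h2 le_rfl hv)

include R hirr hg hmin in
/-- the edge functionals and the interiors -/
theorem edge_pairJ [Nontrivial V] {x : W} (hx : x ∈ WJ cs J) {y : Y} (hy : Rp cs R.nsys x y) {i i' : I} (hi : i ∈ J)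
    (hi' : i' ∈ J) {m : V} (hm : m ∈ Ii cs h T X ρ J g i') {ψ : Module.Dual k V} (hψ : ψ ∈ Lp cs h T X ρ {i} g)
    (hne : ψ (ρ y m) ≠ 0) : (rep cs h x (sr i') = sr i ∨ rep cs h x (sr i') = -sr i) ∧
      (w⁻¹ * x * w ∈ WJ cs (Jx cs h X ρ) ∨ w⁻¹ * (cs.simple i * x) * w ∈ WJ cs (Jx cs h X ρ)) := by
  have hr : rep cs h x (sr i') ∈ RootsJ cs h J := RootsJ.act hx (PosJ_subset J (sr_mem_PosJ hi'))
  have hJi : ({i} : Set I) ⊆ J := Set.singleton_subset_iff.2 hi
  by_cases hβ : rep cs h x (sr i') ∈ RootsJ cs h ({i} : Set I)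
  · -- the positive case
    have pos : ∀ x', x' ∈ WJ cs J → ∀ y', Rp cs R.nsys x' y' → rep cs h x' (sr i') = sr i →
        ∀ m' ∈ Fi cs h T X ρ J g i', ψ (ρ y' m') ≠ 0 →
          (w⁻¹ * x' * w ∈ WJ cs (Jx cs h X ρ) ∨ w⁻¹ * (cs.simple i * x') * w ∈ WJ cs (Jx cs h X ρ)) := by
      intro x' hx' y' hy' hxx m' hm' hne'
      obtain ⟨a, ha, r, hr, rfl⟩ := Submodule.mem_sup.1 hm'
      have h1 : ψ (ρ y' r) = 0 := kill_Rd hJi hψ (Ivt_Rd y' (rp_mem_LJ R hx' hy') r hr)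
      rw [map_add, map_add, h1, add_zero] at hne'
      have h2 : ρ y' a ∈ Lf cs h T X ρ {i} (y' * g) := by
        have h3 : ρ y' a ∈ (Sp ρ (LJ cs h T X {i'}) ((D cs h X ρ).map (ρ g))).map (ρ y') := ⟨a, ha, rfl⟩
        rw [map_Sp, cj_LJ R hy' hxx] at h3
        have h4 : ((D cs h X ρ).map (ρ g)).map (ρ y') = (D cs h X ρ).map (ρ (y' * g)) := by
          ext v
          constructor
          · rintro ⟨_, ⟨d, hd, rfl⟩, rfl⟩
            exact ⟨d, hd, rho_mul ρ _ _ _⟩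
          · rintro ⟨d, hd, rfl⟩
            exact ⟨_, ⟨d, hd, rfl⟩, (rho_mul ρ _ _ _).symm⟩
        rwa [h4] at h3
      obtain ⟨x₁, hx₁, h3⟩ := mem_of_pairJ R hirr (J := {i}) hg (hy'.mul hg) (fun j hj => hmin j (hJi hj))
        (fun j hj => by
          rw [Set.mem_singleton_iff.1 hj, mul_inv_rev, rep_mul_apply, ← hxx, rep_inv_apply]
          exact hmin i' hi') hψ h2 hne'
      rcases mem_WJ_single hx₁ with rfl | rfl
      · left
        have e : w⁻¹ * 1 * (x' * w) = w⁻¹ * x' * w := by group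
        rwa [e] at h3
      · right
        have e : w⁻¹ * cs.simple i * (x' * w) = w⁻¹ * (cs.simple i * x') * w := by group
        rwa [e] at h3
    rcases mem_RootsJ_single hβ with h1 | h1
    · exact ⟨Or.inl h1, pos x hx y hy h1 m (Ii_le hi' hm) hne⟩
    · refine ⟨Or.inr h1, ?_⟩
      have hy2 : Rp cs R.nsys (x * cs.simple i') (y * (n i')⁻¹) := by
        have := hy.mul (rp_simple cs R.nsys i').inv
        rwa [cs.inv_simple] at this
      have h2 : rep cs h (x * cs.simple i') (sr i') = sr i := by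
        rw [rep_mul_apply, rep_simple_sr, map_neg, h1, neg_neg]
      have h3 : ρ (n i') m ∈ Fi cs h T X ρ J g i' := by
        refine Ii_le hi' ?_
        rw [← n_Ii R hi']
        exact ⟨m, hm, rfl⟩
      have h4 := pos _ (mul_mem hx (simple_mem_WJ cs hi')) _ hy2 h2 _ h3 (by
        rw [← rho_mul, inv_mul_cancel_right]; exact hne)
      have h5 : x * cs.simple i' = cs.simple i * x := by
        have h6 := conj_simple' h2
        rw [mul_assoc x, cs.simple_mul_simple_self, mul_one, mul_inv_rev, cs.inv_simple, ← mul_assoc] at h6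
        rw [← h6, inv_mul_cancel_right]
      rw [h5] at h4
      rcases h4 with h4 | h4
      · exact Or.inr h4
      · left
        rwa [cs.simple_mul_simple_cancel_left] at h4
  · exfalso
    have key : ∀ β, IsRoot cs h β → rep cs h x β ∈ NegJ cs h J → rep cs h x β ∉ RootsJ cs h ({i} : Set I) →
        m ∈ Ci cs h T X ρ J g i' β → False := by
      intro β hβr hneg hni hm
      obtain ⟨a, ha, r, hr, rfl⟩ := Submodule.mem_sup.1 hm
      apply hne
      have h1 : ψ (ρ y r) = 0 := kill_Rd hJi hψ (Ivt_Rd y (rp_mem_LJ R hx hy) r hr)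
      have h2 : ρ y a ∈ (cm ρ (X β) (Fi cs h T X ρ J g i')).map (ρ y) := ⟨a, ha, rfl⟩
      rw [map_cm, R.conj_rp hy hβr] at h2
      rw [map_add, map_add, h1, add_zero]
      exact kill_edge R hg hmin hi hneg hni hψ (cm_mono le_rfl le_top h2)
    rcases hr.1.pos_or_neg with h0 | h0
    · refine key (-sr i') (isRoot_sr cs h i').neg ?_ ?_ hm.2
      · rw [map_neg]
        change - -rep cs h x (sr i') ∈ PosJ cs h J
        rw [neg_neg]
        exact ⟨hr.1, h0, hr.2⟩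
      · intro h3
        rw [map_neg] at h3
        have := RootsJ.neg h3
        rw [neg_neg] at this
        exact hβ this
    · exact key (sr i') (isRoot_sr cs h i') ⟨hr.1.neg, neg_nonneg.2 h0, (RootsJ.neg hr).2⟩ hβ hm.1

/-! ### the lower bound -/

omit [Finite Y] [Finite W] [Fact p.Prime] [CharP k p] in
theorem prk_sup_le {f r : Submodule k V} {Φ : Submodule k (Module.Dual k V)} (hr : r ≤ Φ.dualCoannihilator) :
    prk (f ⊔ r) Φ ≤ prk f Φ := by
  have h1 : (f ⊔ r) ⊓ Φ.dualCoannihilator = (f ⊓ Φ.dualCoannihilator) ⊔ r := by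
    rw [sup_comm f r, sup_inf_assoc_of_le f hr, sup_comm]
  have h2 := Submodule.finrank_sup_add_finrank_inf_eq f r
  have h3 := Submodule.finrank_sup_add_finrank_inf_eq (f ⊓ Φ.dualCoannihilator) r
  have h4 : (f ⊓ Φ.dualCoannihilator) ⊓ r = f ⊓ r := by
    rw [inf_assoc, inf_eq_right.2 hr]
  rw [h4] at h3
  unfold prk
  rw [h1]
  omega

omit [Finite Y] [Finite W] [Fact p.Prime] [CharP k p] in
theorem prk_sub_le {f f' : Submodule k V} {Φ : Submodule k (Module.Dual k V)} {d : ℕ} (hf : f' ≤ f)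
    (hd : Module.finrank k f ≤ Module.finrank k f' + d) : prk f Φ - d ≤ prk f' Φ := by
  have h1 : Module.finrank k (f' ⊓ Φ.dualCoannihilator : Submodule k V) ≤
      Module.finrank k (f ⊓ Φ.dualCoannihilator : Submodule k V) :=
    Submodule.finrank_mono (inf_le_inf_right _ hf)
  unfold prk
  omega

/-- equality of generalised edges -/
def SameEdgeJ (cs : CoxeterSystem M W) (h : IsCartan M A) (J' : Set I) (w : W) (x : W) (i : I) (x' : W) (i' : I) :
    Prop :=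
  (rep cs h (x⁻¹ * x') (sr i') = sr i ∨ rep cs h (x⁻¹ * x') (sr i') = -sr i) ∧
    (w⁻¹ * (x⁻¹ * x') * w ∈ WJ cs J' ∨ w⁻¹ * (cs.simple i * (x⁻¹ * x')) * w ∈ WJ cs J')

include R hirr hg hmin in
/-- **The generalised edges.** -/
theorem lrk_ge [Nontrivial V] {α β : Type*} [Fintype α] [Fintype β] (v : α → W) (hv : ∀ a, v a ∈ WJ cs J)
    (hvv : ∀ a a', a ≠ a' → w⁻¹ * ((v a)⁻¹ * v a') * w ∉ WJ cs (Jx cs h X ρ)) (x : β → W)
    (hx : ∀ b, x b ∈ WJ cs J) (i : β → I) (hi : ∀ b, i b ∈ J)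
    (he : ∀ b b', b ≠ b' → ¬ SameEdgeJ cs h (Jx cs h X ρ) w (x b) (i b) (x b') (i b')) :
    Fintype.card α * Module.finrank k (D cs h X ρ) +
      ∑ b, (lrk cs h T X ρ {i b} g - 2 * Module.finrank k (D cs h X ρ)) ≤ lrk cs h T X ρ J g := by
  choose y hy using fun w => exists_rp cs R.nsys w
  have hyL : ∀ {z}, z ∈ WJ cs J → y z ∈ LJ cs h T X J := fun hz => rp_mem_LJ R hz (hy _)
  have hyg : ∀ a, Rp cs R.nsys (v a * w) (y (v a) * g) := fun a => (hy _).mul hg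
  -- the vertices
  have h1 : ∀ a, ∀ z ∈ (D cs h X ρ).map (ρ (y (v a) * g)),
      (∀ φ ∈ (fx (dualRep ρ) (UN cs h X)).map (dualRep ρ (y (v a) * g)), φ z = 0) → z = 0 := by
    rintro a _ ⟨z, hz, rfl⟩ h0
    by_contra hz0
    have hz0' : z ≠ 0 := fun h => hz0 (by rw [h, map_zero])
    obtain ⟨φ, hφ, hne⟩ := exists_pair_D R hirr hz hz0'
    apply hne
    have h2 := h0 _ ⟨φ, hφ, rfl⟩
    rwa [dualRep_apply, rho_inv_rho] at h2
  have h2 : ∀ a a', a ≠ a' → ∀ φ ∈ (fx (dualRep ρ) (UN cs h X)).map (dualRep ρ (y (v a) * g)),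
      ∀ z ∈ (D cs h X ρ).map (ρ (y (v a') * g)), φ z = 0 := by
    intro a a' haa φ hφ z hz
    by_contra hne
    have h3 := vertex_pair R hirr (hyg a) (hyg a') hφ hz hne
    have e : (v a * w)⁻¹ * (v a' * w) = w⁻¹ * ((v a)⁻¹ * v a') * w := by group
    rw [e] at h3
    exact hvv a a' haa h3
  -- the interiors
  choose c hc hc1 hc2 using fun b => exists_compl (Ii cs h T X ρ J g (i b)) (Lp cs h T X ρ {i b} g)
  have h3 : ∀ b, ∀ z ∈ (c b).map (ρ (y (x b))),
      (∀ φ ∈ (Lp cs h T X ρ {i b} g).map (dualRep ρ (y (x b))), φ z = 0) → z = 0 := by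
    rintro b _ ⟨z, hz, rfl⟩ h0
    have h4 : z = 0 := by
      refine hc1 b z hz fun φ hφ => ?_
      have h2 := h0 _ ⟨φ, hφ, rfl⟩
      rwa [dualRep_apply, rho_inv_rho] at h2
    rw [h4, map_zero]
  have h4 : ∀ b b', b ≠ b' → ∀ φ ∈ (Lp cs h T X ρ {i b} g).map (dualRep ρ (y (x b))),
      ∀ z ∈ (c b').map (ρ (y (x b'))), φ z = 0 := by
    rintro b b' hbb _ ⟨ψ, hψ, rfl⟩ _ ⟨m, hm, rfl⟩
    by_contra hne
    rw [dualRep_apply, ← rho_mul] at hne
    exact he b b' hbb (edge_pairJ R hirr hg hmin (mul_mem (inv_mem (hx b)) (hx b')) ((hy _).inv.mul (hy _)) (hi b)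
      (hi b') (hc b' hm) hψ hne)
  have h5 : ∀ a b, ∀ φ ∈ (fx (dualRep ρ) (UN cs h X)).map (dualRep ρ (y (v a) * g)),
      ∀ z ∈ (c b).map (ρ (y (x b))), φ z = 0 := by
    rintro a b _ ⟨ψ, hψ, rfl⟩ _ ⟨m, hm, rfl⟩
    rw [dualRep_apply, ← rho_mul]
    have e : (y (v a) * g)⁻¹ * y (x b) = g⁻¹ * ((y (v a))⁻¹ * y (x b)) := by group
    rw [e]
    exact vertex_killJ R hg hmin (mul_mem (inv_mem (hv a)) (hx b)) ((hy _).inv.mul (hy _)) (hi b) (hc b hm) hψ
  have e1 := sum_le_of_sep h1 h2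
  have e2 := sum_le_of_sep h3 h4
  set G₁ : Submodule k V := ⨆ a, (D cs h X ρ).map (ρ (y (v a) * g)) with hG₁
  set G₂ : Submodule k V := ⨆ b, (c b).map (ρ (y (x b))) with hG₂
  have h6 : ∀ a, ∀ φ ∈ (fx (dualRep ρ) (UN cs h X)).map (dualRep ρ (y (v a) * g)), ∀ z ∈ G₂, φ z = 0 := by
    intro a φ hφ z hz
    have h7 : G₂ ≤ LinearMap.ker φ := iSup_le fun b y hy => h5 a b φ hφ y hy
    exact h7 hz
  have hdis : G₁ ⊓ G₂ = ⊥ := by
    rw [eq_bot_iff]
    rintro z ⟨hz, hz'⟩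
    rw [Submodule.mem_bot]
    exact eq_zero_of_sep h1 h2 hz fun a φ hφ => h6 a φ hφ z hz'
  have e3 := Submodule.finrank_sup_add_finrank_inf_eq G₁ G₂
  rw [hdis, finrank_bot, add_zero] at e3
  -- the total
  have hle : G₁ ⊔ G₂ ≤ Lf cs h T X ρ J g ⊔ Rd cs h T X ρ J g := by
    refine sup_le (iSup_le fun a => ?_) (iSup_le fun b => ?_)
    · rintro _ ⟨d, hd, rfl⟩
      refine Submodule.mem_sup_left ?_
      rw [rho_mul]
      exact mem_Sp ρ (hyL (hv a)) ⟨d, hd, rfl⟩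
    · rintro _ ⟨m, hm, rfl⟩
      have h7 : Fi cs h T X ρ J g (i b) ≤ Lf cs h T X ρ J g ⊔ Rd cs h T X ρ J g :=
        sup_le_sup_right (Sp_mono ρ (LJ_mono (Set.singleton_subset_iff.2 (hi b))) _) _
      exact Ivt_supJ (Ivt_Sp _ _) Ivt_Rd _ (hyL (hx b)) _ (h7 (Ii_le (hi b) (hc b hm)))
  have hsep : ∀ z ∈ G₁ ⊔ G₂, (∀ φ ∈ Lp cs h T X ρ J g, φ z = 0) → z = 0 := by
    intro z hz h0
    obtain ⟨z₁, hz₁, z₂, hz₂, rfl⟩ := Submodule.mem_sup.1 hz
    have h7 : z₁ = 0 := by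
      refine eq_zero_of_sep h1 h2 hz₁ fun a φ hφ => ?_
      have h8 := h0 φ (by
        obtain ⟨ψ, hψ, rfl⟩ := hφ
        rw [rho_mul]
        exact mem_Sp _ (hyL (hv a)) ⟨ψ, hψ, rfl⟩)
      rw [map_add, h6 a φ hφ z₂ hz₂, add_zero] at h8
      exact h8
    rw [h7, zero_add] at h0 ⊢
    refine eq_zero_of_sep h3 h4 hz₂ fun b φ hφ => h0 φ ?_
    obtain ⟨ψ, hψ, rfl⟩ := hφ
    exact Ivt_Sp (ρ := dualRep ρ) _ _ _ (hyL (hx b)) _ (Sp_mono _ (LJ_mono (Set.singleton_subset_iff.2 (hi b))) _ hψ)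
  have e4 := (finrank_le_prk hle hsep).trans (prk_sup_le (f := Lf cs h T X ρ J g) (r := Rd cs h T X ρ J g) le_rfl)
  have e5 : ∑ b, (lrk cs h T X ρ {i b} g - 2 * Module.finrank k (D cs h X ρ)) ≤
      ∑ b, Module.finrank k ((c b).map (ρ (y (x b)))) := by
    refine Finset.sum_le_sum fun b _ => ?_
    rw [finrank_map, hc2]
    have h7 := prk_sub_le (Φ := Lp cs h T X ρ {i b} g) (Ii_le (hi b)) (finrank_Fi_le R hirr hg hmin (hi b))
    refine le_trans ?_ h7
    have h8 : lrk cs h T X ρ {i b} g ≤ prk (Fi cs h T X ρ J g (i b)) (Lp cs h T X ρ {i b} g) :=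
      prk_mono le_sup_left le_rfl
    omega
  have e6 : ∑ a, Module.finrank k ((D cs h X ρ).map (ρ (y (v a) * g))) =
      Fintype.card α * Module.finrank k (D cs h X ρ) := by
    simp only [finrank_map, Finset.sum_const, Finset.card_univ, smul_eq_mul]
  rw [e6] at e1
  unfold lrk at e5 ⊢
  omega

end

end Cfsg.Agent.H117.Levi
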