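import Cfsg.Agent.H117.Stab
import Cfsg.Agent.H117.LemT
import Cfsg.Agent.LieClassical.OrthFinite

/-!
# A small representation has an equivariant system of weight vectors
-/

set_option autoImplicit false

namespace Cfsg.Agent.H117

open QuadraticMap Cfsg.Agent.LieClassical.OrthCore Cfsg.Agent.LieClassical.OrthTrans Module
open Cfsg.Agent.LieClassical.OrthCount (hypSum hypSum_apply polar_hypSum)

theorem num2 (q k : ℕ) (hq : 5 ≤ q) : 2 * tt q (k + 2) ≤ q ^ (2 * k + 1) * (q - 1) ^ 2 := by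
  have h0 := tt_mul q (k + 2) (by omega)
  have h1 : 0 < q ^ 2 - 1 := by
    have : 5 ^ 2 ≤ q ^ 2 := Nat.pow_le_pow_left hq 2
    omega
  apply Nat.le_of_mul_le_mul_right _ h1
  rw [mul_assoc, h0]
  obtain ⟨r, rfl⟩ : ∃ r, q = r + 5 := ⟨q - 5, by omega⟩
  have h2 : r + 5 - 1 = r + 4 := by omega
  have h3 : (r + 5) ^ 2 - 1 = (r + 4) * (r + 6) := by
    have : (r + 5) ^ 2 = (r + 4) * (r + 6) + 1 := by ring
    omega
  rw [h2, h3]
  have h4 : 2 * (r + 5) ^ 3 ≤ (r + 4) ^ 3 * (r + 6) := by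
    have : (r + 4) ^ 3 * (r + 6) = 2 * (r + 5) ^ 3 + (r ^ 4 + 16 * r ^ 3 + 90 * r ^ 2 + 202 * r + 134) := by
      ring
    omega
  calc 2 * ((r + 5) ^ (2 * (k + 2)) - 1) ≤ 2 * (r + 5) ^ (2 * (k + 2)) := by omega
    _ = (r + 5) ^ (2 * k + 1) * (2 * (r + 5) ^ 3) := by ring
    _ ≤ (r + 5) ^ (2 * k + 1) * ((r + 4) ^ 3 * (r + 6)) := Nat.mul_le_mul_left _ h4
    _ = _ := by ring

theorem num3 (q k : ℕ) (hq : 5 ≤ q) : tt q (k + 2) ≤ 2 * (q ^ (2 * k + 2) - 1) := by
  have h0 := tt_mul q (k + 2) (by omega)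
  have h5 : 5 ^ 2 ≤ q ^ 2 := Nat.pow_le_pow_left hq 2
  have h1 : 0 < q ^ 2 - 1 := by omega
  apply Nat.le_of_mul_le_mul_right _ h1
  rw [h0]
  have h6 : q ^ 2 ≤ q ^ (2 * k + 2) := Nat.pow_le_pow_right (by omega) (by omega)
  have h7 : q ^ (2 * (k + 2)) = q ^ (2 * k + 2) * q ^ 2 := by ring
  rw [h7]
  obtain ⟨X, hX⟩ : ∃ X, q ^ (2 * k + 2) = X + 25 := ⟨q ^ (2 * k + 2) - 25, by omega⟩
  obtain ⟨Y, hY⟩ : ∃ Y, q ^ 2 = Y + 25 := ⟨q ^ 2 - 25, by omega⟩
  rw [hX, hY]
  have h8 : X + 25 - 1 = X + 24 := by omega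
  have h9 : Y + 25 - 1 = Y + 24 := by omega
  rw [h8, h9]
  have h10 : 2 * (X + 24) * (Y + 24) = (X + 25) * (Y + 25) + (X * Y + 23 * X + 23 * Y + 527) := by ring
  omega

section

variable {F W' : Type*} [Field F] [AddCommGroup W'] [Module F W'] [Fintype F] [Fintype W']
  {Q' : QuadraticForm F W'}
  {V : Type*} [AddCommGroup V] [Module ℂ V] [FiniteDimensional ℂ V]

theorem exists_sys (h2 : (2 : F) ≠ 0) (hq : 5 ≤ Fintype.card F) {k : ℕ} (hT : TF k Q') {ψ : AddChar F ℂ}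
    (hψ : ∃ c, ψ c ≠ 1) (P : PRep (E (hypSum (hypSum (hypSum Q')))) V)
    (hnt : ∃ (v : (W' × F × F) × F × F) (x : V), P.R (sE (hypSum (hypSum Q')) v) x ≠ x)
    (hD : finrank ℂ V < tt (Fintype.card F) (k + 3)) :
    (∃ (b : (W' × F × F) × F × F → V) (lam : Fˣ → ℂ), Sys P ψ b lam) ∧
      finrank ℂ (wt (hypSum (hypSum Q')) ψ (TT P (hypSum (hypSum Q'))) 0) +
        (Fintype.card F ^ (2 * (k + 1) + 2) - 1) ≤ finrank ℂ V := by
  classical
  have hfd := hT.fd
  have hT1 := hT.step h2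
  have hT2 := hT1.step h2
  have hfd1 := hT1.fd
  have hW := wd_TT (P := P) hT2.nondeg hψ le_rfl
  obtain ⟨w0, hw0⟩ := hT1.ns
  have hne : hypSum Q' w0 ≠ 0 := by rw [hw0]; exact one_ne_zero
  have hG : Good (hypSum (hypSum Q')) := by
    apply Cfsg.Agent.LieClassical.OrthFinite.good_of_finite hT2.nondeg
    rw [hT2.rank]
    omega
  have hposwt : ∀ u, wt (hypSum (hypSum Q')) ψ (TT P (hypSum (hypSum Q'))) u ≠ ⊥ →
      1 ≤ finrank ℂ (wt (hypSum (hypSum Q')) ψ (TT P (hypSum (hypSum Q'))) u) := by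
    intro u hu
    rw [Nat.one_le_iff_ne_zero]
    intro h
    exact hu (Submodule.finrank_eq_zero.1 h)
  -- no nonsingular weights
  have hnone : ∀ u, hypSum (hypSum Q') u ≠ 0 →
      wt (hypSum (hypSum Q')) ψ (TT P (hypSum (hypSum Q'))) u = ⊥ := by
    intro u hu
    by_contra hc
    have hpos := hposwt u hc
    have hu0 : u ≠ 0 := by
      rintro rfl
      exact hu (QuadraticMap.map_zero _)
    have hcls : ∀ u' ∈ cls (hypSum Q') (hypSum (hypSum Q') u),
        1 ≤ finrank ℂ (wt (hypSum (hypSum Q')) ψ (TT P (hypSum (hypSum Q'))) u') := by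
      intro u' hu'
      obtain ⟨hu'0, a, ha⟩ := (mem_cls _).1 hu'
      have hane : (a : F) ≠ 0 := a.ne_zero
      have hv0 : (a : F) • io a (1 : (W' × F × F) ≃ₗ[F] (W' × F × F)) u ≠ 0 := by
        refine smul_ne_zero hane ?_
        intro h
        exact hu0 ((io a (1 : (W' × F × F) ≃ₗ[F] (W' × F × F))).map_eq_zero_iff.1 h)
      have hiO : io a (1 : (W' × F × F) ≃ₗ[F] (W' × F × F)) ∈ O (hypSum (hypSum Q')) :=
        io_mem_O.2 (O _).one_mem
      have hv1 : hypSum (hypSum Q') ((a : F) • io a (1 : (W' × F × F) ≃ₗ[F] (W' × F × F)) u) =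
          hypSum (hypSum Q') u' := by
        rw [QuadraticMap.map_smul, mem_O.1 hiO, ha, smul_eq_mul]
        ring
      obtain ⟨s, hs, hs'⟩ := hG.trans_norm hv0 hu'0 hv1
      have hh : io a⁻¹ (io a (1 : (W' × F × F) ≃ₗ[F] (W' × F × F))) ∈ E (hypSum (hypSum (hypSum Q'))) := by
        have := hh_mem (hypSum Q') a⁻¹
        rwa [inv_inv] at this
      have hg : io a⁻¹ (s * io a (1 : (W' × F × F) ≃ₗ[F] (W' × F × F))) ∈ E (hypSum (hypSum (hypSum Q'))) := by
        have := (E _).mul_mem (io_mem_E hs) hh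
        rwa [io_mul, one_mul] at this
      refine hpos.trans (finrank_wt_le (P.inv_mul hg) fun x hx => ?_)
      have h6 := io_wt P le_rfl ((O _).mul_mem (E_le_O hs) hiO) hg hx
      rw [Units.val_inv_eq_inv_val, inv_inv, LinearEquiv.mul_apply, ← map_smul, hs'] at h6
      exact h6
    have h7 := finrank_ge hW (cls (hypSum Q') (hypSum (hypSum Q') u)) (zero_notMem_cls _) 1 hcls
    have h8 := card_cls_ns (hypSum Q') hu
    have h9 := hT1.card
    rw [Nat.card_eq_fintype_card, Nat.card_eq_fintype_card] at h9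
    rw [h9] at h8
    have h10 := num2 (Fintype.card F) (k + 1) hq
    have e : k + 1 + 2 = k + 3 := by omega
    rw [e] at h10
    omega
  -- singular weights
  obtain ⟨u0, hu00, hu0⟩ := exists_weight P hψ hT1.nondeg le_rfl hnt
  have hu0s : hypSum (hypSum Q') u0 = 0 := by
    by_contra h
    exact hu0 (hnone u0 h)
  have htr : ∀ u v, u ≠ 0 → v ≠ 0 → hypSum (hypSum Q') u = 0 → hypSum (hypSum Q') v = 0 →
      finrank ℂ (wt (hypSum (hypSum Q')) ψ (TT P (hypSum (hypSum Q'))) u) ≤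
        finrank ℂ (wt (hypSum (hypSum Q')) ψ (TT P (hypSum (hypSum Q'))) v) := by
    intro u v hu hv hus hvs
    obtain ⟨s, hs, hs'⟩ := hG.trans_sing hus hvs hu hv
    refine finrank_wt_le (P.inv_mul (io_mem_E hs)) fun x hx => ?_
    have h6 := io_wt P le_rfl (E_le_O hs) (io_mem_E hs) hx
    rw [hs', Units.val_one, inv_one, one_smul] at h6
    exact h6
  have hpos0 := hposwt u0 hu0
  have hone : ∀ u, u ≠ 0 → hypSum (hypSum Q') u = 0 →
      finrank ℂ (wt (hypSum (hypSum Q')) ψ (TT P (hypSum (hypSum Q'))) u) = 1 := by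
    intro u hu hus
    have h3 := htr u0 u hu00 hu hu0s hus
    apply le_antisymm _ (hpos0.trans h3)
    by_contra hc
    push Not at hc
    have h4 : ∀ u' ∈ cls (hypSum Q') 0,
        2 ≤ finrank ℂ (wt (hypSum (hypSum Q')) ψ (TT P (hypSum (hypSum Q'))) u') := by
      intro u' hu'
      obtain ⟨hu'0, a, ha⟩ := (mem_cls _).1 hu'
      rw [mul_zero] at ha
      exact Nat.le_trans hc (htr u u' hu hu'0 hus ha)
    have h7 := finrank_ge hW (cls (hypSum Q') 0) (zero_notMem_cls _) 2 h4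
    rw [card_cls_zero (hypSum Q') hT2] at h7
    have h10 := num3 (Fintype.card F) (k + 1) hq
    have e : k + 1 + 2 = k + 3 := by omega
    rw [e] at h10
    omega
  refine ⟨?_, ?_⟩
  · -- the base vector
    have h3 := hone (0, 1, 0) (ne_e one_ne_zero) sing_e
    obtain ⟨b0', hb0', hb0''⟩ := finrank_eq_one_iff'.1 h3
    obtain ⟨b0, hb⟩ := b0'
    have hb0 : b0 ≠ 0 := by
      rintro rfl
      exact hb0' rfl
    have h1 : ∀ x ∈ wt (hypSum (hypSum Q')) ψ (TT P (hypSum (hypSum Q'))) (0, 1, 0), ∃ c : ℂ, x = c • b0 := by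
      intro x hx
      obtain ⟨c, hc⟩ := hb0'' ⟨x, hx⟩
      exact ⟨c, (congrArg Subtype.val hc).symm⟩
    -- the scalars
    have hz := fun a => zz_mem (hypSum Q') a
    have hlam : ∀ a : Fˣ, ∃ c : ℂ, P.R (io a (io a 1)) b0 = c • b0 := by
      intro a
      obtain ⟨c, -, hc⟩ := stab_scalar P h1 hb hb0 (io_mem_O.2 (O _).one_mem) (hz a)
        (by rw [io_apply]; simp)
      exact ⟨c, hc⟩
    choose lam hlam using hlam
    -- the transversal
    have hgv : ∀ v : (W' × F × F) × F × F, ∃ g ∈ E (hypSum (hypSum Q')),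
        (v ≠ 0 → hypSum (hypSum Q') v = 0 → g (0, 1, 0) = v) := by
      intro v
      by_cases hv : v ≠ 0 ∧ hypSum (hypSum Q') v = 0
      · obtain ⟨g, hg, e⟩ := hG.trans_sing (sing_e (Q := hypSum Q') (c := 1)) hv.2 (ne_e one_ne_zero) hv.1
        exact ⟨g, hg, fun _ _ => e⟩
      · exact ⟨1, (E _).one_mem, fun h h' => absurd ⟨h, h'⟩ hv⟩
    choose g hgE hg using hgv
    have hmem : ∀ v, v ≠ 0 → hypSum (hypSum Q') v = 0 →
        P.R (io 1 (g v)) b0 ∈ wt (hypSum (hypSum Q')) ψ (TT P (hypSum (hypSum Q'))) v := by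
      intro v hv hvs
      have h6 := io_wt P le_rfl (E_le_O (hgE v)) (io_mem_E (hgE v)) hb
      rw [hg v hv hvs, Units.val_one, inv_one, one_smul] at h6
      exact h6
    have hnz : ∀ v, P.R (io 1 (g v)) b0 ≠ 0 := fun v => P.ne_zero (io_mem_E (hgE v)) hb0
    refine ⟨fun v => P.R (io 1 (g v)) b0, lam, hmem, fun v _ _ => hnz v, ?_, ?_, hnone⟩
    · intro a s hs hgs v hv hvs
      have hane : (a : F) ≠ 0 := a.ne_zero
      have hv' : (a : F)⁻¹ • s v ≠ 0 := by
        refine smul_ne_zero (inv_ne_zero hane) ?_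
        intro h
        exact hv (s.map_eq_zero_iff.1 h)
      have hvs' : hypSum (hypSum Q') ((a : F)⁻¹ • s v) = 0 := by
        rw [QuadraticMap.map_smul, mem_O.1 (SO_le_O hs), hvs, smul_zero]
      set v' := (a : F)⁻¹ • s v with hv'def
      set r := (g v')⁻¹ * s * g v * (io a 1)⁻¹ with hr
      have hiSO : io a (1 : (W' × F × F) ≃ₗ[F] (W' × F × F)) ∈ SO (hypSum (hypSum Q')) :=
        io_mem_SO.2 (SO _).one_mem
      have hrSO : r ∈ SO (hypSum (hypSum Q')) :=
        (SO _).mul_mem ((SO _).mul_mem ((SO _).mul_mem ((SO _).inv_mem (E_le_SO (hgE v'))) hs)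
          (E_le_SO (hgE v))) ((SO _).inv_mem hiSO)
      have e1 : io 1 r = (io 1 (g v'))⁻¹ * io a s * io 1 (g v) * (io a (io a 1))⁻¹ := by
        rw [hr]
        simp only [io_inv, io_mul, inv_one, one_mul, mul_one, mul_inv_cancel]
      have hioE : io 1 r ∈ E (hypSum (hypSum (hypSum Q'))) := by
        rw [e1]
        exact (E _).mul_mem ((E _).mul_mem ((E _).mul_mem ((E _).inv_mem (io_mem_E (hgE v'))) hgs)
          (io_mem_E (hgE v))) ((E _).inv_mem (hz a))
      have hrE := mem_E_of_io h2 hT1 hrSO hioE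
      have hre : r (0, 1, 0) = (0, 1, 0) := by
        rw [hr, io_inv, inv_one]
        simp only [LinearEquiv.mul_apply]
        rw [io_apply]
        have e2 : (((1 : (W' × F × F) ≃ₗ[F] (W' × F × F)) 0, ((a⁻¹ : Fˣ) : F) * 1,
            ((a⁻¹ : Fˣ) : F)⁻¹ * 0) : (W' × F × F) × F × F) = (a : F)⁻¹ • (0, 1, 0) := by
          ext <;> simp
        rw [e2, map_smul, map_smul, map_smul, hg v hv hvs, ← map_smul, ← hv'def]
        have e3 : g v' (0, 1, 0) = v' := hg v' hv' hvs'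
        have e5 : (g v')⁻¹ (g v' (0, 1, 0)) = (0, 1, 0) := LinearEquiv.symm_apply_apply (g v') _
        rwa [e3] at e5
      have hfix := stab_fix P h2 hq hT h1 hb hb0 hrE hre
      have e4 : io a s * io 1 (g v) = io 1 (g v') * (io 1 r * io a (io a 1)) := by
        rw [e1]
        group
      show P.R (io a s) (P.R (io 1 (g v)) b0) = lam a • P.R (io 1 (g v')) b0
      rw [P.swap hgs (io_mem_E (hgE v)) (io_mem_E (hgE v')) ((E _).mul_mem hioE (hz a)) e4,
        P.mul' hioE (hz a), hlam, map_smul, map_smul, hfix]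
    · intro v hv hvs x hx
      have h4 := hone v hv hvs
      have h5 := (finrank_eq_one_iff_of_nonzero' (⟨P.R (io 1 (g v)) b0, hmem v hv hvs⟩ :
        wt (hypSum (hypSum Q')) ψ (TT P (hypSum (hypSum Q'))) v) (by
          intro h
          exact hnz v (congrArg Subtype.val h))).1 h4
      obtain ⟨c, hc⟩ := h5 ⟨x, hx⟩
      exact ⟨c, (congrArg Subtype.val hc).symm⟩
  · have h4 : ∀ u' ∈ cls (hypSum Q') 0,
        1 ≤ finrank ℂ (wt (hypSum (hypSum Q')) ψ (TT P (hypSum (hypSum Q'))) u') := by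
      intro u' hu'
      obtain ⟨hu'0, a, ha⟩ := (mem_cls _).1 hu'
      rw [mul_zero] at ha
      exact (hone u' hu'0 ha).ge
    have h7 := finrank_ge hW (cls (hypSum Q') 0) (zero_notMem_cls _) 1 h4
    rw [card_cls_zero (hypSum Q') hT2, one_mul] at h7
    exact h7

end

end Cfsg.Agent.H117
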