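import Cfsg.Agent.H117.SysB

/-!
# The two semi-invariant vectors of a system
-/

set_option autoImplicit false

universe u v

namespace Cfsg.Agent.H117

open QuadraticMap Cfsg.Agent.LieClassical.OrthCore Cfsg.Agent.LieClassical.OrthTrans Module
open Cfsg.Agent.LieClassical.OrthCount (hypSum hypSum_apply polar_hypSum)

section

variable {F W : Type*} [Field F] [AddCommGroup W] [Module F W] [Fintype F] [Fintype W]
  {Q : QuadraticForm F W} {V : Type*} [AddCommGroup V] [Module ℂ V]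
  {P : PRep (E (hypSum (hypSum Q))) V} {ψ : AddChar F ℂ} {b : W × F × F → V} {lam : Fˣ → ℂ}

theorem Th_add (x y : V) : Th P Q ψ (x + y) = Th P Q ψ x + Th P Q ψ y := by
  unfold Th
  rw [map_add, map_add]

theorem Th_smul (c : ℂ) (x : V) : Th P Q ψ (c • x) = c • Th P Q ψ x := by
  unfold Th
  rw [map_smul, map_smul]

theorem io_conj_mem {a e : Fˣ} {s : W ≃ₗ[F] W} (h : io a (io e s) ∈ E (hypSum (hypSum Q))) :
    io e (io a s) ∈ E (hypSum (hypSum Q)) := by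
  have h1 : io e (io a s) = nn W 1 * io a (io e s) * (nn W 1)⁻¹ := by
    rw [nn_io, mul_assoc, mul_inv_cancel, mul_one]
  rw [h1]
  exact (E _).mul_mem ((E _).mul_mem (nn_mem Q 1) h) ((E _).inv_mem (nn_mem Q 1))

variable [Fintype Fˣ] [FiniteDimensional F W]

/-- the vector `z₁` -/
noncomputable def z1 (P : PRep (E (hypSum (hypSum Q))) V) (ψ : AddChar F ℂ) (b : W × F × F → V)
    (lam : Fˣ → ℂ) : V := ∑ c : Fˣ, lam c • Th P Q ψ (b (0, (c : F), 0))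

theorem Sys.pr_nS_Th (h : Sys P ψ b lam) (hQ : Nondeg Q) (hψ : ∃ c, ψ c ≠ 1) {c : F} (hc : c ≠ 0) :
    pr (hypSum Q) ψ (TT P (hypSum Q)) (0, 0, 1) (P.R (nS F W) (Th P Q ψ (b (0, c, 0)))) =
      pr (hypSum Q) ψ (TT P (hypSum Q)) (0, 0, 1) (P.R (nS F W) (P.R (nn W 1) (b (0, c, 0)))) := by
  classical
  have hW := wd_TT (P := P) (nondeg_hypSum hQ) hψ le_rfl
  conv_rhs => rw [← sum_pr hW (P.R (nn W 1) (b (0, c, 0))), map_sum, map_sum]
  symm
  refine Finset.sum_eq_single (0 : W × F × F) ?_ ?_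
  · intro u _ hu
    by_cases hu2 : u.2.2 = 0
    · exact h.L1 hQ hψ hu hu2 (pr_mem hW u _)
    · rw [h.L2 hQ hψ hc hu2, map_zero, map_zero]
  · intro h
    exact absurd (Finset.mem_univ _) h

theorem Sys.z1_ne (h : Sys P ψ b lam) (hψ : ∃ c, ψ c ≠ 1) {k : ℕ} (hT : TF k Q) :
    z1 P ψ b lam ≠ 0 := by
  classical
  have hQ := hT.nondeg
  have hW := wd_TT (P := P) (nondeg_hypSum hQ) hψ le_rfl
  obtain ⟨g', hg'0, hg'⟩ := h.exists_gam' hQ hψ
  have hgam : ∀ c : Fˣ, ∃ g : ℂ, P.R (nS F W) (b (0, (c : F), 0)) = g • ∑ w : W, b (uw Q c w) ∧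
      lam c * g * GG Q ψ 1 = lam (-1) := by
    intro c
    obtain ⟨g, hg1, hg⟩ := h.exists_gam hQ hψ c.ne_zero
    refine ⟨g, hg, ?_⟩
    have h1 := h.rel hQ hψ c.ne_zero hg1 hg c⁻¹
    have h2 : (c : F) * ((c⁻¹ : Fˣ) : F) = 1 := by simp
    rw [h2] at h1
    rw [mul_assoc, h1, ← h.lam_mul]
    congr 1
    simp
  choose g hg hg2 using hgam
  intro h0
  have h1 : pr (hypSum Q) ψ (TT P (hypSum Q)) (0, 0, 1) (P.R (nS F W) (z1 P ψ b lam)) = 0 := by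
    rw [h0, map_zero, map_zero]
  have h2 : ∀ c : Fˣ, pr (hypSum Q) ψ (TT P (hypSum Q)) (0, 0, 1)
      (P.R (nS F W) (lam c • Th P Q ψ (b (0, (c : F), 0)))) =
      (lam c * g c * ((Finset.univ.filter fun w : W => -((c : F) * Q w) = 1).card : ℂ) * g') •
        b (0, 0, 1) := by
    intro c
    rw [map_smul, map_smul, h.pr_nS_Th hQ hψ c.ne_zero,
      ← P.swap (nn_mem Q 1) (nS_mem Q) (nS_mem Q) (nn_mem Q 1) nn_nS, hg, map_smul, map_smul, map_sum,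
      map_sum, Finset.sum_congr rfl fun w _ => h.L3 hQ hψ hg' c.ne_zero w, ← Finset.sum_filter,
      Finset.sum_const, ← Nat.cast_smul_eq_nsmul ℂ, smul_smul, smul_smul, smul_smul]
  unfold z1 at h1
  rw [map_sum, map_sum, Finset.sum_congr rfl fun c _ => h2 c, ← Finset.sum_smul] at h1
  rcases smul_eq_zero.1 h1 with h3 | h3
  · have h4 : (∑ c : Fˣ, lam c * g c *
        ((Finset.univ.filter fun w : W => -((c : F) * Q w) = 1).card : ℂ) * g') * GG Q ψ 1 =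
        lam (-1) * g' * ((∑ c : Fˣ, (Finset.univ.filter fun w : W => -((c : F) * Q w) = 1).card : ℕ) : ℂ) := by
      rw [Finset.sum_mul]
      push_cast
      rw [Finset.mul_sum]
      refine Finset.sum_congr rfl fun c _ => ?_
      rw [← hg2 c]
      ring
    rw [h3, zero_mul] at h4
    have h5 : (∑ c : Fˣ, (Finset.univ.filter fun w : W => -((c : F) * Q w) = 1).card) ≠ 0 := by
      intro h6
      have h7 := Finset.sum_eq_zero_iff.1 h6 (-1) (Finset.mem_univ _)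
      rw [Finset.card_eq_zero] at h7
      obtain ⟨w0, hw0⟩ := hT.ns
      have h8 : w0 ∈ Finset.univ.filter fun w : W => -(((-1 : Fˣ) : F) * Q w) = 1 := by
        rw [Finset.mem_filter]
        refine ⟨Finset.mem_univ _, ?_⟩
        rw [hw0]
        simp
      rw [h7] at h8
      exact absurd h8 (Finset.notMem_empty _)
    have h6 : ((∑ c : Fˣ, (Finset.univ.filter fun w : W => -((c : F) * Q w) = 1).card : ℕ) : ℂ) ≠ 0 :=
      Nat.cast_ne_zero.2 h5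
    exact mul_ne_zero (mul_ne_zero (h.lam_ne_zero _) hg'0) h6 h4.symm
  · exact h.ne _ (ne_f one_ne_zero) sing_f h3

omit [FiniteDimensional F W] in
theorem z1_mem (hQ : Nondeg Q) (hψ : ∃ c, ψ c ≠ 1) :
    z1 P ψ b lam ∈ wt (hypSum Q) ψ (TT P (hypSum Q)) 0 :=
  Submodule.sum_mem _ fun _ _ => Submodule.smul_mem _ _ (Th_mem P hQ hψ le_rfl _)

theorem Sys.z1_io (h : Sys P ψ b lam) (hQ : Nondeg Q) (hψ : ∃ c, ψ c ≠ 1) {a e : Fˣ} {s : W ≃ₗ[F] W}
    (hs : s ∈ SO Q) (hg : io a (io e s) ∈ E (hypSum (hypSum Q))) :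
    P.R (io a (io e s)) (z1 P ψ b lam) = lam a • z1 P ψ b lam := by
  have hg' := io_conj_mem hg
  unfold z1
  rw [map_sum, Finset.smul_sum]
  have h1 : ∀ c : Fˣ, P.R (io a (io e s)) (lam c • Th P Q ψ (b (0, (c : F), 0))) =
      lam a • lam (e⁻¹ * a * c) • Th P Q ψ (b (0, ((e⁻¹ * a * c : Fˣ) : F), 0)) := by
    intro c
    rw [map_smul, Th_io P hQ hψ le_rfl (SO_le_O hs) hg hg',
      h.act e _ (io_mem_SO.2 hs) hg' _ (ne_e c.ne_zero) sing_e, Th_smul, smul_smul, smul_smul, io_apply]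
    have e1 : ((e : F)⁻¹ • ((s 0, (a : F) * c, (a : F)⁻¹ * 0) : W × F × F)) =
        (0, ((e⁻¹ * a * c : Fˣ) : F), 0) := by
      ext <;> simp
      ring
    rw [e1, h.lam_mul, h.lam_mul, h.lam_inv hQ hψ]
    congr 1
    have := h.lam_mul_self hQ hψ a
    linear_combination (-(lam c * lam e)) * this
  rw [Finset.sum_congr rfl fun c _ => h1 c]
  exact Fintype.sum_equiv (Equiv.mulLeft (e⁻¹ * a))
    (fun c : Fˣ => lam a • lam (e⁻¹ * a * c) • Th P Q ψ (b (0, ((e⁻¹ * a * c : Fˣ) : F), 0)))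
    (fun c : Fˣ => lam a • lam c • Th P Q ψ (b (0, (c : F), 0))) fun c => rfl

omit [FiniteDimensional F W] in
theorem Sys.z1_sE (h : Sys P ψ b lam) (hQ : Nondeg Q) (hψ : ∃ c, ψ c ≠ 1) (w : W) :
    P.R (io 1 (sE Q w)) (z1 P ψ b lam) = z1 P ψ b lam := by
  unfold z1
  rw [map_sum]
  refine Finset.sum_congr rfl fun c _ => ?_
  rw [map_smul, Th_sE P hQ hψ le_rfl]
  congr 2
  have := h.mem _ (ne_e c.ne_zero) sing_e (-w, 0, 0)
  rw [TT, psi_polar_zero, one_smul] at this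
  · exact this
  · rw [polar_hypSum]; simp

/-- the output of this file -/
theorem Sys.exists_z (h : Sys P ψ b lam) (hψ : ∃ c, ψ c ≠ 1) {k : ℕ} (hT : TF k Q) :
    ∃ z z' : V, z ≠ 0 ∧ z' ≠ 0 ∧ (∀ v, P.R (sE (hypSum Q) v) z = z) ∧
      (∀ v, P.R (sE (hypSum Q) v) z' = z') ∧ (∀ w, P.R (io 1 (sE Q w)) z = z) ∧
      (∀ w, P.R (io 1 (sE Q w)) z' = z') ∧
      (∀ (a e : Fˣ) (s : W ≃ₗ[F] W), s ∈ SO Q → io a (io e s) ∈ E (hypSum (hypSum Q)) →
        P.R (io a (io e s)) z = lam a • z) ∧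
      (∀ (a e : Fˣ) (s : W ≃ₗ[F] W), s ∈ SO Q → io a (io e s) ∈ E (hypSum (hypSum Q)) →
        P.R (io a (io e s)) z' = lam e • z') := by
  have hQ := hT.nondeg
  have hz0 : z1 P ψ b lam ∈ wt (hypSum Q) ψ (TT P (hypSum Q)) 0 := z1_mem hQ hψ
  have hz0' := mem_wt_zero.1 hz0
  refine ⟨z1 P ψ b lam, Th P Q ψ (z1 P ψ b lam), h.z1_ne hψ hT, ?_, hz0',
    mem_wt_zero.1 (Th_mem P hQ hψ le_rfl _), h.z1_sE hQ hψ, ?_, ?_, ?_⟩
  · exact Th_ne P hQ hψ le_rfl (h.z1_ne hψ hT) hz0 (h.z1_sE hQ hψ) (χ := lam)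
      fun c => h.z1_io hQ hψ (SO Q).one_mem (hh_mem Q c)
  · intro w
    rw [Th_sE P hQ hψ le_rfl]
    congr 1
    exact hz0' _
  · intro a e s hs hg
    exact h.z1_io hQ hψ hs hg
  · intro a e s hs hg
    rw [Th_io P hQ hψ le_rfl (SO_le_O hs) hg (io_conj_mem hg), h.z1_io hQ hψ hs (io_conj_mem hg), Th_smul]

end

end Cfsg.Agent.H117
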