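import Cfsg.Agent.H117.MainA
import Cfsg.Agent.H117.SysC

/-!
# The minimal degree bound for the tower
-/

set_option autoImplicit false

universe u v

namespace Cfsg.Agent.H117

open QuadraticMap Cfsg.Agent.LieClassical.OrthCore Cfsg.Agent.LieClassical.OrthTrans Module
open Cfsg.Agent.LieClassical.OrthCount (hypSum hypSum_apply polar_hypSum)

section

variable {F W' : Type*} [Field F] [AddCommGroup W'] [Module F W'] [Fintype F] [Fintype W']
  {Q' : QuadraticForm F W'}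
  {V : Type v} [AddCommGroup V] [Module ℂ V] [FiniteDimensional ℂ V]

/-- the main bound, given lemma `T` for the smaller space -/
theorem bound_of_PT (h2 : (2 : F) ≠ 0) (hq : 5 ≤ Fintype.card F) {k : ℕ} (hT : TF k Q') {ψ : AddChar F ℂ}
    (hψ : ∃ c, ψ c ≠ 1) (hPT : ∀ χ : Fˣ → ℂ, (∃ a, χ a ≠ 1) → PT.{v} χ k Q')
    (P : PRep (E (hypSum (hypSum (hypSum Q')))) V)
    (hnt : ∃ (v : (W' × F × F) × F × F) (x : V), P.R (sE (hypSum (hypSum Q')) v) x ≠ x) :
    tt (Fintype.card F) (k + 3) ≤ finrank ℂ V := by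
  classical
  by_contra hD
  push Not at hD
  obtain ⟨⟨b, lam, hS⟩, hdim⟩ := exists_sys h2 hq hT hψ P hnt hD
  have hfd := hT.fd
  have hT1 := hT.step h2
  have hT2 := hT1.step h2
  have hfd1 := hT1.fd
  have hfd2 := hT2.fd
  have hT3 := hT2.step h2
  have hW := wd_TT (P := P) hT2.nondeg hψ le_rfl
  obtain ⟨z, z', hz, hz', hz0, hz0', hz1, hz1', hz2, hz2'⟩ := hS.exists_z hψ hT1
  obtain ⟨a0, ha0⟩ := hS.exists_lam_ne hψ hT1
  -- squares
  have hsq : ∀ c : Fˣ, io c (1 : ((W' × F × F) × F × F) ≃ₗ[F] ((W' × F × F) × F × F)) ∈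
      E (hypSum (hypSum (hypSum Q'))) → lam c = 1 := by
    intro c hc
    have h3 : IsSquare (c : F) := isSquare_of_io_mem h2 hT3.nondeg (by rw [hT3.rank]; omega) hc
    obtain ⟨d, hd⟩ := h3
    have hd0 : d ≠ 0 := by
      rintro rfl
      rw [mul_zero] at hd
      exact c.ne_zero hd
    have hc : c = (Units.mk0 d hd0) ^ 2 := by
      apply Units.ext
      rw [hd, Units.val_pow_eq_pow_val, Units.val_mk0, pow_two]
    rw [hc, hS.lam_sq hT1.nondeg hψ]
  -- the subspace `N`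
  let N : Submodule ℂ V :=
    { carrier := {x | (∀ v, P.R (sE (hypSum (hypSum Q')) v) x = x) ∧
        ∀ c : Fˣ, io c (1 : ((W' × F × F) × F × F) ≃ₗ[F] ((W' × F × F) × F × F)) ∈
          E (hypSum (hypSum (hypSum Q'))) → P.R (io c 1) x = x}
      add_mem' := by
        rintro x y ⟨hx, hx'⟩ ⟨hy, hy'⟩
        exact ⟨fun v => by rw [map_add, hx, hy], fun c hc => by rw [map_add, hx' c hc, hy' c hc]⟩
      zero_mem' := ⟨fun v => map_zero _, fun c _ => map_zero _⟩
      smul_mem' := by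
        rintro r x ⟨hx, hx'⟩
        exact ⟨fun v => by rw [map_smul, hx], fun c hc => by rw [map_smul, hx' c hc]⟩ }
  have hNwt : N ≤ wt (hypSum (hypSum Q')) ψ (TT P (hypSum (hypSum Q'))) 0 :=
    fun x hx => mem_wt_zero.2 hx.1
  have h1SO : ∀ {a : Fˣ}, io a (1 : (W' × F × F) ≃ₗ[F] (W' × F × F)) ∈ SO (hypSum (hypSum Q')) :=
    io_mem_SO.2 (SO _).one_mem
  have hzN : z ∈ N := by
    refine ⟨hz0, fun c hc => ?_⟩
    have h3 := hz2 c 1 1 (SO _).one_mem (by rw [io_one]; exact hc)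
    rw [io_one, hsq c hc, one_smul] at h3
    exact h3
  have hzN' : z' ∈ N := by
    refine ⟨hz0', fun c hc => ?_⟩
    have h3 := hz2' c 1 1 (SO _).one_mem (by rw [io_one]; exact hc)
    rw [io_one, hS.act_one, one_smul] at h3
    exact h3
  -- the lift
  have hDD := hT2.dd
  let φ0 : (((W' × F × F) × F × F) ≃ₗ[F] ((W' × F × F) × F × F)) → Fˣ := fun s =>
    if h : s ∈ SO (hypSum (hypSum Q')) then (hDD s h).choose else 1
  have hφ0 : ∀ s ∈ SO (hypSum (hypSum Q')), io (φ0 s) s ∈ E (hypSum (hypSum (hypSum Q'))) := by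
    intro s hs
    have : φ0 s = (hDD s hs).choose := dif_pos hs
    rw [this]
    exact (hDD s hs).choose_spec
  -- two lifts differ by an element fixing `N`
  have hlift : ∀ (s : ((W' × F × F) × F × F) ≃ₗ[F] ((W' × F × F) × F × F)) (c c' : Fˣ),
      io c s ∈ E (hypSum (hypSum (hypSum Q'))) → io c' s ∈ E (hypSum (hypSum (hypSum Q'))) →
      ∀ x ∈ N, P.R (io c s) x = P.R (io c' s) x := by
    intro s c c' hc hc' x hx
    have h3 : io (c'⁻¹ * c) (1 : ((W' × F × F) × F × F) ≃ₗ[F] ((W' × F × F) × F × F)) ∈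
        E (hypSum (hypSum (hypSum Q'))) := by
      have := (E _).mul_mem ((E _).inv_mem hc') hc
      rwa [io_inv, io_mul, inv_mul_cancel] at this
    have h4 : io c s = io c' s * io (c'⁻¹ * c) 1 := by rw [io_mul, mul_inv_cancel_left, mul_one]
    rw [h4, P.mul' hc' h3, hx.2 _ h3]
  have hN : ∀ s ∈ SO (hypSum (hypSum Q')), ∀ x ∈ N, P.R (io (φ0 s) s) x ∈ N := by
    rintro s hs x ⟨hx, hx'⟩
    refine ⟨fun v => ?_, fun c hc => ?_⟩
    · have h11 := io_wt P le_rfl (ψ := ψ) (SO_le_O hs) (hφ0 s hs) (u := 0) (x := x) (mem_wt_zero.2 hx)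
      rw [map_zero, smul_zero] at h11
      exact mem_wt_zero.1 h11 v
    · have e1 : io c 1 * io (φ0 s) s = io (φ0 s) s *
          io c (1 : ((W' × F × F) × F × F) ≃ₗ[F] ((W' × F × F) × F × F)) := by
        rw [io_mul, io_mul, mul_comm c, one_mul, mul_one]
      rw [P.swap hc (hφ0 s hs) (hφ0 s hs) hc e1, hx' c hc]
  obtain ⟨P', hP'⟩ := P.exists_sub (G' := SO (hypSum (hypSum Q'))) N (fun s => io (φ0 s) s) hN
    (fun x hx => hx.2 _ (hφ0 1 (SO _).one_mem))
    (fun s hs t ht x hx => by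
      rw [← P.mul' (hφ0 s hs) (hφ0 t ht), io_mul]
      refine hlift _ _ _ (hφ0 _ ((SO _).mul_mem hs ht)) ?_ x hx
      rw [← io_mul]
      exact (E _).mul_mem (hφ0 s hs) (hφ0 t ht))
  -- action of elements of `E`
  have hPE : ∀ s ∈ E (hypSum (hypSum Q')), ∀ x : N, (P'.R s x : V) = P.R (io 1 s) x := by
    intro s hs x
    rw [hP' s (E_le_SO hs)]
    exact hlift s _ _ (hφ0 s (E_le_SO hs)) (io_mem_E hs) x x.2
  -- properties of `z` and `z'` in `N`
  have hzz0 : ∀ v, P'.R (sE (hypSum Q') v) (⟨z, hzN⟩ : N) = ⟨z, hzN⟩ := by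
    intro v
    apply Subtype.ext
    rw [hPE _ (sE_mem _ v)]
    exact hz1 v
  have hzz0' : ∀ v, P'.R (sE (hypSum Q') v) (⟨z', hzN'⟩ : N) = ⟨z', hzN'⟩ := by
    intro v
    apply Subtype.ext
    rw [hPE _ (sE_mem _ v)]
    exact hz1' v
  have hzz1' : ∀ (a : Fˣ) (s : (W' × F × F) ≃ₗ[F] (W' × F × F)), s ∈ SO (hypSum Q') →
      P'.R (io a s) (⟨z', hzN'⟩ : N) = lam a • (⟨z', hzN'⟩ : N) := by
    intro a s hs
    apply Subtype.ext
    rw [hP' _ (io_mem_SO.2 hs)]
    exact hz2' _ a s hs (hφ0 _ (io_mem_SO.2 hs))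
  have hzz1 : ∀ a : Fˣ, P'.R (io a 1) (⟨z, hzN⟩ : N) = lam a • (⟨z, hzN⟩ : N) := by
    intro a
    apply Subtype.ext
    rw [hP' _ h1SO, hlift _ _ a (hφ0 _ h1SO) (zz_mem (hypSum Q') a) _ hzN]
    exact hz2 a a 1 (SO _).one_mem (zz_mem (hypSum Q') a)
  -- lemma `T`
  have hstep := PT_step h2 hq ⟨a0, ha0⟩ hψ hT (hPT lam ⟨a0, ha0⟩) P' (z := ⟨z', hzN'⟩)
    (fun h => hz' (congrArg Subtype.val h)) hzz0' hzz1'
  -- two independent vectors
  have htwo : 2 ≤ finrank ℂ (Neig P' (hypSum Q') lam) := by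
    let y : Neig P' (hypSum Q') lam := ⟨⟨z, hzN⟩, hzz0, hzz1⟩
    let y' : Neig P' (hypSum Q') lam := ⟨⟨z', hzN'⟩, hzz0', fun a => hzz1' a 1 (SO _).one_mem⟩
    -- the separating element
    have hsep : io a0 (io 1 (io a0 (1 : W' ≃ₗ[F] W'))) ∈ E (hypSum (hypSum (hypSum Q'))) := by
      have h3 := (E _).mul_mem (zz_mem (hypSum Q') a0) (io_mem_E (hh_mem Q' a0⁻¹))
      rw [inv_inv, io_mul, io_mul, mul_one, mul_inv_cancel, one_mul] at h3
      exact h3
    have hs1 : io a0 (1 : W' ≃ₗ[F] W') ∈ SO (hypSum Q') := io_mem_SO.2 (SO _).one_mem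
    have e1 := hz2 a0 1 _ hs1 hsep
    have e2 := hz2' a0 1 _ hs1 hsep
    rw [hS.act_one, one_smul] at e2
    have hli : LinearIndependent ℂ ![y, y'] := by
      rw [LinearIndependent.pair_iff]
      intro s t hst
      have h3 : s • z + t • z' = 0 := congrArg (fun x : Neig P' (hypSum Q') lam => ((x : N) : V)) hst
      have h4 := congrArg (P.R (io a0 (io 1 (io a0 (1 : W' ≃ₗ[F] W'))))) h3
      rw [map_add, map_smul, map_smul, e1, e2, map_zero] at h4
      have h5 : (s * (lam a0 - 1)) • z = 0 := by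
        have h6 : s • lam a0 • z - s • z = 0 := by
          have h7 : s • lam a0 • z = -(t • z') := eq_neg_of_add_eq_zero_left h4
          have h8 : s • z = -(t • z') := eq_neg_of_add_eq_zero_left h3
          rw [h7, h8, sub_self]
        rw [mul_sub, sub_smul, mul_one, mul_smul]
        exact h6
      have h6 : s = 0 := by
        rcases smul_eq_zero.1 h5 with h7 | h7
        · exact (mul_eq_zero.1 h7).resolve_right (sub_ne_zero.2 ha0)
        · exact absurd h7 hz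
      refine ⟨h6, ?_⟩
      rw [h6, zero_smul, zero_add] at h3
      exact (smul_eq_zero.1 h3).resolve_right hz'
    have h3 := hli.fintype_card_le_finrank
    simpa using h3
  have hNle : finrank ℂ N ≤ finrank ℂ (wt (hypSum (hypSum Q')) ψ (TT P (hypSum (hypSum Q'))) 0) :=
    Submodule.finrank_mono hNwt
  have e3 : tt (Fintype.card F) (k + 3) =
      tt (Fintype.card F) (k + 1) + Fintype.card F ^ (2 * (k + 1)) + Fintype.card F ^ (2 * (k + 2)) := rfl
  have e4 : 2 * k + 2 = 2 * (k + 1) := by ring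
  have e5 : 2 * (k + 1) + 2 = 2 * (k + 2) := by ring
  rw [e4] at hstep
  rw [e5] at hdim
  have h8 : 1 ≤ Fintype.card F ^ (2 * (k + 1)) := Nat.one_le_pow _ _ (by omega)
  have h9 : 1 ≤ Fintype.card F ^ (2 * (k + 2)) := Nat.one_le_pow _ _ (by omega)
  omega

end

end Cfsg.Agent.H117
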