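import Cfsg.Agent.LieClassical.OrthCore

/-!
# Partial representations and weight spaces

`PRep G V`: operators `R g` on `V` for all `g` in the ambient group, multiplicative on the subgroup `G`.
`Wt`: weight spaces of an action of a finite quadratic space, indexed by the space itself.
-/

set_option autoImplicit false

namespace Cfsg.Agent.H117

open QuadraticMap Cfsg.Agent.LieClassical.OrthCore Module

/-- operators indexed by the ambient group, multiplicative on `G` -/
structure PRep {H : Type*} [Group H] (G : Subgroup H) (V : Type*) [AddCommGroup V] [Module ℂ V] where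
  R : H → Module.End ℂ V
  one : R 1 = 1
  mul : ∀ g ∈ G, ∀ h ∈ G, R (g * h) = R g * R h

namespace PRep

variable {H : Type*} [Group H] {G : Subgroup H} {V : Type*} [AddCommGroup V] [Module ℂ V] (P : PRep G V)

theorem mul' {g h : H} (hg : g ∈ G) (hh : h ∈ G) (x : V) : P.R (g * h) x = P.R g (P.R h x) := by
  rw [P.mul g hg h hh, Module.End.mul_apply]

theorem one' (x : V) : P.R 1 x = x := by rw [P.one, Module.End.one_apply]

theorem inv_mul {g : H} (hg : g ∈ G) : P.R g⁻¹ * P.R g = 1 := by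
  rw [← P.mul _ (G.inv_mem hg) _ hg, inv_mul_cancel, P.one]

theorem inv' {g : H} (hg : g ∈ G) (x : V) : P.R g⁻¹ (P.R g x) = x := by
  rw [← P.mul' (G.inv_mem hg) hg, inv_mul_cancel, P.one']

theorem inv'' {g : H} (hg : g ∈ G) (x : V) : P.R g (P.R g⁻¹ x) = x := by
  rw [← P.mul' hg (G.inv_mem hg), mul_inv_cancel, P.one']

theorem inj {g : H} (hg : g ∈ G) {x y : V} (h : P.R g x = P.R g y) : x = y := by
  rw [← P.inv' hg x, h, P.inv' hg]

theorem ne_zero {g : H} (hg : g ∈ G) {x : V} (h : x ≠ 0) : P.R g x ≠ 0 := by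
  intro h1
  apply h
  apply P.inj hg
  rw [h1, map_zero]

theorem swap {g h h' g' : H} (hg : g ∈ G) (hh : h ∈ G) (hh' : h' ∈ G) (hg' : g' ∈ G)
    (e : g * h = h' * g') (x : V) : P.R g (P.R h x) = P.R h' (P.R g' x) := by
  rw [← P.mul' hg hh, e, P.mul' hh' hg']

/-- passing to a subspace and to another group -/
theorem exists_sub {H' : Type*} [Group H'] {G' : Subgroup H'} (N : Submodule ℂ V) (φ : H' → H)
    (hN : ∀ s ∈ G', ∀ x ∈ N, P.R (φ s) x ∈ N) (h1 : ∀ x ∈ N, P.R (φ 1) x = x)
    (hm : ∀ s ∈ G', ∀ t ∈ G', ∀ x ∈ N, P.R (φ (s * t)) x = P.R (φ s) (P.R (φ t) x)) :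
    ∃ P' : PRep G' N, ∀ s ∈ G', ∀ x : N, (P'.R s x : V) = P.R (φ s) x := by
  obtain ⟨π, hπ⟩ := N.subtype.exists_leftInverse_of_injective (Submodule.ker_subtype N)
  have hπ' : ∀ x : N, π x = x := fun x => LinearMap.congr_fun hπ x
  have key : ∀ s ∈ G', ∀ x : N, (((π ∘ₗ P.R (φ s) ∘ₗ N.subtype) x : N) : V) = P.R (φ s) x := by
    intro s hs x
    have h2 := hπ' ⟨P.R (φ s) x, hN s hs x x.2⟩
    exact congrArg Subtype.val h2
  refine ⟨⟨fun s => π ∘ₗ P.R (φ s) ∘ₗ N.subtype, ?_, ?_⟩, key⟩
  · apply LinearMap.ext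
    intro x
    apply Subtype.ext
    rw [key 1 G'.one_mem, h1 x x.2, Module.End.one_apply]
  · intro g hg h hh
    apply LinearMap.ext
    intro x
    apply Subtype.ext
    rw [key _ (G'.mul_mem hg hh), hm g hg h hh x x.2, Module.End.mul_apply, key g hg, key h hh]

/-- a representation of a subgroup -/
noncomputable def ofRep (ρ : Representation ℂ G V) : PRep G V := by
  classical
  exact
    { R := fun g => if h : g ∈ G then ρ ⟨g, h⟩ else 1
      one := by
        rw [dif_pos G.one_mem]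
        exact map_one ρ
      mul := by
        intro g hg h hh
        rw [dif_pos hg, dif_pos hh, dif_pos (G.mul_mem hg hh), ← map_mul]
        rfl }

theorem ofRep_apply (ρ : Representation ℂ G V) {g : H} (hg : g ∈ G) : (ofRep ρ).R g = ρ ⟨g, hg⟩ := by
  unfold ofRep
  exact dif_pos hg

end PRep

/-! ### weights -/

section Wt

variable {F A : Type*} [Field F] [AddCommGroup A] [Module F A] {V : Type*} [AddCommGroup V] [Module ℂ V]

/-- the character `v ↦ ψ (B(u, v))` -/
noncomputable def ch (Q : QuadraticForm F A) (ψ : AddChar F ℂ) (u : A) : AddChar A ℂ :=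
  ψ.compAddMonoidHom (polarBilin Q u).toAddMonoidHom

theorem ch_apply (Q : QuadraticForm F A) (ψ : AddChar F ℂ) (u v : A) :
    ch Q ψ u v = ψ (polar Q u v) := rfl

/-- the standing assumptions: a finite nondegenerate quadratic space, a nontrivial additive character and an action -/
structure WD (Q : QuadraticForm F A) (ψ : AddChar F ℂ) (T : A → Module.End ℂ V) : Prop where
  nondeg : Nondeg Q
  psi : ∃ c, ψ c ≠ 1
  zero : T 0 = 1
  add : ∀ a b, T (a + b) = T a * T b

/-- weight space -/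
def wt (Q : QuadraticForm F A) (ψ : AddChar F ℂ) (T : A → Module.End ℂ V) (u : A) : Submodule ℂ V where
  carrier := {x | ∀ v, T v x = ψ (polar Q u v) • x}
  add_mem' := by
    intro x y hx hy v
    rw [map_add, hx v, hy v, smul_add]
  zero_mem' := by
    intro v
    rw [map_zero, smul_zero]
  smul_mem' := by
    intro c x hx v
    rw [map_smul, hx v, smul_comm]

theorem mem_wt {Q : QuadraticForm F A} {ψ : AddChar F ℂ} {T : A → Module.End ℂ V} {u : A} {x : V} :
    x ∈ wt Q ψ T u ↔ ∀ v, T v x = ψ (polar Q u v) • x := Iff.rfl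

variable [Fintype A]

/-- projection to the weight space -/
noncomputable def pr (Q : QuadraticForm F A) (ψ : AddChar F ℂ) (T : A → Module.End ℂ V) (u : A) :
    Module.End ℂ V := (Fintype.card A : ℂ)⁻¹ • ∑ v, ψ (-(polar Q u v)) • T v

variable {Q : QuadraticForm F A} {ψ : AddChar F ℂ} {T : A → Module.End ℂ V}

omit [Fintype A] in
theorem psi_neg_mul (c : F) : ψ (-c) * ψ c = 1 := by
  rw [← AddChar.map_add_eq_mul, neg_add_cancel, AddChar.map_zero_eq_one]

omit [Fintype A] in
theorem psi_ne (c : F) : ψ c ≠ 0 := by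
  intro h
  have := psi_neg_mul (ψ := ψ) c
  rw [h, mul_zero] at this
  exact zero_ne_one this

theorem pr_apply (u : A) (x : V) :
    pr Q ψ T u x = (Fintype.card A : ℂ)⁻¹ • ∑ v, ψ (-(polar Q u v)) • T v x := by
  simp [pr]

omit [Module F A] in
theorem cardA_ne : (Fintype.card A : ℂ) ≠ 0 := Nat.cast_ne_zero.mpr Fintype.card_ne_zero

theorem sum_ch (h : WD Q ψ T) [DecidableEq A] (u : A) :
    ∑ v, ψ (polar Q u v) = if u = 0 then (Fintype.card A : ℂ) else 0 := by
  by_cases hu : u = 0
  · subst hu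
    rw [if_pos rfl]
    simp
  · rw [if_neg hu]
    obtain ⟨c, hc⟩ := h.psi
    obtain ⟨y, hy⟩ := h.nondeg.exists_polar_eq hu c
    have h1 : ch Q ψ u ≠ 0 := by
      intro h2
      have h3 : ch Q ψ u y = 1 := by rw [h2]; rfl
      rw [ch_apply, hy] at h3
      exact hc h3
    have h4 := AddChar.sum_eq_ite (ch Q ψ u)
    rw [if_neg h1] at h4
    exact h4

theorem T_pr (h : WD Q ψ T) (u b : A) (x : V) : T b (pr Q ψ T u x) = ψ (polar Q u b) • pr Q ψ T u x := by
  have e : ∀ a, T b (ψ (-(polar Q u a)) • T a x) =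
      ψ (polar Q u b) • ψ (-(polar Q u (b + a))) • T (b + a) x := fun a => by
    have e1 : ψ (-(polar Q u a)) = ψ (polar Q u b) * ψ (-(polar Q u (b + a))) := by
      rw [← AddChar.map_add_eq_mul, polar_add_right]
      congr 1
      ring
    rw [map_smul, smul_smul, h.add, Module.End.mul_apply, e1]
  have e2 : ∑ a, T b (ψ (-(polar Q u a)) • T a x) =
      ∑ a, ψ (polar Q u b) • ψ (-(polar Q u a)) • T a x := by
    rw [Fintype.sum_congr _ _ e]
    exact Fintype.sum_equiv (Equiv.addLeft b)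
      (fun a => ψ (polar Q u b) • ψ (-(polar Q u (b + a))) • T (b + a) x)
      (fun a => ψ (polar Q u b) • ψ (-(polar Q u a)) • T a x) fun a => rfl
  rw [pr_apply, map_smul, map_sum, e2, ← Finset.smul_sum, smul_comm]

theorem pr_mem (h : WD Q ψ T) (u : A) (x : V) : pr Q ψ T u x ∈ wt Q ψ T u := fun b => T_pr h u b x

omit [Fintype A] in
theorem T_comm (h : WD Q ψ T) (a b : A) (x : V) : T a (T b x) = T b (T a x) := by
  rw [← Module.End.mul_apply, ← Module.End.mul_apply, ← h.add, ← h.add, add_comm]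

theorem pr_T (h : WD Q ψ T) (u b : A) (x : V) : pr Q ψ T u (T b x) = ψ (polar Q u b) • pr Q ψ T u x := by
  rw [← T_pr h, pr_apply, pr_apply, map_smul, map_sum]
  congr 1
  refine Finset.sum_congr rfl fun a _ => ?_
  rw [map_smul, T_comm h]

theorem pr_of_mem {u : A} {x : V} (hx : x ∈ wt Q ψ T u) : pr Q ψ T u x = x := by
  rw [pr_apply]
  have : ∀ a, ψ (-(polar Q u a)) • T a x = (1 : ℂ) • x := fun a => by
    rw [hx a, smul_smul, psi_neg_mul]
  rw [Fintype.sum_congr _ _ this, Finset.sum_const, Finset.card_univ, one_smul, ← Nat.cast_smul_eq_nsmul ℂ,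
    smul_smul, inv_mul_cancel₀ cardA_ne, one_smul]

theorem pr_of_mem_ne (h : WD Q ψ T) {u u' : A} (hne : u ≠ u') {x : V} (hx : x ∈ wt Q ψ T u') :
    pr Q ψ T u x = 0 := by
  classical
  rw [pr_apply]
  have : ∀ a, ψ (-(polar Q u a)) • T a x = ψ (polar Q (u' - u) a) • x := fun a => by
    rw [hx a, smul_smul, ← AddChar.map_add_eq_mul, polar_sub_left]
    congr 2
    ring
  rw [Fintype.sum_congr _ _ this, ← Finset.sum_smul, sum_ch h, if_neg (sub_ne_zero.2 hne.symm), zero_smul,
    smul_zero]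

theorem sum_pr (h : WD Q ψ T) (x : V) : ∑ u : A, pr Q ψ T u x = x := by
  classical
  simp only [pr_apply]
  rw [← Finset.smul_sum, Finset.sum_comm]
  have : ∀ a : A, ∑ u : A, ψ (-(polar Q u a)) • T a x = if a = 0 then (Fintype.card A : ℂ) • x else 0 := by
    intro a
    rw [← Finset.sum_smul]
    have h2 : ∑ u : A, ψ (-(polar Q u a)) = ∑ u : A, ψ (polar Q (-a) u) :=
      Finset.sum_congr rfl fun u _ => by rw [polar_neg_left, polar_comm]
    rw [h2, sum_ch h]
    by_cases ha : a = 0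
    · subst ha
      rw [if_pos neg_zero, if_pos rfl, h.zero, Module.End.one_apply]
    · rw [if_neg (by rwa [neg_eq_zero]), if_neg ha, zero_smul]
  rw [Fintype.sum_congr _ _ this, Finset.sum_ite_eq' Finset.univ (0 : A), if_pos (Finset.mem_univ _),
    smul_smul, inv_mul_cancel₀ cardA_ne, one_smul]

/-- a vector is zero when all its components are -/
theorem eq_zero_of_pr (h : WD Q ψ T) {x : V} (hx : ∀ u, pr Q ψ T u x = 0) : x = 0 := by
  rw [← sum_pr h x]
  exact Finset.sum_eq_zero fun u _ => hx u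

variable [FiniteDimensional ℂ V]

theorem trace_pr (h : WD Q ψ T) (u : A) :
    LinearMap.trace ℂ V (pr Q ψ T u) = (finrank ℂ (wt Q ψ T u) : ℂ) := by
  have : LinearMap.IsProj (wt Q ψ T u) (pr Q ψ T u) := ⟨fun v => pr_mem h u v, fun v hv => pr_of_mem hv⟩
  exact this.trace

/-- the dimension is the sum of the dimensions of the weight spaces -/
theorem sum_finrank (h : WD Q ψ T) : ∑ u : A, finrank ℂ (wt Q ψ T u) = finrank ℂ V := by
  have h0 : ∑ u : A, pr Q ψ T u = 1 := by
    apply LinearMap.ext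
    intro x
    rw [LinearMap.sum_apply, sum_pr h, Module.End.one_apply]
  have h1 : LinearMap.trace ℂ V (∑ u : A, pr Q ψ T u) = (finrank ℂ V : ℂ) := by
    rw [h0]
    exact LinearMap.trace_one ℂ V
  rw [map_sum] at h1
  simp only [trace_pr h] at h1
  exact_mod_cast h1

/-- lower bound by a set of weights -/
theorem finrank_ge (h : WD Q ψ T) [DecidableEq A] (S : Finset A) (h0 : (0 : A) ∉ S) (r : ℕ)
    (hS : ∀ u ∈ S, r ≤ finrank ℂ (wt Q ψ T u)) :
    finrank ℂ (wt Q ψ T 0) + r * S.card ≤ finrank ℂ V := by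
  rw [← sum_finrank h, ← Finset.add_sum_erase _ _ (Finset.mem_univ (0 : A))]
  refine Nat.add_le_add_left ?_ _
  calc r * S.card = ∑ u ∈ S, r := by rw [Finset.sum_const, smul_eq_mul, mul_comm]
    _ ≤ ∑ u ∈ S, finrank ℂ (wt Q ψ T u) := Finset.sum_le_sum hS
    _ ≤ _ := by
      refine Finset.sum_le_sum_of_subset ?_
      intro u hu
      rw [Finset.mem_erase]
      exact ⟨fun h => h0 (h ▸ hu), Finset.mem_univ _⟩

omit [Fintype A] in
/-- transport of weight spaces -/
theorem finrank_wt_le {g g' : Module.End ℂ V} (hg : g' * g = 1) {u u' : A}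
    (hT : ∀ x ∈ wt Q ψ T u, g x ∈ wt Q ψ T u') :
    finrank ℂ (wt Q ψ T u) ≤ finrank ℂ (wt Q ψ T u') := by
  refine LinearMap.finrank_le_finrank_of_injective (f := g.restrict hT) ?_
  intro v w hvw
  have h1 : g v = g w := congrArg Subtype.val hvw
  have h2 : g' (g v) = g' (g w) := by rw [h1]
  rw [← Module.End.mul_apply, ← Module.End.mul_apply, hg, Module.End.one_apply, Module.End.one_apply] at h2
  exact Subtype.ext h2

end Wt

end Cfsg.Agent.H117
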