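import Cfsg.Agent.Nodes.LeviDec
import Cfsg.Agent.KFacts.RgdDiag
import Cfsg.Agent.H497.CD.Cnt

/-!
# Indices and normalizers of parabolic subgroups (helper117, task 2059 for S4898)

* `normalizer_PJ`, `not_dvd_relIndex`, `relIndex_opp`, `relIndex_simple_dvd`, `two_mul_le_card_VJ`, `mul_le_card_VJ`.
-/

set_option autoImplicit false
set_option linter.unusedSectionVars false

namespace Cfsg.Agent.H117.ParIdx

open CoxeterSystem Cfsg.Agent.ChevalleyStructure.CoxeterGeom Cfsg.Agent.Tits.Roots Cfsg.Agent.Tits.Core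
  Cfsg.Agent.Tits.Exchange Cfsg.Agent.Nodes.Reps Cfsg.Agent.Nodes.BNOf Cfsg.Agent.Nodes.StabComb
  Cfsg.Agent.Nodes.OppDec Cfsg.Agent.Nodes.Bruhat Cfsg.Agent.Nodes.LeviDec

variable {I W Y : Type*} [Fintype I] [DecidableEq I] [Group W] [Group Y] {M : CoxeterMatrix I}
  {cs : CoxeterSystem M W} {A : I → I → ℤ} {h : IsCartan M A} {p : ℕ} {T : Subgroup Y} {n : I → Y}
  {X : (I → ℤ) → Subgroup Y}

theorem normalizer_PJ [Finite W] (R : RGD cs h p T n X) (hG : GG cs h T X = ⊤) (J : Set I) :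
    Subgroup.normalizer (PJ cs h T X J : Set Y) = PJ cs h T X J := by
  apply le_antisymm _ Subgroup.le_normalizer
  have h1 : RGD.B cs h T X ≤ Subgroup.normalizer (PJ cs h T X J : Set Y) :=
    le_trans B_le_PJ Subgroup.le_normalizer
  rw [H554.RG.eq_PJ R hG h1]
  refine H554.RG.PJ_mono R fun k hk => ?_
  by_contra hkJ
  obtain ⟨u, hu, hu1⟩ := exists_ne_one R k
  refine hu1 (H497.CD.eq_one_of_conj_mem_PJ R hkJ hu ?_)
  have h2 : u ∈ PJ cs h T X J := B_le_PJ (RGD.X_le_B (isRoot_sr cs h k) (sr_nonneg k) hu)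
  have h3 := (Subgroup.mem_normalizer_iff.1 (inv_mem hk) u).1 h2
  rwa [inv_inv] at h3

theorem not_dvd_relIndex [Finite W] [Finite Y] [Fact p.Prime] (R : RGD cs h p T n X) (hG : GG cs h T X = ⊤)
    (J : Set I) : ¬ p ∣ (RGD.Sup X (RGD.Pos cs h)).relIndex (PJ cs h T X J) := by
  obtain ⟨P, hP⟩ := H554.RG.exists_sylow R hG
  have h1 : ¬ p ∣ (RGD.Sup X (RGD.Pos cs h)).index := by
    rw [← hP]; exact P.not_dvd_index
  intro h2
  apply h1
  have h3 : RGD.Sup X (RGD.Pos cs h) ≤ PJ cs h T X J := le_trans RGD.U_le_B B_le_PJ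
  rw [← Subgroup.relIndex_mul_index h3]
  exact Dvd.dvd.mul_right h2 _

/-! ### the longest element -/

theorem simple_injective (cs : CoxeterSystem M W) (h : IsCartan M A) : Function.Injective cs.simple := by
  intro i j hij
  by_contra hne
  have h1 := rep_simple_sr cs h i
  rw [hij] at h1
  have h2 := congrFun h1 i
  rw [rep_simple_apply cs h j (sr i) i hne, Pi.neg_apply, sr_self] at h2
  omega

theorem rep_w0_sr [Finite W] (j : I) : rep cs h (w0 cs) (sr j) = - sr (op cs j) := by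
  set z := - rep cs h (w0 cs) (sr j) with hz
  have hzr : IsRoot cs h z := ((isRoot_sr cs h j).act (w0 cs)).neg
  have hz0 : 0 ≤ z := neg_nonneg.2 (rep_w0_nonpos (isRoot_sr cs h j) (sr_nonneg j))
  have h1 : rep cs h (cs.simple (op cs j)) z = - z := by
    rw [hz, map_neg, ← rep_mul_apply, simple_op_mul_w0, rep_mul_apply, rep_simple_sr, map_neg]
  have h2 : z = sr (op cs j) := by
    by_contra hne
    have h3 := hzr.simple_nonneg hz0 (op cs j) hne
    rw [h1] at h3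
    exact hzr.not_pos_neg hz0 (neg_nonneg.1 h3)
  rw [← h2, hz, neg_neg]

theorem rep_w0_apply [Finite W] (x : I → ℤ) (k : I) : rep cs h (w0 cs) x (op cs k) = - x k := by
  have hx : x = ∑ i, x i • sr i := by
    funext k
    rw [Finset.sum_apply, Finset.sum_eq_single k]
    · rw [Pi.smul_apply, sr_self, smul_eq_mul, mul_one]
    · intro j _ hj
      rw [Pi.smul_apply, sr_ne (Ne.symm hj), smul_zero]
    · intro hk
      exact absurd (Finset.mem_univ k) hk
  conv_lhs => rw [hx]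
  rw [map_sum, Finset.sum_apply, Finset.sum_eq_single k]
  · rw [map_smul, rep_w0_sr, Pi.smul_apply, Pi.neg_apply, sr_self, smul_eq_mul]
    ring
  · intro j _ hj
    rw [map_smul, rep_w0_sr, Pi.smul_apply, Pi.neg_apply, sr_ne, neg_zero, smul_zero]
    intro h2
    apply hj
    rw [← op_op cs (simple_injective cs h) j, ← h2, op_op cs (simple_injective cs h) k]
  · intro hk
    exact absurd (Finset.mem_univ k) hk

theorem RootsJ_w0 [Finite W] {J : Set I} (hop : ∀ i, op cs i ∈ J ↔ i ∈ J) {x : I → ℤ} (hx : x ∈ RootsJ cs h J) :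
    rep cs h (w0 cs) x ∈ RootsJ cs h J := by
  refine ⟨hx.1.act _, fun k hk => ?_⟩
  have h1 : op cs k ∉ J := fun h2 => hk ((hop k).1 h2)
  have h2 := rep_w0_apply (cs := cs) (h := h) x (op cs k)
  rw [op_op cs (simple_injective cs h), hx.2 _ h1, neg_zero] at h2
  exact h2

theorem NotJ_w0 [Finite W] {J : Set I} (hop : ∀ i, op cs i ∈ J ↔ i ∈ J) {x : I → ℤ} (hx : x ∈ NotJ cs h J) :
    rep cs h (w0 cs) x ∈ NotNJ cs h J := by
  obtain ⟨hr, h0, k, hk, hk0⟩ := hx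
  have h1 : rep cs h (w0 cs) x ≤ 0 := rep_w0_nonpos hr h0
  refine ⟨(hr.act _).neg, neg_nonneg.2 h1, op cs k, fun h2 => hk ((hop k).1 h2), ?_⟩
  rw [Pi.neg_apply, rep_w0_apply, neg_neg]
  exact hk0

theorem NotNJ_w0 [Finite W] {J : Set I} (hop : ∀ i, op cs i ∈ J ↔ i ∈ J) {x : I → ℤ} (hx : x ∈ NotNJ cs h J) :
    rep cs h (w0 cs) x ∈ NotJ cs h J := by
  have h1 := NotJ_w0 hop hx
  rw [map_neg] at h1
  have h2 : - -(rep cs h (w0 cs) x) ∈ NotJ cs h J := h1
  rwa [neg_neg] at h2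

/-- the opposite of a parabolic subgroup of type `J = op J` -/
theorem cj_PJ [Finite W] (R : RGD cs h p T n X) {J : Set I} (hop : ∀ i, op cs i ∈ J ↔ i ∈ J) {k : Y}
    (hk : Rp cs R.nsys (w0 cs) k) : cj k (PJ cs h T X J) = PNJ cs h T X J := by
  have hk' : Rp cs R.nsys (w0 cs) k⁻¹ := by
    have := hk.inv
    rwa [w0_inv] at this
  have hL : ∀ {g : Y}, Rp cs R.nsys (w0 cs) g → cj g (LJ cs h T X J) ≤ LJ cs h T X J := by
    intro g hg
    unfold LJ
    rw [cj_sup, cj_T R hg]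
    exact sup_le_sup_left (cj_Sup_le R hg (fun x hx => hx.1) fun x hx => RootsJ_w0 hop hx) _
  have hV : cj k (VJ cs h X J) ≤ VNJ cs h X J :=
    cj_Sup_le R hk (fun x hx => hx.1) fun x hx => NotJ_w0 hop hx
  have hV' : cj k⁻¹ (VNJ cs h X J) ≤ VJ cs h X J :=
    cj_Sup_le R hk' (fun x hx => NotNJ.isRoot hx) fun x hx => NotNJ_w0 hop hx
  apply le_antisymm
  · unfold PJ PNJ
    rw [cj_sup]
    exact sup_le_sup (hL hk) hV
  · have h1 : cj k⁻¹ (PNJ cs h T X J) ≤ PJ cs h T X J := by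
      unfold PJ PNJ
      rw [cj_sup]
      exact sup_le_sup (hL hk') hV'
    have h2 := cj_mono k h1
    rwa [cj_cj_inv] at h2

/-- `|P_J : L_J| = |V_J|` -/
theorem relIndex_LJ [Finite W] [Finite Y] (R : RGD cs h p T n X) (J : Set I) :
    (LJ cs h T X J).relIndex (PJ cs h T X J) = Nat.card (VJ cs h X J) := by
  symm
  refine Nat.card_congr (Equiv.ofBijective
    (fun x : VJ cs h X J => (QuotientGroup.mk ⟨(x : Y), VJ_le_PJ x.2⟩ :
      ↥(PJ cs h T X J) ⧸ (LJ cs h T X J).subgroupOf (PJ cs h T X J))) ⟨?_, ?_⟩)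
  · intro x y hxy
    have h1 := QuotientGroup.eq.mp hxy
    rw [Subgroup.mem_subgroupOf] at h1
    have h2 := eq_one_of_mem_LJ_of_mem_VJ R h1 (mul_mem (inv_mem x.2) y.2)
    exact Subtype.ext (inv_mul_eq_one.1 h2)
  · intro q
    induction q using QuotientGroup.induction_on with
    | _ g =>
      obtain ⟨g, hg⟩ := g
      obtain ⟨l, hl, v, hv, e⟩ := (mem_PJ R).1 (inv_mem hg)
      refine ⟨⟨v⁻¹, inv_mem hv⟩, ?_⟩
      rw [QuotientGroup.eq, Subgroup.mem_subgroupOf]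
      change (v⁻¹)⁻¹ * g ∈ _
      have e2 : (v⁻¹)⁻¹ * g = l⁻¹ := by
        have e3 : g = v⁻¹ * l⁻¹ := by rw [← mul_inv_rev, ← e, inv_inv]
        rw [e3]; group
      rw [e2]
      exact inv_mem hl

theorem relIndex_opp [Finite W] [Finite Y] (R : RGD cs h p T n X) (hG : GG cs h T X = ⊤) (J : Set I)
    (hop : ∀ i, op cs i ∈ J ↔ i ∈ J) {k : Y} (hk : Rp cs R.nsys (w0 cs) k) :
    (PJ cs h T X J ⊓ (PJ cs h T X J).map (MulAut.conj k).toMonoidHom).relIndex (PJ cs h T X J) =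
      Nat.card (VJ cs h X J) := by
  have h1 : (PJ cs h T X J).map (MulAut.conj k).toMonoidHom = PNJ cs h T X J := cj_PJ R hop hk
  rw [h1, PJ_inf_PNJ R, relIndex_LJ R]

theorem relIndex_simple_dvd [Finite W] [Finite Y] (R : RGD cs h p T n X) (hG : GG cs h T X = ⊤) (J : Set I) (s : I) :
    (PJ cs h T X J ⊓ (PJ cs h T X J).map (MulAut.conj (n s)).toMonoidHom).relIndex (PJ cs h T X J) ∣
      (RGD.Sup X (RGD.Pos cs h)).relIndex (PJ cs h T X J) * Nat.card (X (sr s)) := by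
  set V : Subgroup Y := RGD.Sup X (RGD.PosNe cs h s) with hV
  have hVU : V ≤ RGD.Sup X (RGD.Pos cs h) := RGD.Sup_mono fun x hx => ⟨hx.1, hx.2.1⟩
  have hUP : RGD.Sup X (RGD.Pos cs h) ≤ PJ cs h T X J := le_trans RGD.U_le_B B_le_PJ
  have hVP : V ≤ PJ cs h T X J := le_trans hVU hUP
  have hVn : V ≤ (PJ cs h T X J).map (MulAut.conj (n s)).toMonoidHom := by
    have h1 : cj (n s) V = V := R.cj_n_V s
    rw [← h1]
    exact cj_mono (n s) hVP
  have h2 : V.relIndex (RGD.Sup X (RGD.Pos cs h)) = Nat.card (X (sr s)) := H497.CD.card_quot R s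
  have h3 : V.relIndex (PJ cs h T X J) = Nat.card (X (sr s)) * (RGD.Sup X (RGD.Pos cs h)).relIndex (PJ cs h T X J) := by
    rw [← h2, Subgroup.relIndex_mul_relIndex _ _ _ hVU hUP]
  rw [mul_comm, ← h3, ← Subgroup.relIndex_mul_relIndex _ _ _ (le_inf hVP hVn) inf_le_left]
  exact Dvd.intro_left _ rfl

/-! ### the order of the unipotent radical -/

/-- the image of `α_s` under the reflection `j` -/
theorem root_facts (R : RGD cs h p T n X) (J : Set I) {s j : I} (hs : s ∉ J) (hj : j ∈ J) (hM : M s j ≠ 2) :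
    IsRoot cs h (rep cs h (cs.simple j) (sr s)) ∧ rep cs h (cs.simple j) (sr s) ∈ NotJ cs h J ∧
      rep cs h (cs.simple j) (sr s) ≠ sr s ∧ ∀ i, i ≠ s → rep cs h (cs.simple j) (sr s) ≠ sr i := by
  have hsj : s ≠ j := fun e => hs (e ▸ hj)
  refine ⟨(isRoot_sr cs h s).act _, NotJ.act (simple_mem_WJ cs hj) (sr_mem_NotJ hs), ?_, ?_⟩
  · intro e
    have h1 := H497.CD.entries h hsj hM
    have h2 : j ∈ orth cs h (sr s) := e
    rw [mem_orth, H497.CD.pairing_sr'] at h2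
    rw [h2] at h1
    simp at h1
  · intro i hi e
    have h2 := congrFun e s
    rw [rep_simple_apply cs h j (sr s) s hsj, sr_self, sr_ne (Ne.symm hi)] at h2
    exact absurd h2 (by norm_num)

theorem two_le_card [Finite Y] (R : RGD cs h p T n X) {x : I → ℤ} (hx : IsRoot cs h x) : 2 ≤ Nat.card (X x) := by
  have h1 := X_ne_bot R hx
  have : Nontrivial (X x) := (Subgroup.nontrivial_iff_ne_bot _).2 h1
  exact Finite.one_lt_card

theorem mul_le_card_VJ [Finite W] [Finite Y] (R : RGD cs h p T n X) (J : Set I) {s s' j : I} (hs : s ∉ J) (hs' : s' ∉ J)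
    (hss : s ≠ s') (hj : j ∈ J) (hM : M s j ≠ 2) :
    2 * (Nat.card (X (sr s)) * Nat.card (X (sr s'))) ≤ Nat.card (VJ cs h X J) := by
  obtain ⟨hr, hrN, hr1, hr2⟩ := root_facts R J hs hj hM
  set r := rep cs h (cs.simple j) (sr s) with hrdef
  have hXs : X (sr s) ≤ VJ cs h X J := RGD.le_Sup (sr_mem_NotJ hs)
  have hXs' : X (sr s') ≤ VJ cs h X J := RGD.le_Sup (sr_mem_NotJ hs')
  have hXr : X r ≤ VJ cs h X J := RGD.le_Sup hrN
  let f : X (sr s) × X (sr s') × X r → VJ cs h X J :=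
    fun c => ⟨(c.1 : Y) * ((c.2.1 : Y) * c.2.2), mul_mem (hXs c.1.2) (mul_mem (hXs' c.2.1.2) (hXr c.2.2.2))⟩
  have hV1 : X (sr s') ≤ RGD.Sup X (RGD.PosNe cs h s) :=
    RGD.le_Sup ⟨isRoot_sr cs h s', sr_nonneg s', fun e => hss (by
      have := congrFun e s
      rw [sr_self] at this
      by_contra hne
      rw [sr_ne hne] at this
      exact absurd this (by norm_num))⟩
  have hV2 : X r ≤ RGD.Sup X (RGD.PosNe cs h s) := RGD.le_Sup ⟨hr, hrN.2.1, hr1⟩
  have hinj : Function.Injective f := by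
    rintro ⟨a, b, c⟩ ⟨a', b', c'⟩ he
    have h1 : (a : Y) * ((b : Y) * c) = (a' : Y) * ((b' : Y) * c') := congrArg Subtype.val he
    have h2 : (a' : Y)⁻¹ * a = ((b' : Y) * c') * ((b : Y) * c)⁻¹ := by
      have : (a' : Y)⁻¹ * ((a : Y) * ((b : Y) * c)) * ((b : Y) * c)⁻¹ =
          (a' : Y)⁻¹ * ((a' : Y) * ((b' : Y) * c')) * ((b : Y) * c)⁻¹ := by rw [h1]
      calc (a' : Y)⁻¹ * a = (a' : Y)⁻¹ * ((a : Y) * ((b : Y) * c)) * ((b : Y) * c)⁻¹ := by group
        _ = (a' : Y)⁻¹ * ((a' : Y) * ((b' : Y) * c')) * ((b : Y) * c)⁻¹ := this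
        _ = _ := by group
    have h3 : (a' : Y)⁻¹ * a = 1 := by
      refine eq_one_of_mem_PosNe R (mul_mem (inv_mem a'.2) a.2) ?_
      rw [h2]
      exact mul_mem (mul_mem (hV1 b'.2) (hV2 c'.2)) (inv_mem (mul_mem (hV1 b.2) (hV2 c.2)))
    have h4 : (a' : Y) = a := inv_mul_eq_one.1 h3
    rw [← h4, mul_right_inj] at h1
    have h5 : (b' : Y)⁻¹ * b = c' * (c : Y)⁻¹ := by
      calc (b' : Y)⁻¹ * b = (b' : Y)⁻¹ * ((b : Y) * c) * (c : Y)⁻¹ := by group
        _ = (b' : Y)⁻¹ * ((b' : Y) * c') * (c : Y)⁻¹ := by rw [h1]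
        _ = _ := by group
    have h6 : (b' : Y)⁻¹ * b ∈ X (sr s') ⊓ X r :=
      Subgroup.mem_inf.2 ⟨mul_mem (inv_mem b'.2) b.2, by rw [h5]; exact mul_mem c'.2 (inv_mem c.2)⟩
    rw [X_inf_X R (isRoot_sr cs h s') hr (Ne.symm (hr2 s' (Ne.symm hss))), Subgroup.mem_bot] at h6
    have h7 : (b' : Y) = b := inv_mul_eq_one.1 h6
    rw [← h7, mul_right_inj] at h1
    simp only [Prod.mk.injEq]
    exact ⟨Subtype.ext h4.symm, Subtype.ext h7.symm, Subtype.ext h1⟩
  have h1 := Nat.card_le_card_of_injective f hinj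
  rw [Nat.card_prod, Nat.card_prod] at h1
  have h2 := two_le_card R hr
  calc 2 * (Nat.card (X (sr s)) * Nat.card (X (sr s'))) ≤
      Nat.card (X r) * (Nat.card (X (sr s)) * Nat.card (X (sr s'))) := Nat.mul_le_mul_right _ h2
    _ = Nat.card (X (sr s)) * (Nat.card (X (sr s')) * Nat.card (X r)) := by ring
    _ ≤ _ := h1

theorem two_mul_le_card_VJ [Finite W] [Finite Y] (R : RGD cs h p T n X) (J : Set I) {s j : I} (hs : s ∉ J) (hj : j ∈ J)
    (hM : M s j ≠ 2) : 2 * Nat.card (X (sr s)) ≤ Nat.card (VJ cs h X J) := by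
  obtain ⟨hr, hrN, hr1, hr2⟩ := root_facts R J hs hj hM
  set r := rep cs h (cs.simple j) (sr s) with hrdef
  have hXs : X (sr s) ≤ VJ cs h X J := RGD.le_Sup (sr_mem_NotJ hs)
  have hXr : X r ≤ VJ cs h X J := RGD.le_Sup hrN
  let f : X (sr s) × X r → VJ cs h X J := fun c => ⟨(c.1 : Y) * c.2, mul_mem (hXs c.1.2) (hXr c.2.2)⟩
  have hinj : Function.Injective f := by
    rintro ⟨a, c⟩ ⟨a', c'⟩ he
    have h1 : (a : Y) * c = (a' : Y) * c' := congrArg Subtype.val he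
    have h5 : (a' : Y)⁻¹ * a = c' * (c : Y)⁻¹ := by
      calc (a' : Y)⁻¹ * a = (a' : Y)⁻¹ * ((a : Y) * c) * (c : Y)⁻¹ := by group
        _ = (a' : Y)⁻¹ * ((a' : Y) * c') * (c : Y)⁻¹ := by rw [h1]
        _ = _ := by group
    have h6 : (a' : Y)⁻¹ * a ∈ X (sr s) ⊓ X r :=
      Subgroup.mem_inf.2 ⟨mul_mem (inv_mem a'.2) a.2, by rw [h5]; exact mul_mem c'.2 (inv_mem c.2)⟩
    rw [X_inf_X R (isRoot_sr cs h s) hr (Ne.symm hr1), Subgroup.mem_bot] at h6
    have h7 : (a' : Y) = a := inv_mul_eq_one.1 h6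
    rw [← h7, mul_right_inj] at h1
    simp only [Prod.mk.injEq]
    exact ⟨Subtype.ext h7.symm, Subtype.ext h1⟩
  have h1 := Nat.card_le_card_of_injective f hinj
  rw [Nat.card_prod] at h1
  have h2 := two_le_card R hr
  calc 2 * Nat.card (X (sr s)) ≤ Nat.card (X r) * Nat.card (X (sr s)) := Nat.mul_le_mul_right _ h2
    _ = Nat.card (X (sr s)) * Nat.card (X r) := by ring
    _ ≤ _ := h1

end Cfsg.Agent.H117.ParIdx
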