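import Cfsg.Agent.H117.Gen
import Cfsg.Agent.LieClassical.OrthForms

/-!
# The tower of odd-dimensional quadratic spaces
-/

set_option autoImplicit false

universe u

namespace Cfsg.Agent.H117

open QuadraticMap Cfsg.Agent.LieClassical.OrthCore Cfsg.Agent.LieClassical.OrthTrans
open Cfsg.Agent.LieClassical.OrthCount (hypSum hypSum_apply polar_hypSum)

/-- `Q` is `x² + x₁ y₁ + ... + x_k y_k` in recursive form -/
inductive IsTw (F : Type u) [Field F] :
    ℕ → ∀ (V : Type u) [AddCommGroup V] [Module F V], QuadraticForm F V → Prop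
  | base : IsTw F 0 F QuadraticMap.sq
  | step {k : ℕ} {V : Type u} [AddCommGroup V] [Module F V] {Q : QuadraticForm F V}
      (h : IsTw F k V Q) : IsTw F (k + 1) (V × F × F) (hypSum Q)

/-- what we need to know on a member of the tower -/
structure TF {F V : Type*} [Field F] [AddCommGroup V] [Module F V] (k : ℕ) (Q : QuadraticForm F V) : Prop where
  nondeg : Nondeg Q
  ns : ∃ w0, Q w0 = 1
  dd : DD Q
  fd : FiniteDimensional F V
  rank : Module.finrank F V = 2 * k + 1
  card : Nat.card V = Nat.card F ^ (2 * k + 1)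
  sing : Nat.card {v // Q v = 0} = Nat.card F ^ (2 * k)

theorem card_sing_hypSum {F V : Type*} [Field F] [AddCommGroup V] [Module F V] [Finite F] [Finite V]
    (Q : QuadraticForm F V) : Nat.card {u : V × F × F // hypSum Q u = 0} =
      (Nat.card F - 1) * Nat.card V + Nat.card F * Nat.card {v // Q v = 0} := by
  classical
  have := Fintype.ofFinite F
  have e1 : {u : V × F × F // hypSum Q u = 0} ≃ Σ y : F, {p : V × F // Q p.1 + p.2 * y = 0} :=
    { toFun := fun u => ⟨u.1.2.2, ⟨(u.1.1, u.1.2.1), u.2⟩⟩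
      invFun := fun p => ⟨(p.2.1.1, p.2.1.2, p.1), p.2.2⟩
      left_inv := fun u => rfl
      right_inv := fun p => rfl }
  rw [Nat.card_congr e1, Nat.card_sigma, ← Finset.sum_erase_add _ _ (Finset.mem_univ (0 : F))]
  have h0 : Nat.card {p : V × F // Q p.1 + p.2 * 0 = 0} = Nat.card F * Nat.card {v // Q v = 0} := by
    have e2 : {p : V × F // Q p.1 + p.2 * 0 = 0} ≃ F × {v // Q v = 0} :=
      { toFun := fun p => (p.1.2, ⟨p.1.1, by simpa using p.2⟩)
        invFun := fun p => ⟨(p.2.1, p.1), by simpa using p.2.2⟩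
        left_inv := fun u => rfl
        right_inv := fun p => rfl }
    rw [Nat.card_congr e2, Nat.card_prod]
  have h1 : ∀ y ∈ Finset.univ.erase (0 : F),
      Nat.card {p : V × F // Q p.1 + p.2 * y = 0} = Nat.card V := by
    intro y hy
    have hy0 : y ≠ 0 := (Finset.mem_erase.1 hy).1
    refine Nat.card_congr
      { toFun := fun p => p.1.1
        invFun := fun w => ⟨(w, -Q w / y), by simp only; field_simp; ring⟩
        left_inv := ?_
        right_inv := fun w => rfl }
    rintro ⟨⟨w, x⟩, h⟩
    apply Subtype.ext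
    simp only at h ⊢
    have : x = -Q w / y := by
      field_simp
      linear_combination h
    rw [← this]
  rw [h0, Finset.sum_congr rfl h1, Finset.sum_const, Finset.card_erase_of_mem (Finset.mem_univ _),
    Finset.card_univ, smul_eq_mul, ← Nat.card_eq_fintype_card (α := F)]

theorem TF.finite {F V : Type*} [Field F] [AddCommGroup V] [Module F V] [Finite F] {k : ℕ}
    {Q : QuadraticForm F V} (h : TF k Q) : Finite V := by
  have := h.fd
  exact Module.finite_of_finite F

theorem TF.step {F V : Type*} [Field F] [AddCommGroup V] [Module F V] [Finite F] (h2 : (2 : F) ≠ 0)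
    {k : ℕ} {Q : QuadraticForm F V} (h : TF k Q) : TF (k + 1) (hypSum Q) := by
  have hfd := h.fd
  have hfin := h.finite
  obtain ⟨w0, hw0⟩ := h.ns
  have hne : Q w0 ≠ 0 := by rw [hw0]; exact one_ne_zero
  have hF : 1 ≤ Nat.card F := Nat.card_pos
  refine ⟨nondeg_hypSum h.nondeg, ⟨(w0, 0, 0), by rw [hypSum_apply]; simp [hw0]⟩,
    DD_step h2 h.nondeg hne h.dd, inferInstance, ?_, ?_, ?_⟩
  · rw [Module.finrank_prod, Module.finrank_prod, Module.finrank_self, h.rank]
    ring
  · rw [Nat.card_prod, Nat.card_prod, h.card]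
    ring
  · rw [card_sing_hypSum, h.card, h.sing]
    obtain ⟨m, hm⟩ : ∃ m, Nat.card F = m + 1 := ⟨Nat.card F - 1, by omega⟩
    rw [hm, Nat.add_sub_cancel]
    ring

theorem TF.base {F : Type*} [Field F] (h2 : (2 : F) ≠ 0) :
    TF 0 (QuadraticMap.sq (R := F)) := by
  refine ⟨?_, ⟨1, by simp⟩, DD_sq, inferInstance, by simp, by simp, ?_⟩
  · intro x h
    have := h 1
    have h3 : polar (QuadraticMap.sq (R := F)) x 1 = 2 * x := by
      simp only [polar, QuadraticMap.sq_apply]
      ring
    rw [h3] at this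
    exact (mul_eq_zero.1 this).resolve_left h2
  · rw [mul_zero, pow_zero, Nat.card_eq_one_iff_unique]
    refine ⟨⟨?_⟩, ⟨⟨0, by simp⟩⟩⟩
    rintro ⟨x, hx⟩ ⟨y, hy⟩
    apply Subtype.ext
    have h3 : x = 0 := by simpa using hx
    have h4 : y = 0 := by simpa using hy
    exact h3.trans h4.symm

theorem IsTw.tf {F : Type u} [Field F] [Finite F] (h2 : (2 : F) ≠ 0) {k : ℕ} {V : Type u}
    [AddCommGroup V] [Module F V] {Q : QuadraticForm F V} (h : IsTw F k V Q) : TF k Q := by
  induction h with
  | base => exact TF.base h2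
  | step h ih => exact ih.step h2

/-- appending a pair of coordinates -/
noncomputable def snocEquiv (F : Type u) [Field F] (k : ℕ) :
    ((Unit ⊕ (Fin k ⊕ Fin k) → F) × F × F) ≃ₗ[F] (Unit ⊕ (Fin (k + 1) ⊕ Fin (k + 1)) → F) :=
  LinearEquiv.ofLinearMap
    { toFun := fun v => Sum.elim (fun _ => v.1 (Sum.inl ()))
        (Sum.elim (Fin.cons v.2.1 fun i => v.1 (Sum.inr (Sum.inl i)))
          (Fin.cons v.2.2 fun i => v.1 (Sum.inr (Sum.inr i))))
      map_add' := by
        intro v w
        funext i
        rcases i with i | i | i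
        · rfl
        · refine Fin.cases ?_ (fun j => ?_) i <;> rfl
        · refine Fin.cases ?_ (fun j => ?_) i <;> rfl
      map_smul' := by
        intro c v
        funext i
        rcases i with i | i | i
        · rfl
        · refine Fin.cases ?_ (fun j => ?_) i <;> rfl
        · refine Fin.cases ?_ (fun j => ?_) i <;> rfl }
    { toFun := fun w => (Sum.elim (fun _ => w (Sum.inl ()))
        (Sum.elim (fun i => w (Sum.inr (Sum.inl i.succ))) (fun i => w (Sum.inr (Sum.inr i.succ)))),
          w (Sum.inr (Sum.inl 0)), w (Sum.inr (Sum.inr 0)))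
      map_add' := by
        intro v w
        refine Prod.ext ?_ rfl
        funext i
        rcases i with i | i | i <;> rfl
      map_smul' := by
        intro c w
        refine Prod.ext ?_ rfl
        funext i
        rcases i with i | i | i <;> rfl }
    (by
      apply LinearMap.ext
      intro w
      funext i
      rcases i with i | i | i
      · rfl
      · refine Fin.cases ?_ (fun j => ?_) i <;> rfl
      · refine Fin.cases ?_ (fun j => ?_) i <;> rfl)
    (by
      apply LinearMap.ext
      rintro ⟨v, x, y⟩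
      refine Prod.ext ?_ rfl
      funext i
      rcases i with i | i | i <;> rfl)

theorem quadFormOdd_snoc {F : Type u} [Field F] (k : ℕ) (v : (Unit ⊕ (Fin k ⊕ Fin k) → F)) (x y : F) :
    Cfsg.quadFormOdd (k + 1) F (snocEquiv F k (v, x, y)) = Cfsg.quadFormOdd k F v + x * y := by
  unfold Cfsg.quadFormOdd
  rw [Fin.sum_univ_succ]
  have h1 : snocEquiv F k (v, x, y) (Sum.inl ()) = v (Sum.inl ()) := rfl
  have h2 : snocEquiv F k (v, x, y) (Sum.inr (Sum.inl 0)) = x := rfl
  have h3 : snocEquiv F k (v, x, y) (Sum.inr (Sum.inr 0)) = y := rfl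
  have h4 : ∀ i, snocEquiv F k (v, x, y) (Sum.inr (Sum.inl (Fin.succ i))) = v (Sum.inr (Sum.inl i)) := fun i => rfl
  have h5 : ∀ i, snocEquiv F k (v, x, y) (Sum.inr (Sum.inr (Fin.succ i))) = v (Sum.inr (Sum.inr i)) := fun i => rfl
  rw [h1, h2, h3]
  simp only [h4, h5]
  ring

/-- the tower contains the standard odd form -/
theorem exists_isTw (F : Type u) [Field F] (k : ℕ) :
    ∃ (V : Type u) (_ : AddCommGroup V) (_ : Module F V) (Q : QuadraticForm F V)
      (e : V ≃ₗ[F] (Unit ⊕ (Fin k ⊕ Fin k) → F)), IsTw F k V Q ∧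
        ∀ v, Cfsg.quadFormOdd k F (e v) = Q v := by
  induction k with
  | zero =>
    let _ : Unique (Unit ⊕ (Fin 0 ⊕ Fin 0)) :=
      { default := Sum.inl ()
        uniq := by
          rintro (i | i | i)
          · rfl
          · exact i.elim0
          · exact i.elim0 }
    refine ⟨F, inferInstance, inferInstance, QuadraticMap.sq,
      (LinearEquiv.funUnique (Unit ⊕ (Fin 0 ⊕ Fin 0)) F F).symm, IsTw.base, ?_⟩
    intro v
    have h1 : ∀ i, (LinearEquiv.funUnique (Unit ⊕ (Fin 0 ⊕ Fin 0)) F F).symm v i = v := fun i => rfl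
    unfold Cfsg.quadFormOdd
    rw [h1]
    simp [pow_two]
  | succ k ih =>
    obtain ⟨V, _, _, Q, e, h, he⟩ := ih
    refine ⟨V × F × F, inferInstance, inferInstance, hypSum Q,
      (LinearEquiv.prodCongr e (LinearEquiv.refl F (F × F))).trans (snocEquiv F k), h.step, ?_⟩
    rintro ⟨v, x, y⟩
    have h1 : ((LinearEquiv.prodCongr e (LinearEquiv.refl F (F × F))).trans (snocEquiv F k)) (v, x, y) =
      snocEquiv F k (e v, x, y) := rfl
    rw [h1, quadFormOdd_snoc, he, hypSum_apply]

end Cfsg.Agent.H117
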