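import Cfsg.Agent.H117.SN
import Cfsg.Agent.H117.Tw

/-!
# Perfectness and membership criteria
-/

set_option autoImplicit false

namespace Cfsg.Agent.H117

open QuadraticMap Cfsg.Agent.LieClassical.OrthCore Cfsg.Agent.LieClassical.OrthTrans
open Cfsg.Agent.LieClassical.OrthCount (hypSum hypSum_apply polar_hypSum)
open scoped commutatorElement

section Perf

variable {F W : Type*} [Field F] [AddCommGroup W] [Module F W] {Q : QuadraticForm F W}

theorem siegel_smul {u w : W} (hu : Q u = 0) (hw : polar Q u w = 0) (c : F) (hu' : Q (c • u) = 0)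
    (hw' : polar Q (c • u) w = 0) (hw'' : polar Q u (c • w) = 0) :
    siegel Q (c • u) w hu' hw' = siegel Q u (c • w) hu hw'' := by
  ext v
  rw [siegel_apply, siegel_apply, polar_smul_left, polar_smul_left, QuadraticMap.map_smul]
  simp only [smul_eq_mul]
  module

theorem siegel_add_smul {u w : W} (hu : Q u = 0) (hw : polar Q u w = 0) (c : F)
    (hw' : polar Q u (w + c • u) = 0) : siegel Q u (w + c • u) hu hw' = siegel Q u w hu hw := by
  ext v
  have h1 : polar Q w u = 0 := by rw [polar_comm]; exact hw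
  rw [siegel_apply, siegel_apply, polar_add_left, polar_smul_left, Q_add, QuadraticMap.map_smul,
    polar_smul_right, hu, h1]
  simp only [smul_eq_mul]
  module

/-- `E` is perfect -/
theorem E_perf [Fintype F] (h2 : (2 : F) ≠ 0) (hq : 5 ≤ Fintype.card F) [FiniteDimensional F W]
    (hQ : Nondeg Q) {w0 : W} (h0 : Q w0 ≠ 0) : E (hypSum Q) ≤ ⁅E (hypSum Q), E (hypSum Q)⁆ := by
  classical
  -- a unit with `a ^ 2 ≠ 1`
  obtain ⟨a, ha⟩ : ∃ a : Fˣ, (a : F) ^ 2 ≠ 1 := by
    by_contra hc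
    push Not at hc
    have h1 : (Finset.univ : Finset F) ⊆ {0, 1, -1} := by
      intro x _
      by_cases hx : x = 0
      · rw [hx]; simp
      · have h3 := hc (Units.mk0 x hx)
        have h4 : x ^ 2 = 1 ^ 2 := by rw [one_pow]; exact h3
        rcases sq_eq_sq_iff_eq_or_eq_neg.1 h4 with h3 | h3 <;> rw [h3] <;> simp
    have h3 := Finset.card_le_card h1
    have h4 : ({0, 1, -1} : Finset F).card ≤ 3 := Finset.card_le_three
    rw [Finset.card_univ] at h3
    omega
  have hQ' : Nondeg (hypSum Q) := nondeg_hypSum hQ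
  nth_rewrite 1 [E]
  rw [Subgroup.closure_le]
  rintro _ ⟨u, w, hu, hw, rfl⟩
  by_cases hu0 : u = 0
  · subst hu0
    have : siegel (hypSum Q) 0 w hu hw = 1 := by
      ext v
      · rw [siegel_apply]; simp
      · rw [siegel_apply]; simp
      · rw [siegel_apply]; simp
    rw [this]
    exact Subgroup.one_mem _
  obtain ⟨y, hy⟩ := exists_hyp hQ' hu hu0
  -- make `w` orthogonal to `y`
  set w' := w + (-(polar (hypSum Q) y w)) • u with hw'
  have hw1 : polar (hypSum Q) u w' = 0 := by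
    rw [hw', polar_add_right, polar_smul_right, polar_self_of_sing hu, hw]
    simp
  have hw2 : polar (hypSum Q) y w' = 0 := by
    rw [hw', polar_add_right, polar_smul_right, hy.pair']
    simp
  have e1 : siegel (hypSum Q) u w hu hw = siegel (hypSum Q) u w' hu hw1 :=
    (siegel_add_smul hu hw _ hw1).symm
  rw [e1]
  obtain ⟨g, hg, g1, g2⟩ := SO_to_hyp h2 hQ h0 hy
  have hgO := SO_le_O hg
  -- the torus element
  set t := g⁻¹ * io (a ^ 2) 1 * g with ht
  have htE : t ∈ E (hypSum Q) := by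
    have := conj_mem_E (Q := hypSum Q) (g := g⁻¹) ((O _).inv_mem hgO) (io_sq_mem h0 a)
    rwa [inv_inv] at this
  have hgi : ∀ x, g⁻¹ (g x) = x := fun x => LinearEquiv.symm_apply_apply g x
  have ht1 : t u = ((a : F) ^ 2) • u := by
    rw [ht, LinearEquiv.mul_apply, LinearEquiv.mul_apply, g1]
    have h3 : io (a ^ 2) (1 : W ≃ₗ[F] W) (e0 F W) = ((a : F) ^ 2) • e0 F W := by
      rw [smul_e0, e0, io_apply]
      simp
    rw [h3, map_smul, ← g1, hgi]
  have ht2 : ∀ x, polar (hypSum Q) u x = 0 → polar (hypSum Q) y x = 0 → t x = x := by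
    intro x hx hx'
    rw [ht, LinearEquiv.mul_apply, LinearEquiv.mul_apply]
    have h3 : io (a ^ 2) (1 : W ≃ₗ[F] W) (g x) = g x := by
      rw [← polar_map hgO, g1, polar_hypSum] at hx
      rw [← polar_map hgO, g2, polar_hypSum] at hx'
      generalize g x = z at hx hx' ⊢
      obtain ⟨x1, x2, x3⟩ := z
      simp only [e0, polar_zero_left] at hx
      simp only [f0, polar_zero_left] at hx'
      have e3 : x3 = 0 := by simpa using hx
      have e2 : x2 = 0 := by simpa using hx'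
      rw [e3, e2, io_apply]
      simp
    rw [h3, hgi]
  -- the preimage
  have hd : (a : F) ^ 2 - 1 ≠ 0 := sub_ne_zero.2 ha
  set d : F := ((a : F) ^ 2 - 1)⁻¹ with hdd
  have hs1 : polar (hypSum Q) u (d • w') = 0 := by rw [polar_smul_right, hw1, smul_zero]
  have hs2 : polar (hypSum Q) y (d • w') = 0 := by rw [polar_smul_right, hw2, smul_zero]
  have hs3 : polar (hypSum Q) u (-(d • w')) = 0 := by rw [polar_neg_right, hs1, neg_zero]
  have hs4 : polar (hypSum Q) u ((a : F) ^ 2 • (d • w')) = 0 := by rw [polar_smul_right, hs1, smul_zero]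
  have hmem : ⁅t, siegel (hypSum Q) u (d • w') hu hs1⁆ ∈ ⁅E (hypSum Q), E (hypSum Q)⁆ :=
    Subgroup.commutator_mem_commutator htE (siegel_mem_E _ _)
  have hu1 : hypSum Q (t u) = 0 := by rw [mem_O.1 (E_le_O htE), hu]
  have hs5 : polar (hypSum Q) (t u) (t (d • w')) = 0 := by rw [polar_map (E_le_O htE), hs1]
  have e2 : ⁅t, siegel (hypSum Q) u (d • w') hu hs1⁆ = siegel (hypSum Q) u w' hu hw1 := by
    rw [commutatorElement_def, siegel_conj (E_le_O htE) hu hs1 hu1 hs5, siegel_inv hu hs1 hs3]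
    have e3 : siegel (hypSum Q) (t u) (t (d • w')) hu1 hs5 =
        siegel (hypSum Q) u ((a : F) ^ 2 • (d • w')) hu hs4 := by
      have hu2 : hypSum Q ((a : F) ^ 2 • u) = 0 := by rw [QuadraticMap.map_smul, hu, smul_zero]
      have hs6 : polar (hypSum Q) ((a : F) ^ 2 • u) (d • w') = 0 := by
        rw [polar_smul_left, hs1, smul_zero]
      rw [← siegel_smul hu hs1 ((a : F) ^ 2) hu2 hs6 hs4]
      apply LinearEquiv.ext
      intro v
      rw [siegel_apply, siegel_apply, ht1, ht2 _ hs1 hs2]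
    rw [e3]
    have hs7 : polar (hypSum Q) u ((a : F) ^ 2 • (d • w') + -(d • w')) = 0 := by
      rw [polar_add_right, hs4, hs3, add_zero]
    rw [siegel_mul hu hs4 hs3 hs7]
    have e4 : (a : F) ^ 2 • (d • w') + -(d • w') = w' := by
      rw [← sub_eq_add_neg, smul_smul, ← sub_smul]
      have : (a : F) ^ 2 * d - d = 1 := by
        rw [hdd]
        field_simp
      rw [this, one_smul]
    apply LinearEquiv.ext
    intro v
    rw [siegel_apply, siegel_apply, e4]
  rw [SetLike.mem_coe, ← e2]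
  exact hmem

end Perf

section Mem

variable {F W : Type*} [Field F] [AddCommGroup W] [Module F W] [Fintype F] {Q : QuadraticForm F W}

/-- membership of the smaller torus element implies that the parameter is a square -/
theorem isSquare_of_io_io (h2 : (2 : F) ≠ 0) {k : ℕ} (hT : TF (k + 1) Q) {c : Fˣ}
    (hc : io 1 (io c (1 : W ≃ₗ[F] W)) ∈ E (hypSum (hypSum Q))) : IsSquare (c : F) := by
  have hfd := hT.fd
  have hT1 := hT.step h2
  have hT2 := hT1.step h2
  have h1 : io c (1 : (W × F × F) ≃ₗ[F] (W × F × F)) ∈ E (hypSum (hypSum Q)) := by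
    have h3 := (E _).mul_mem (zz_mem Q c) ((E _).inv_mem hc)
    rw [io_inv, io_inv, io_mul, io_mul, inv_one, inv_one, mul_one, mul_inv_cancel, mul_one, io_one] at h3
    exact h3
  refine isSquare_of_io_mem h2 hT2.nondeg ?_ h1
  rw [hT2.rank]
  omega

theorem mem_E_of_io (h2 : (2 : F) ≠ 0) {k : ℕ} (hT : TF (k + 1) Q)
    {s : (W × F × F) ≃ₗ[F] (W × F × F)} (hs : s ∈ SO (hypSum Q)) (h : io 1 s ∈ E (hypSum (hypSum Q))) :
    s ∈ E (hypSum Q) := by
  have hfd := hT.fd
  obtain ⟨w0, hw0⟩ := hT.ns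
  have hne : Q w0 ≠ 0 := by rw [hw0]; exact one_ne_zero
  obtain ⟨e, he, c, rfl⟩ := SO_decomp h2 hT.nondeg hne hT.dd hs
  have h1 : io 1 (io c (1 : W ≃ₗ[F] W)) ∈ E (hypSum (hypSum Q)) := by
    have h3 := (E _).mul_mem ((E _).inv_mem (io_mem_E he)) h
    rw [io_inv, io_mul, inv_one, mul_one, inv_mul_cancel_left] at h3
    exact h3
  obtain ⟨d, hd⟩ := isSquare_of_io_io h2 hT h1
  have hd0 : d ≠ 0 := by
    rintro rfl
    rw [mul_zero] at hd
    exact c.ne_zero hd
  have hc : c = (Units.mk0 d hd0) ^ 2 := by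
    apply Units.ext
    rw [hd, Units.val_pow_eq_pow_val, Units.val_mk0, pow_two]
  rw [hc]
  exact (E _).mul_mem he (io_sq_mem hne _)

/-- one level deeper -/
theorem mem_E_of_io' (h2 : (2 : F) ≠ 0) {k : ℕ} (hT : TF k Q)
    {s : (W × F × F) ≃ₗ[F] (W × F × F)} (hs : s ∈ SO (hypSum Q))
    (h : io 1 s ∈ E (hypSum (hypSum Q))) : s ∈ E (hypSum Q) := by
  have hfd := hT.fd
  have hT1 := hT.step h2
  obtain ⟨w0, hw0⟩ := hT.ns
  have hne : Q w0 ≠ 0 := by rw [hw0]; exact one_ne_zero
  obtain ⟨e, he, c, rfl⟩ := SO_decomp h2 hT.nondeg hne hT.dd hs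
  have h1 : io 1 (io c (1 : W ≃ₗ[F] W)) ∈ E (hypSum (hypSum Q)) := by
    have h3 := (E _).mul_mem ((E _).inv_mem (io_mem_E he)) h
    rw [io_inv, io_mul, inv_one, mul_one, inv_mul_cancel_left] at h3
    exact h3
  -- move to the next level
  have h4 : io 1 (io c (1 : (W × F × F) ≃ₗ[F] (W × F × F))) ∈ E (hypSum (hypSum (hypSum Q))) := by
    have h5 : io 1 (io 1 (io c (1 : W ≃ₗ[F] W))) ∈ E (hypSum (hypSum (hypSum Q))) := io_mem_E h1
    have h6 : io 1 (io c (io c⁻¹ (1 : W ≃ₗ[F] W))) ∈ E (hypSum (hypSum (hypSum Q))) :=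
      io_mem_E (hh_mem Q c)
    have h7 := (E _).mul_mem h6 h5
    rw [io_mul, io_mul, io_mul, mul_one, mul_one, mul_one, inv_mul_cancel, io_one] at h7
    exact h7
  obtain ⟨d, hd⟩ := isSquare_of_io_io h2 hT1 h4
  have hd0 : d ≠ 0 := by
    rintro rfl
    rw [mul_zero] at hd
    exact c.ne_zero hd
  have hc : c = (Units.mk0 d hd0) ^ 2 := by
    apply Units.ext
    rw [hd, Units.val_pow_eq_pow_val, Units.val_mk0, pow_two]
  rw [hc]
  exact (E _).mul_mem he (io_sq_mem hne _)

end Mem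

end Cfsg.Agent.H117
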