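import Cfsg.Agent.H117.Hyp
import Cfsg.Agent.FooteOrth.Spin

/-!
# The spinor norm of `io a 1`
-/

set_option autoImplicit false

namespace Cfsg.Agent.H117

open QuadraticMap Cfsg.Agent.LieClassical.OrthCore Cfsg.Agent.LieClassical.OrthTrans
open Cfsg.Agent.LieClassical.OrthCount (hypSum hypSum_apply polar_hypSum)

section Transport

variable {F V V' : Type*} [Field F] [AddCommGroup V] [Module F V] [AddCommGroup V'] [Module F V']

/-- transport of automorphisms -/
def ce (e : V ≃ₗ[F] V') : (V ≃ₗ[F] V) ≃* (V' ≃ₗ[F] V') where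
  toFun g := (e.symm.trans g).trans e
  invFun g := (e.trans g).trans e.symm
  left_inv g := by
    ext x
    simp
  right_inv g := by
    ext x
    simp
  map_mul' g h := by
    ext x
    simp

theorem ce_apply (e : V ≃ₗ[F] V') (g : V ≃ₗ[F] V) (v : V) : ce e g (e v) = e (g v) := by
  show e (g (e.symm (e v))) = e (g v)
  rw [LinearEquiv.symm_apply_apply]

theorem ce_eq (e : V ≃ₗ[F] V') {g : V ≃ₗ[F] V} {g' : V' ≃ₗ[F] V'} (h : ∀ v, e (g v) = g' (e v)) :
    ce e g = g' := by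
  apply LinearEquiv.ext
  intro x
  obtain ⟨v, rfl⟩ := e.surjective x
  rw [ce_apply, h]

variable {Q : QuadraticForm F V} {Q' : QuadraticForm F V'} {e : V ≃ₗ[F] V'}

theorem polar_e (he : ∀ v, Q' (e v) = Q v) (u v : V) : polar Q' (e u) (e v) = polar Q u v := by
  simp only [polar, ← map_add, he]

theorem ce_siegel (he : ∀ v, Q' (e v) = Q v) {u w : V} (hu : Q u = 0) (hw : polar Q u w = 0)
    (hu' : Q' (e u) = 0) (hw' : polar Q' (e u) (e w) = 0) :
    ce e (siegel Q u w hu hw) = siegel Q' (e u) (e w) hu' hw' := by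
  apply ce_eq
  intro v
  rw [siegel_apply, siegel_apply, polar_e he, polar_e he, he]
  simp only [map_add, map_sub, map_smul]

theorem ce_refl (he : ∀ v, Q' (e v) = Q v) {v : V} (hv : Q v ≠ 0) (hv' : Q' (e v) ≠ 0) :
    ce e (refl Q v hv) = refl Q' (e v) hv' := by
  apply ce_eq
  intro x
  rw [refl_apply, refl_apply, polar_e he, he]
  simp only [map_sub, map_smul]

theorem ce_mem_E (he : ∀ v, Q' (e v) = Q v) {g : V ≃ₗ[F] V} (hg : g ∈ E Q) : ce e g ∈ E Q' := by
  induction hg using Subgroup.closure_induction with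
  | mem x hx =>
    obtain ⟨u, w, hu, hw, rfl⟩ := hx
    rw [ce_siegel he hu hw (by rw [he, hu]) (by rw [polar_e he, hw])]
    exact siegel_mem_E _ _
  | one => rw [map_one]; exact Subgroup.one_mem _
  | mul x y _ _ hx hy => rw [map_mul]; exact (E Q').mul_mem hx hy
  | inv x _ hx => rw [map_inv]; exact (E Q').inv_mem hx

theorem map_E (he : ∀ v, Q' (e v) = Q v) : (E Q).map (ce e).toMonoidHom = E Q' := by
  apply le_antisymm
  · rintro _ ⟨g, hg, rfl⟩
    exact ce_mem_E he hg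
  · intro g hg
    refine ⟨(ce e).symm g, ?_, (ce e).apply_symm_apply g⟩
    have he' : ∀ v, Q (e.symm v) = Q' v := fun v => by rw [← he, LinearEquiv.apply_symm_apply]
    have h1 := ce_mem_E he' hg
    have h2 : (ce e).symm g = ce e.symm g := rfl
    rw [SetLike.mem_coe, h2]
    exact h1

theorem nondeg_e (he : ∀ v, Q' (e v) = Q v) (h : Nondeg Q) : Nondeg Q' := by
  intro x hx
  obtain ⟨v, rfl⟩ := e.surjective x
  rw [h v fun y => by rw [← polar_e he]; exact hx _, map_zero]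

end Transport

section

variable {F A : Type*} [Field F] [AddCommGroup A] [Module F A] {Q : QuadraticForm F A}

/-- `io a⁻¹ 1` is a product of two reflections -/
theorem io_eq_refl (a : Fˣ) (h1 : hypSum Q ((0, 1, -1) : A × F × F) ≠ 0)
    (h2 : hypSum Q ((0, 1, -(a : F)) : A × F × F) ≠ 0) :
    io a⁻¹ (1 : A ≃ₗ[F] A) = refl (hypSum Q) (0, 1, -(a : F)) h2 * refl (hypSum Q) (0, 1, -1) h1 := by
  have ha : (a : F) ≠ 0 := a.ne_zero
  apply LinearEquiv.ext
  rintro ⟨w, x, y⟩
  rw [LinearEquiv.mul_apply, refl_apply, refl_apply, io_apply]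
  simp only [polar_hypSum, hypSum_apply]
  ext
  · simp
  · simp
    field_simp
    ring
  · simp
    field_simp
    ring

theorem isSquare_of_io_mem [Finite F] [FiniteDimensional F A] (h2 : (2 : F) ≠ 0) (hQ : Nondeg (hypSum Q))
    (hd : 5 ≤ Module.finrank F (A × F × F)) {a : Fˣ} (ha : io a (1 : A ≃ₗ[F] A) ∈ E (hypSum Q)) :
    IsSquare (a : F) := by
  classical
  have := Fintype.ofFinite F
  obtain ⟨d, hdd⟩ : ∃ d, Module.finrank F (A × F × F) = d := ⟨_, rfl⟩
  let e : (A × F × F) ≃ₗ[F] (Fin d → F) := (Module.finBasisOfFinrankEq F (A × F × F) hdd).equivFun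
  let Q' : QuadraticForm F (Fin d → F) := (hypSum Q).comp e.symm.toLinearMap
  have he : ∀ v, Q' (e v) = hypSum Q v := by
    intro v
    show hypSum Q (e.symm (e v)) = _
    rw [LinearEquiv.symm_apply_apply]
  have hQ' : Nondeg Q' := nondeg_e he hQ
  have hG : Good Q' := by
    apply Cfsg.Agent.LieClassical.OrthFinite.good_of_finite hQ'
    rw [Module.finrank_fin_fun, ← hdd]
    exact hd
  have hv1 : hypSum Q ((0, 1, -1) : A × F × F) = -1 := by rw [hypSum_apply]; simp
  have hv2 : hypSum Q ((0, 1, -(a : F)) : A × F × F) = -(a : F) := by rw [hypSum_apply]; simp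
  have hn1 : hypSum Q ((0, 1, -1) : A × F × F) ≠ 0 := by
    rw [hv1]
    exact neg_ne_zero.2 one_ne_zero
  have hn2 : hypSum Q ((0, 1, -(a : F)) : A × F × F) ≠ 0 := by
    rw [hv2]
    exact neg_ne_zero.2 a.ne_zero
  have h3 : io a⁻¹ (1 : A ≃ₗ[F] A) ∈ E (hypSum Q) := by
    have := (E _).inv_mem ha
    rwa [io_inv, inv_one] at this
  have h4 := ce_mem_E he h3
  have hn1' : Q' (e (0, 1, -1)) ≠ 0 := by rw [he]; exact hn1
  have hn2' : Q' (e (0, 1, -(a : F))) ≠ 0 := by rw [he]; exact hn2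
  rw [io_eq_refl a hn1 hn2, map_mul, ce_refl he hn2 hn2', ce_refl he hn1 hn1'] at h4
  have h5 := ((Cfsg.Agent.FooteOrth.mem_E_iff hG h2 (E_le_O h4)).1 h4).2
  have h6 : (⟨refl Q' (e (0, 1, -(a : F))) hn2' * refl Q' (e (0, 1, -1)) hn1', E_le_O h4⟩ : O Q') =
      ⟨refl Q' (e (0, 1, -(a : F))) hn2', refl_mem_O hn2'⟩ * ⟨refl Q' (e (0, 1, -1)) hn1', refl_mem_O hn1'⟩ :=
    rfl
  rw [h6, map_mul, Cfsg.Agent.FooteOrth.sg_refl h2, Cfsg.Agent.FooteOrth.sg_refl h2] at h5
  have h7 : Q' (e (0, 1, -(a : F))) = -(a : F) := by rw [he, hv2]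
  have h8 : Q' (e (0, 1, -1)) = -1 := by rw [he, hv1]
  simp only [h7, h8] at h5
  have ha0 : (a : F) ≠ 0 := a.ne_zero
  have h9 : (a : F) = -(a : F) * -1 := by ring
  by_cases hs1 : IsSquare (-(a : F))
  · by_cases hs2 : IsSquare (-1 : F)
    · rw [h9]
      exact hs1.mul hs2
    · rw [if_pos hs1, if_neg hs2] at h5
      exact absurd h5 (by decide)
  · by_cases hs2 : IsSquare (-1 : F)
    · rw [if_neg hs1, if_pos hs2] at h5
      exact absurd h5 (by decide)
    · rw [← quadraticChar_one_iff_isSquare ha0, h9, map_mul,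
        quadraticChar_neg_one_iff_not_isSquare.2 hs1, quadraticChar_neg_one_iff_not_isSquare.2 hs2]
      rfl

end

end Cfsg.Agent.H117
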