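import Cfsg.Agent.H117.Theta
import Cfsg.Agent.H117.Tw

/-!
# Equivariant systems of weight vectors
-/

set_option autoImplicit false

universe u v

namespace Cfsg.Agent.H117

open QuadraticMap Cfsg.Agent.LieClassical.OrthCore Cfsg.Agent.LieClassical.OrthTrans Module
open Cfsg.Agent.LieClassical.OrthCount (hypSum hypSum_apply polar_hypSum)

section

variable {F W : Type*} [Field F] [AddCommGroup W] [Module F W] {Q : QuadraticForm F W}
  {V : Type*} [AddCommGroup V] [Module ℂ V]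

/-- an equivariant choice of weight vectors for the singular weights, all other weights being absent -/
structure Sys (P : PRep (E (hypSum (hypSum Q))) V) (ψ : AddChar F ℂ) (b : W × F × F → V) (lam : Fˣ → ℂ) :
    Prop where
  mem : ∀ v, v ≠ 0 → hypSum Q v = 0 → b v ∈ wt (hypSum Q) ψ (TT P (hypSum Q)) v
  ne : ∀ v, v ≠ 0 → hypSum Q v = 0 → b v ≠ 0
  act : ∀ (a : Fˣ) (s : (W × F × F) ≃ₗ[F] (W × F × F)), s ∈ SO (hypSum Q) →
    io a s ∈ E (hypSum (hypSum Q)) → ∀ v, v ≠ 0 → hypSum Q v = 0 →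
    P.R (io a s) (b v) = lam a • b ((a : F)⁻¹ • s v)
  span : ∀ v, v ≠ 0 → hypSum Q v = 0 → ∀ x ∈ wt (hypSum Q) ψ (TT P (hypSum Q)) v, ∃ c : ℂ, x = c • b v
  none : ∀ v, hypSum Q v ≠ 0 → wt (hypSum Q) ψ (TT P (hypSum Q)) v = ⊥

/-- conjugation by the swap of the inner plane -/
noncomputable def kconj (P : PRep (E (hypSum (hypSum Q))) V) : PRep (E (hypSum (hypSum Q))) V where
  R g := P.R (io 1 (kap F W) * g * io 1 (kap F W))
  one := by
    rw [mul_one, io_mul, kap_mul_kap, mul_one, io_one, P.one]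
  mul g hg h hh := by
    have hk : ∀ g ∈ E (hypSum (hypSum Q)), io 1 (kap F W) * g * io 1 (kap F W) ∈ E (hypSum (hypSum Q)) := by
      intro g hg
      have := conj_mem_E (Q := hypSum (hypSum Q)) (g := io 1 (kap F W)) (io_mem_O.2 (kap_mem_O Q)) hg
      rwa [io_inv, inv_one, kap_inv] at this
    have h1 : io 1 (kap F W) * (g * h) * io 1 (kap F W) =
        (io 1 (kap F W) * g * io 1 (kap F W)) * (io 1 (kap F W) * h * io 1 (kap F W)) := by
      have h2 : io 1 (kap F W) * io 1 (kap F W) = 1 := by rw [io_mul, kap_mul_kap, mul_one, io_one]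
      calc io 1 (kap F W) * (g * h) * io 1 (kap F W)
          = io 1 (kap F W) * g * 1 * h * io 1 (kap F W) := by group
        _ = _ := by rw [← h2]; group
    rw [h1, P.mul _ (hk g hg) _ (hk h hh)]

theorem kconj_apply (P : PRep (E (hypSum (hypSum Q))) V) (g : ((W × F × F) × F × F) ≃ₗ[F] ((W × F × F) × F × F)) :
    (kconj P).R g = P.R (io 1 (kap F W) * g * io 1 (kap F W)) := rfl

theorem kk : io 1 (kap F W) * io 1 (kap F W) = 1 := by rw [io_mul, kap_mul_kap, mul_one, io_one]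

theorem kap_kap (v : W × F × F) : kap F W (kap F W v) = v := rfl

theorem TT_kconj (P : PRep (E (hypSum (hypSum Q))) V) (v : W × F × F) :
    TT (kconj P) (hypSum Q) v = TT P (hypSum Q) (kap F W v) := by
  have h := io_sE (kap_mem_O Q) 1 v
  rw [TT, TT, kconj_apply, h, mul_assoc, kk, mul_one, Units.val_one, one_smul]

theorem wt_kconj (P : PRep (E (hypSum (hypSum Q))) V) (ψ : AddChar F ℂ) (v : W × F × F) :
    wt (hypSum Q) ψ (TT (kconj P) (hypSum Q)) v = wt (hypSum Q) ψ (TT P (hypSum Q)) (kap F W v) := by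
  ext x
  rw [mem_wt, mem_wt]
  constructor
  · intro h a
    have := h (kap F W a)
    rw [TT_kconj, kap_kap] at this
    rw [this, ← polar_map (kap_mem_O Q) v (kap F W a), kap_kap]
  · intro h a
    have := h (kap F W a)
    rw [TT_kconj, this, polar_map (kap_mem_O Q)]

theorem kap_ne {v : W × F × F} (h : v ≠ 0) : kap F W v ≠ 0 := by
  intro h1
  apply h
  rw [← kap_kap v, h1, map_zero]

theorem Sys.kconj {P : PRep (E (hypSum (hypSum Q))) V} {ψ : AddChar F ℂ} {b : W × F × F → V}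
    {lam : Fˣ → ℂ} [FiniteDimensional F W] (h : Sys P ψ b lam) :
    Sys (kconj P) ψ (fun v => b (kap F W v)) lam := by
  have hO : ∀ v, hypSum Q (kap F W v) = hypSum Q v := mem_O.1 (kap_mem_O Q)
  refine ⟨?_, ?_, ?_, ?_, ?_⟩
  · intro v h0 h1
    rw [wt_kconj]
    exact h.mem _ (kap_ne h0) (by rw [hO, h1])
  · intro v h0 h1
    exact h.ne _ (kap_ne h0) (by rw [hO, h1])
  · intro a s hs hg v h0 h1
    have e1 : io 1 (kap F W) * io a s * io 1 (kap F W) = io a (kap F W * s * kap F W) := by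
      rw [io_mul, io_mul, one_mul, mul_one]
    have e2 : kap F W * s * kap F W = kap F W * s * (kap F W)⁻¹ := by rw [kap_inv]
    have hs' : kap F W * s * kap F W ∈ SO (hypSum Q) := by
      rw [e2, mem_SO]
      refine ⟨(O _).mul_mem ((O _).mul_mem (kap_mem_O Q) (SO_le_O hs)) ((O _).inv_mem (kap_mem_O Q)), ?_⟩
      rw [map_mul, map_mul, (mem_SO.1 hs).2, mul_one, ← map_mul, mul_inv_cancel, map_one]
    have hg' : io a (kap F W * s * kap F W) ∈ E (hypSum (hypSum Q)) := by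
      have := conj_mem_E (Q := hypSum (hypSum Q)) (g := io 1 (kap F W)) (io_mem_O.2 (kap_mem_O Q)) hg
      rw [io_inv, inv_one, kap_inv, e1] at this
      exact this
    rw [kconj_apply, e1, h.act a _ hs' hg' _ (kap_ne h0) (by rw [hO, h1])]
    simp only [LinearEquiv.mul_apply, kap_kap, map_smul]
  · intro v h0 h1 x hx
    rw [wt_kconj] at hx
    exact h.span _ (kap_ne h0) (by rw [hO, h1]) x hx
  · intro v h0
    rw [wt_kconj]
    exact h.none _ (by rw [hO]; exact h0)

/-! ### properties of a system -/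

theorem nS_io (a c : Fˣ) (s : W ≃ₗ[F] W) :
    nS F W * io c (io a s) = io a⁻¹ (io c⁻¹ s) * nS F W := by
  apply LinearEquiv.ext
  rintro ⟨⟨w, x, y⟩, x', y'⟩
  rw [LinearEquiv.mul_apply, LinearEquiv.mul_apply, io_apply, io_apply, nS_apply, nS_apply,
    io_apply, io_apply]
  ext <;> simp

theorem sing_e {c : F} : hypSum Q ((0, c, 0) : W × F × F) = 0 := by
  rw [hypSum_apply]; simp

theorem sing_f {c : F} : hypSum Q ((0, 0, c) : W × F × F) = 0 := by
  rw [hypSum_apply]; simp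

theorem ne_e {c : F} (hc : c ≠ 0) : ((0, c, 0) : W × F × F) ≠ 0 := by
  intro h
  exact hc (congrArg (fun z : W × F × F => z.2.1) h)

theorem ne_f {c : F} (hc : c ≠ 0) : ((0, 0, c) : W × F × F) ≠ 0 := by
  intro h
  exact hc (congrArg (fun z : W × F × F => z.2.2) h)

theorem Sys.act_one {P : PRep (E (hypSum (hypSum Q))) V} {ψ : AddChar F ℂ} {b : W × F × F → V}
    {lam : Fˣ → ℂ} [FiniteDimensional F W] (h : Sys P ψ b lam) : lam 1 = 1 := by
  have h1 := h.act 1 1 (SO _).one_mem (by rw [io_one]; exact (E _).one_mem) (0, 1, 0)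
    (ne_e one_ne_zero) sing_e
  rw [io_one, P.one'] at h1
  have h2 : (((1 : Fˣ) : F)⁻¹ • (1 : (W × F × F) ≃ₗ[F] (W × F × F)) ((0, 1, 0) : W × F × F)) = (0, 1, 0) := by
    simp
  rw [h2] at h1
  have h3 : (lam 1 - 1) • b (0, 1, 0) = 0 := by rw [sub_smul, ← h1, one_smul, sub_self]
  rcases smul_eq_zero.1 h3 with h4 | h4
  · exact sub_eq_zero.1 h4
  · exact absurd h4 (h.ne _ (ne_e one_ne_zero) sing_e)

theorem Sys.act_E {P : PRep (E (hypSum (hypSum Q))) V} {ψ : AddChar F ℂ} {b : W × F × F → V}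
    {lam : Fˣ → ℂ} [Finite F] [FiniteDimensional F W] (h : Sys P ψ b lam)
    {s : (W × F × F) ≃ₗ[F] (W × F × F)} (hs : s ∈ E (hypSum Q)) {v : W × F × F} (h0 : v ≠ 0)
    (h1 : hypSum Q v = 0) : P.R (io 1 s) (b v) = b (s v) := by
  rw [h.act 1 s (E_le_SO hs) (io_mem_E hs) v h0 h1, h.act_one]
  simp

end

end Cfsg.Agent.H117
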