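import Cfsg.Agent.H117.Perf
import Cfsg.Agent.H117.Sys

/-!
# The stabiliser of a singular weight acts trivially on a one-dimensional weight space
-/

set_option autoImplicit false

namespace Cfsg.Agent.H117

open QuadraticMap Cfsg.Agent.LieClassical.OrthCore Cfsg.Agent.LieClassical.OrthTrans Module
open Cfsg.Agent.LieClassical.OrthCount (hypSum hypSum_apply polar_hypSum)
open scoped commutatorElement

theorem exists_unit_sq_ne {F : Type*} [Field F] [Fintype F] (hq : 5 ≤ Fintype.card F) :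
    ∃ a : Fˣ, (a : F) ^ 2 ≠ 1 := by
  classical
  by_contra hc
  push Not at hc
  have h1 : (Finset.univ : Finset F) ⊆ {0, 1, -1} := by
    intro x _
    by_cases hx : x = 0
    · rw [hx]; simp
    · have h3 := hc (Units.mk0 x hx)
      have h4 : x ^ 2 = 1 ^ 2 := by rw [one_pow]; exact h3
      rcases sq_eq_sq_iff_eq_or_eq_neg.1 h4 with h3 | h3 <;> rw [h3] <;> simp
  have h3 := Finset.card_le_card h1
  have h4 : ({0, 1, -1} : Finset F).card ≤ 3 := Finset.card_le_three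
  rw [Finset.card_univ] at h3
  omega

section

variable {F W' : Type*} [Field F] [AddCommGroup W'] [Module F W'] [Fintype F] {Q' : QuadraticForm F W'}
  {V : Type*} [AddCommGroup V] [Module ℂ V] (P : PRep (E (hypSum (hypSum (hypSum Q')))) V)
  {ψ : AddChar F ℂ} {b0 : V}

theorem stab_scalar (h1 : ∀ x ∈ wt (hypSum (hypSum Q')) ψ (TT P (hypSum (hypSum Q'))) (0, 1, 0), ∃ c : ℂ, x = c • b0)
    (hb : b0 ∈ wt (hypSum (hypSum Q')) ψ (TT P (hypSum (hypSum Q'))) (0, 1, 0)) (hb0 : b0 ≠ 0) {a : Fˣ}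
    {s : ((W' × F × F) × F × F) ≃ₗ[F] ((W' × F × F) × F × F)} (hs : s ∈ O (hypSum (hypSum Q')))
    (hg : io a s ∈ E (hypSum (hypSum (hypSum Q')))) (he : (a : F)⁻¹ • s (0, 1, 0) = (0, 1, 0)) :
    ∃ c : ℂ, c ≠ 0 ∧ P.R (io a s) b0 = c • b0 := by
  have h2 := io_wt P le_rfl hs hg hb
  rw [he] at h2
  obtain ⟨c, hc⟩ := h1 _ h2
  refine ⟨c, ?_, hc⟩
  rintro rfl
  rw [zero_smul] at hc
  exact P.ne_zero hg hb0 hc

theorem sE_fix (hq : 5 ≤ Fintype.card F)
    (h1 : ∀ x ∈ wt (hypSum (hypSum Q')) ψ (TT P (hypSum (hypSum Q'))) (0, 1, 0), ∃ c : ℂ, x = c • b0)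
    (hb : b0 ∈ wt (hypSum (hypSum Q')) ψ (TT P (hypSum (hypSum Q'))) (0, 1, 0)) (hb0 : b0 ≠ 0)
    (w : W' × F × F) : P.R (io 1 (sE (hypSum Q') w)) b0 = b0 := by
  obtain ⟨a, ha⟩ := exists_unit_sq_ne hq
  have ha1 : (a : F) - 1 ≠ 0 := by
    intro h
    apply ha
    rw [sub_eq_zero.1 h, one_pow]
  set w1 : W' × F × F := ((a : F) - 1)⁻¹ • w with hw1
  have e0 : (a : F) • w1 = w + w1 := by
    rw [hw1, smul_smul]
    have : (a : F) * ((a : F) - 1)⁻¹ = 1 + ((a : F) - 1)⁻¹ := by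
      field_simp
      ring
    rw [this, add_smul, one_smul]
  have hz := zz_mem (hypSum Q') a
  have hs := fun w => io_mem_E (sE_mem (hypSum Q') w)
  have he : ∀ w : W' × F × F, (((1 : Fˣ) : F))⁻¹ • sE (hypSum Q') w (0, 1, 0) = (0, 1, 0) := by
    intro w
    rw [sE_apply]
    simp
  have he' : (a : F)⁻¹ • io a (1 : (W' × F × F) ≃ₗ[F] (W' × F × F)) (0, 1, 0) = (0, 1, 0) := by
    rw [io_apply]
    simp
  obtain ⟨c1, hc1, e1⟩ := stab_scalar P h1 hb hb0 (E_le_O (sE_mem (hypSum Q') w1)) (hs w1) (he w1)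
  obtain ⟨c2, hc2, e2⟩ := stab_scalar P h1 hb hb0 (io_mem_O.2 (O _).one_mem) hz he'
  have e3 : io a (io a 1) * io 1 (sE (hypSum Q') w1) =
      io 1 (sE (hypSum Q') ((a : F) • w1)) * io a (io a 1) := by
    rw [io_mul, io_mul, io_sE (O _).one_mem]
    simp
  have e4 := P.swap hz (hs w1) (hs _) hz e3 b0
  rw [e1, e2, map_smul, map_smul, e2, e0, sE_add] at e4
  have e5 : io 1 (sE (hypSum Q') w * sE (hypSum Q') w1) =
      io 1 (sE (hypSum Q') w) * io 1 (sE (hypSum Q') w1) := by rw [io_mul, mul_one]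
  rw [e5, P.mul' (hs _) (hs _), e1, map_smul, smul_smul, smul_smul, mul_comm c2 c1] at e4
  have h3 := smul_right_injective V (mul_ne_zero hc1 hc2) e4
  exact h3.symm

theorem EW_fix (h2 : (2 : F) ≠ 0) (hq : 5 ≤ Fintype.card F) {k : ℕ} (hT : TF k Q')
    (h1 : ∀ x ∈ wt (hypSum (hypSum Q')) ψ (TT P (hypSum (hypSum Q'))) (0, 1, 0), ∃ c : ℂ, x = c • b0)
    (hb : b0 ∈ wt (hypSum (hypSum Q')) ψ (TT P (hypSum (hypSum Q'))) (0, 1, 0)) (hb0 : b0 ≠ 0)
    {x : (W' × F × F) ≃ₗ[F] (W' × F × F)} (hx : x ∈ E (hypSum Q')) : P.R (io 1 (io 1 x)) b0 = b0 := by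
  have hfd := hT.fd
  obtain ⟨w0, hw0⟩ := hT.ns
  have hne : Q' w0 ≠ 0 := by rw [hw0]; exact one_ne_zero
  have hG : ∀ x : (W' × F × F) ≃ₗ[F] (W' × F × F), x ∈ E (hypSum Q') →
      io 1 (io 1 x) ∈ E (hypSum (hypSum (hypSum Q'))) := fun x hx => io_mem_E (io_mem_E hx)
  have hmul : ∀ x y : (W' × F × F) ≃ₗ[F] (W' × F × F), io 1 (io 1 (x * y)) = io 1 (io 1 x) * io 1 (io 1 y) := by
    intro x y
    rw [io_mul, io_mul, mul_one]
  have hinv : ∀ x : (W' × F × F) ≃ₗ[F] (W' × F × F), io 1 (io 1 x⁻¹) = (io 1 (io 1 x))⁻¹ := by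
    intro x
    rw [io_inv, io_inv, inv_one]
  let K : Subgroup ((W' × F × F) ≃ₗ[F] (W' × F × F)) :=
    { carrier := {x | x ∈ E (hypSum Q') ∧ P.R (io 1 (io 1 x)) b0 = b0}
      mul_mem' := by
        rintro x y ⟨hx, hx'⟩ ⟨hy, hy'⟩
        refine ⟨(E _).mul_mem hx hy, ?_⟩
        rw [hmul, P.mul' (hG x hx) (hG y hy), hy', hx']
      one_mem' := ⟨(E _).one_mem, by rw [io_one, io_one, P.one']⟩
      inv_mem' := by
        rintro x ⟨hx, hx'⟩
        refine ⟨(E _).inv_mem hx, ?_⟩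
        rw [hinv]
        conv_lhs => rw [← hx']
        exact P.inv' (hG x hx) _ }
  have hsc : ∀ x : (W' × F × F) ≃ₗ[F] (W' × F × F), x ∈ E (hypSum Q') →
      ∃ c : ℂ, c ≠ 0 ∧ P.R (io 1 (io 1 x)) b0 = c • b0 := by
    intro x hx
    refine stab_scalar P h1 hb hb0 (io_mem_O.2 (E_le_O hx)) (hG x hx) ?_
    rw [io_apply]
    simp
  have hK : ⁅E (hypSum Q'), E (hypSum Q')⁆ ≤ K := by
    rw [Subgroup.commutator_le]
    intro x hx y hy
    have hc : ⁅x, y⁆ ∈ E (hypSum Q') := by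
      rw [commutatorElement_def]
      exact (E _).mul_mem ((E _).mul_mem ((E _).mul_mem hx hy) ((E _).inv_mem hx)) ((E _).inv_mem hy)
    refine ⟨hc, ?_⟩
    obtain ⟨c, hc0, ec⟩ := hsc x hx
    obtain ⟨d, hd0, ed⟩ := hsc y hy
    obtain ⟨e, he0, ee⟩ := hsc _ hc
    have h3 : ⁅x, y⁆ * (y * x) = x * y := by
      rw [commutatorElement_def]
      group
    have h4 : P.R (io 1 (io 1 (⁅x, y⁆ * (y * x)))) b0 = (c * d) • P.R (io 1 (io 1 ⁅x, y⁆)) b0 := by
      rw [hmul, P.mul' (hG _ hc) (hG _ ((E _).mul_mem hy hx)), hmul y x, P.mul' (hG y hy) (hG x hx), ec,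
        map_smul, ed, map_smul, map_smul, smul_smul]
    have h5 : P.R (io 1 (io 1 (x * y))) b0 = (c * d) • b0 := by
      rw [hmul x y, P.mul' (hG x hx) (hG y hy), ed, map_smul, ec, smul_smul, mul_comm]
    rw [h3, h5] at h4
    exact (smul_right_injective V (mul_ne_zero hc0 hd0) h4).symm
  exact (hK (E_perf h2 hq hT.nondeg hne hx)).2

/-- the stabiliser in `E` of the weight fixes `b0` -/
theorem stab_fix (h2 : (2 : F) ≠ 0) (hq : 5 ≤ Fintype.card F) {k : ℕ} (hT : TF k Q')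
    (h1 : ∀ x ∈ wt (hypSum (hypSum Q')) ψ (TT P (hypSum (hypSum Q'))) (0, 1, 0), ∃ c : ℂ, x = c • b0)
    (hb : b0 ∈ wt (hypSum (hypSum Q')) ψ (TT P (hypSum (hypSum Q'))) (0, 1, 0)) (hb0 : b0 ≠ 0)
    {s : ((W' × F × F) × F × F) ≃ₗ[F] ((W' × F × F) × F × F)} (hs : s ∈ E (hypSum (hypSum Q')))
    (he : s (0, 1, 0) = (0, 1, 0)) : P.R (io 1 s) b0 = b0 := by
  have hfd := hT.fd
  have hsO := E_le_O hs
  -- image of the second vector
  obtain ⟨w, hw⟩ : ∃ w, s (0, 0, 1) = (w, -(hypSum Q' w), 1) := by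
    have h3 := polar_map hsO (0, 1, 0) (0, 0, 1)
    have h4 := mem_O.1 hsO (0, 0, 1)
    have h3' : polar (hypSum (hypSum Q')) (0, 1, 0) (0, 0, 1) = 1 := (hyp0 (hypSum Q')).pair
    rw [he, h3'] at h3
    generalize s (0, 0, 1) = z at h3 h4 ⊢
    obtain ⟨w, x, y⟩ := z
    rw [polar_hypSum] at h3
    have hy : y = 1 := by simpa using h3
    subst hy
    have h5 : hypSum Q' w + x * 1 = 0 := by
      rw [hypSum_apply, hypSum_apply (hypSum Q') (0, 0, 1)] at h4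
      simpa using h4
    refine ⟨w, ?_⟩
    have hx : x = -(hypSum Q' w) := by linear_combination h5
    rw [hx]
  have hsE : ∀ w, sE (hypSum Q') w ∈ E (hypSum (hypSum Q')) := fun w => sE_mem _ w
  set s' := sE (hypSum Q') (-w) * s with hs'
  have hs'E : s' ∈ E (hypSum (hypSum Q')) := (E _).mul_mem (hsE _) hs
  have e1 : s' (e0 F (W' × F × F)) = e0 F (W' × F × F) := by
    rw [e0, hs', LinearEquiv.mul_apply, he, sE_apply]
    simp
  have e2 : s' (f0 F (W' × F × F)) = f0 F (W' × F × F) := by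
    rw [f0, hs', LinearEquiv.mul_apply, hw, sE_apply, polar_neg_left, polar_self', QuadraticMap.map_neg]
    ext
    · simp
    · simp
    · simp
    · simp only
      ring
    · simp
  obtain ⟨t, ht, e3⟩ := exists_io_of_fix (E_le_O hs'E) e1 e2
  have htSO : t ∈ SO (hypSum Q') := by
    have := E_le_SO hs'E
    rw [e3] at this
    exact io_mem_SO.1 this
  have htE : t ∈ E (hypSum Q') := by
    rw [e3] at hs'E
    exact mem_E_of_io' h2 hT htSO hs'E
  have e4 : s = sE (hypSum Q') w * io 1 t := by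
    rw [← e3, hs', ← mul_assoc, ← sE_add, add_neg_cancel, sE_zero, one_mul]
  have e5 : io 1 s = io 1 (sE (hypSum Q') w) * io 1 (io 1 t) := by rw [io_mul, mul_one, ← e4]
  rw [e5, P.mul' (io_mem_E (hsE w)) (io_mem_E (io_mem_E htE)), EW_fix P h2 hq hT h1 hb hb0 htE,
    sE_fix P hq h1 hb hb0]

end

end Cfsg.Agent.H117
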