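import Cfsg.Agent.H117.Sys

/-!
# The Weyl element `nS` on an equivariant system
-/

set_option autoImplicit false

universe u v

namespace Cfsg.Agent.H117

open QuadraticMap Cfsg.Agent.LieClassical.OrthCore Cfsg.Agent.LieClassical.OrthTrans Module
open Cfsg.Agent.LieClassical.OrthCount (hypSum hypSum_apply polar_hypSum)

section

variable {F W : Type*} [Field F] [AddCommGroup W] [Module F W] [Fintype F] [Fintype W]
  {Q : QuadraticForm F W} {V : Type*} [AddCommGroup V] [Module ℂ V]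
  {P : PRep (E (hypSum (hypSum Q))) V} {ψ : AddChar F ℂ} {b : W × F × F → V} {lam : Fˣ → ℂ}

/-- the weights met by `nS b(c e₂)` -/
def uw (Q : QuadraticForm F W) (c : F) (w : W) : W × F × F := (c • w, c, -(c * Q w))

omit [Fintype F] [Fintype W] in
theorem sF_e (c : F) (w : W) : sF Q w (0, c, 0) = uw Q c w := by
  rw [sF_apply, uw]
  ext
  · simp
  · rfl
  · simp; ring

omit [Fintype F] [Fintype W] in
theorem uw_ne {c : F} (hc : c ≠ 0) (w : W) : uw Q c w ≠ 0 := by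
  intro h
  exact hc (congrArg (fun z : W × F × F => z.2.1) h)

omit [Fintype F] [Fintype W] in
theorem uw_sing (c : F) (w : W) : hypSum Q (uw Q c w) = 0 := by
  rw [uw, hypSum_apply]
  simp only [QuadraticMap.map_smul, smul_eq_mul]
  ring

omit [Fintype F] [Fintype W] in
theorem exists_psi (hψ : ∃ c, ψ c ≠ 1) {d : F} (hd : d ≠ 0) : ∃ t, ψ (d * t) ≠ 1 := by
  obtain ⟨c, hc⟩ := hψ
  exact ⟨d⁻¹ * c, by rwa [mul_inv_cancel_left₀ hd]⟩

/-- `G(r) = ∑_w ψ(r Q(w))` -/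
noncomputable def GG (Q : QuadraticForm F W) (ψ : AddChar F ℂ) (r : F) : ℂ := ∑ w : W, ψ (r * Q w)

omit [Fintype W] in
theorem psi_polar_zero {A : Type*} [AddCommGroup A] [Module F A] {q : QuadraticForm F A} {u v : A}
    (h : polar q u v = 0) : ψ (polar q u v) = 1 := by
  rw [h, AddChar.map_zero_eq_one]

variable [FiniteDimensional F W]

theorem Sys.nS_fix (h : Sys P ψ b lam) {c : F} (hc : c ≠ 0) (w : W) :
    P.R (io 1 (sF Q w)) (P.R (nS F W) (b (0, c, 0))) = P.R (nS F W) (b (0, c, 0)) := by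
  have e := nS_sE Q (-w)
  rw [neg_neg] at e
  rw [← P.swap (nS_mem Q) (sE_mem _ _) (io_mem_E (sF_mem Q w)) (nS_mem Q) e]
  congr 1
  have h1 := h.mem _ (ne_e hc) sing_e (-w, 0, 0)
  rw [psi_polar_zero, one_smul] at h1
  · exact h1
  · rw [polar_hypSum]; simp

/-- the components of `nS b(c e₂)` -/
theorem Sys.pr_nS (h : Sys P ψ b lam) (hQ : Nondeg Q) (hψ : ∃ c, ψ c ≠ 1) {c : F} (hc : c ≠ 0)
    {u : W × F × F} (hu : ∀ w, u ≠ uw Q c w) :
    pr (hypSum Q) ψ (TT P (hypSum Q)) u (P.R (nS F W) (b (0, c, 0))) = 0 := by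
  have hW := wd_TT (P := P) (nondeg_hypSum hQ) hψ le_rfl
  by_cases hs : hypSum Q u = 0
  · by_cases hx : u.2.1 = c
    · exfalso
      apply hu (c⁻¹ • u.1)
      obtain ⟨w, x, y⟩ := u
      simp only at hx
      subst hx
      rw [uw]
      have h1 : Q w + x * y = 0 := hs
      ext
      · simp only [smul_smul, mul_inv_cancel₀ hc, one_smul]
      · rfl
      · simp only [QuadraticMap.map_smul, smul_eq_mul]
        field_simp
        linear_combination h1
    · obtain ⟨t, ht⟩ := exists_psi hψ (sub_ne_zero.2 hx)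
      have h1 : TT P (hypSum Q) (0, 0, t) (P.R (nS F W) (b (0, c, 0))) =
          ψ (c * t) • P.R (nS F W) (b (0, c, 0)) := by
        rw [TT, ← P.swap (nS_mem Q) (sE_mem _ _) (sE_mem _ _) (nS_mem Q) (nS_sE_f Q t)]
        have h2 := h.mem _ (ne_e hc) sing_e (0, 0, t)
        rw [TT, polar_hypSum] at h2
        rw [h2, map_smul]
        simp
      have h3 := pr_T hW u (0, 0, t) (P.R (nS F W) (b (0, c, 0)))
      rw [h1, map_smul, polar_hypSum] at h3
      have h4 : polar Q u.1 0 + (u.2.1 * t + 0 * u.2.2) = u.2.1 * t := by simp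
      simp only [h4] at h3
      have h5 : (ψ (u.2.1 * t) - ψ (c * t)) •
          pr (hypSum Q) ψ (TT P (hypSum Q)) u (P.R (nS F W) (b (0, c, 0))) = 0 := by
        rw [sub_smul, ← h3, sub_self]
      refine (smul_eq_zero.1 h5).resolve_left ?_
      intro h6
      apply ht
      rw [sub_mul, AddChar.map_sub_eq_div, div_eq_one_iff_eq (psi_ne _)]
      exact sub_eq_zero.1 h6
  · have h1 := pr_mem hW u (P.R (nS F W) (b (0, c, 0)))
    rw [h.none u hs] at h1
    exact h1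

theorem Sys.exists_gam (h : Sys P ψ b lam) (hQ : Nondeg Q) (hψ : ∃ c, ψ c ≠ 1) {c : F} (hc : c ≠ 0) :
    ∃ g : ℂ, (∀ w, pr (hypSum Q) ψ (TT P (hypSum Q)) (uw Q c w) (P.R (nS F W) (b (0, c, 0))) =
      g • b (uw Q c w)) ∧ P.R (nS F W) (b (0, c, 0)) = g • ∑ w : W, b (uw Q c w) := by
  classical
  have hW := wd_TT (P := P) (nondeg_hypSum hQ) hψ le_rfl
  obtain ⟨g, hg⟩ := h.span _ (ne_e hc) sing_e _ (pr_mem hW ((0, c, 0) : W × F × F) (P.R (nS F W) (b (0, c, 0))))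
  have h1 : ∀ w, pr (hypSum Q) ψ (TT P (hypSum Q)) (uw Q c w) (P.R (nS F W) (b (0, c, 0))) =
      g • b (uw Q c w) := by
    intro w
    have h2 := io_pr P (nondeg_hypSum hQ) hψ le_rfl (a := 1) (E_le_O (sF_mem Q w)) (io_mem_E (sF_mem Q w))
      (0, c, 0) (P.R (nS F W) (b (0, c, 0)))
    rw [h.nS_fix hc, hg, map_smul, h.act_E (sF_mem Q w) (ne_e hc) sing_e, Units.val_one, inv_one, one_smul,
      sF_e] at h2
    exact h2.symm
  refine ⟨g, h1, ?_⟩
  have hinj : Function.Injective (uw Q c) := by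
    intro w w' e
    have e1 : c • w = c • w' := congrArg Prod.fst e
    exact smul_right_injective W hc e1
  conv_lhs => rw [← sum_pr hW (P.R (nS F W) (b (0, c, 0)))]
  rw [Finset.smul_sum]
  have h3 : ∑ w : W, g • b (uw Q c w) = ∑ u ∈ Finset.univ.map ⟨uw Q c, hinj⟩,
      pr (hypSum Q) ψ (TT P (hypSum Q)) u (P.R (nS F W) (b (0, c, 0))) := by
    rw [Finset.sum_map]
    exact Finset.sum_congr rfl fun w _ => (h1 w).symm
  rw [h3]
  symm
  refine Finset.sum_subset (Finset.subset_univ _) ?_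
  intro u _ hu
  apply h.pr_nS hQ hψ hc
  rintro w rfl
  apply hu
  rw [Finset.mem_map]
  exact ⟨w, Finset.mem_univ _, rfl⟩

theorem Sys.pr_nS_uw (h : Sys P ψ b lam) (hQ : Nondeg Q) (hψ : ∃ c, ψ c ≠ 1) {c : F} (hc : c ≠ 0)
    (w : W) : pr (hypSum Q) ψ (TT P (hypSum Q)) (0, c, 0) (P.R (nS F W) (b (uw Q c w))) =
      pr (hypSum Q) ψ (TT P (hypSum Q)) (0, c, 0) (P.R (nS F W) (b (0, c, 0))) := by
  have hW := wd_TT (P := P) (nondeg_hypSum hQ) hψ le_rfl
  rw [← sF_e, ← h.act_E (sF_mem Q w) (ne_e hc) sing_e,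
    P.swap (nS_mem Q) (io_mem_E (sF_mem Q w)) (sE_mem _ _) (nS_mem Q) (nS_io_sF Q w)]
  have h1 := pr_T hW (0, c, 0) (w, 0, 0) (P.R (nS F W) (b (0, c, 0)))
  rw [psi_polar_zero, one_smul] at h1
  · exact h1
  · rw [polar_hypSum]; simp

/-- the fundamental relation -/
theorem Sys.rel (h : Sys P ψ b lam) (hQ : Nondeg Q) (hψ : ∃ c, ψ c ≠ 1) {c : F} (hc : c ≠ 0) {g : ℂ}
    (hg1 : ∀ w, pr (hypSum Q) ψ (TT P (hypSum Q)) (uw Q c w) (P.R (nS F W) (b (0, c, 0))) = g • b (uw Q c w))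
    (hg : P.R (nS F W) (b (0, c, 0)) = g • ∑ w : W, b (uw Q c w)) (t : Fˣ) :
    g * GG Q ψ (c * t) = lam (-t) := by
  have hW := wd_TT (P := P) (nondeg_hypSum hQ) hψ le_rfl
  have ht : (t : F) ≠ 0 := t.ne_zero
  have hn := nS_mem Q (F := F) (W := W)
  -- `pr (c e₂) (nS b) = g b`
  have h0 : pr (hypSum Q) ψ (TT P (hypSum Q)) (0, c, 0) (P.R (nS F W) (b (0, c, 0))) = g • b (0, c, 0) := by
    have := hg1 0
    have e : uw Q c 0 = (0, c, 0) := by rw [uw]; simp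
    rwa [e] at this
  set β : Fˣ := -t⁻¹ with hβ
  have hβ' : (β : F) = -(t : F)⁻¹ := by rw [hβ]; simp
  have e := nS_rr_nS Q t β hβ'
  have e1 : P.R (nS F W * sE (hypSum Q) (0, -(t : F), 0) * nS F W) (b (0, c, 0)) =
      P.R (sE (hypSum Q) (0, -(β : F), 0) * io β (io β 1) * nS F W * sE (hypSum Q) (0, -(β : F), 0))
        (b (0, c, 0)) := by rw [e]
  have hfix : ∀ r : F, P.R (sE (hypSum Q) (0, r, 0)) (b (0, c, 0)) = b (0, c, 0) := by
    intro r
    have h1 := h.mem _ (ne_e hc) sing_e (0, r, 0)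
    rw [psi_polar_zero, one_smul] at h1
    · exact h1
    · rw [polar_hypSum]; simp
  have hz : io β (io β (1 : W ≃ₗ[F] W)) ∈ E (hypSum (hypSum Q)) := zz_mem Q β
  have hz' : io β⁻¹ (io β⁻¹ (1 : W ≃ₗ[F] W)) ∈ E (hypSum (hypSum Q)) := zz_mem Q β⁻¹
  have e2 : io β (io β (1 : W ≃ₗ[F] W)) * nS F W = nS F W * io β⁻¹ (io β⁻¹ 1) := by
    rw [nS_io, inv_inv]
  rw [P.mul' ((E _).mul_mem hn (sE_mem _ _)) hn, P.mul' hn (sE_mem _ _),
    P.mul' ((E _).mul_mem ((E _).mul_mem (sE_mem _ _) hz) hn) (sE_mem _ _), hfix,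
    P.mul' ((E _).mul_mem (sE_mem _ _) hz) hn, P.mul' (sE_mem _ _) hz,
    P.swap hz hn hn hz' e2] at e1
  have h1SO : io β⁻¹ (1 : W ≃ₗ[F] W) ∈ SO (hypSum Q) := io_mem_SO.2 (SO _).one_mem
  have e3 : P.R (io β⁻¹ (io β⁻¹ (1 : W ≃ₗ[F] W))) (b (0, c, 0)) = lam β⁻¹ • b (0, c, 0) := by
    rw [h.act _ _ h1SO hz' _ (ne_e hc) sing_e, io_apply]
    congr 2
    have hb : (β : F) ≠ 0 := β.ne_zero
    ext <;> simp
  rw [e3, map_smul, map_smul] at e1
  have e4 := congrArg (pr (hypSum Q) ψ (TT P (hypSum Q)) (0, c, 0)) e1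
  -- right side
  have e5 : pr (hypSum Q) ψ (TT P (hypSum Q)) (0, c, 0) (lam β⁻¹ • P.R (sE (hypSum Q) (0, -(β : F), 0))
      (P.R (nS F W) (b (0, c, 0)))) = (lam β⁻¹ * g) • b (0, c, 0) := by
    rw [map_smul]
    have h1 := pr_T hW (0, c, 0) (0, -(β : F), 0) (P.R (nS F W) (b (0, c, 0)))
    rw [psi_polar_zero, one_smul] at h1
    · have h2 : P.R (sE (hypSum Q) (0, -(β : F), 0)) (P.R (nS F W) (b (0, c, 0))) =
        TT P (hypSum Q) (0, -(β : F), 0) (P.R (nS F W) (b (0, c, 0))) := rfl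
      rw [h2, h1, h0, smul_smul]
    · rw [polar_hypSum]; simp
  -- left side
  have e6 : pr (hypSum Q) ψ (TT P (hypSum Q)) (0, c, 0) (P.R (nS F W) (P.R (sE (hypSum Q) (0, -(t : F), 0))
      (P.R (nS F W) (b (0, c, 0))))) = (g * (GG Q ψ (c * t) * g)) • b (0, c, 0) := by
    have h1 : P.R (sE (hypSum Q) (0, -(t : F), 0)) (P.R (nS F W) (b (0, c, 0))) =
        g • ∑ w : W, ψ (c * t * Q w) • b (uw Q c w) := by
      rw [hg, map_smul, map_sum]
      congr 1
      refine Finset.sum_congr rfl fun w _ => ?_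
      have h2 := h.mem _ (uw_ne hc w) (uw_sing c w) (0, -(t : F), 0)
      have h3 : P.R (sE (hypSum Q) (0, -(t : F), 0)) (b (uw Q c w)) =
        TT P (hypSum Q) (0, -(t : F), 0) (b (uw Q c w)) := rfl
      rw [h3, h2]
      congr 2
      rw [polar_hypSum, uw]
      simp
      ring
    rw [h1, map_smul, map_smul, map_sum, map_sum]
    have h4 : ∀ w : W, pr (hypSum Q) ψ (TT P (hypSum Q)) (0, c, 0)
        (P.R (nS F W) (ψ (c * t * Q w) • b (uw Q c w))) = (ψ (c * t * Q w) * g) • b (0, c, 0) := by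
      intro w
      rw [map_smul, map_smul, h.pr_nS_uw hQ hψ hc, h0, smul_smul]
    rw [Finset.sum_congr rfl fun w _ => h4 w, ← Finset.sum_smul, smul_smul, ← Finset.sum_mul]
    rfl
  rw [e5, e6] at e4
  have e7 : (g * (GG Q ψ (c * t) * g) - lam β⁻¹ * g) • b (0, c, 0) = 0 := by
    rw [sub_smul, e4, sub_self]
  rcases smul_eq_zero.1 e7 with h8 | h8
  · have hg0 : g ≠ 0 := by
      rintro rfl
      rw [zero_smul] at hg
      exact P.ne_zero hn (h.ne _ (ne_e hc) sing_e) hg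
    have h9 : β⁻¹ = -t := by
      rw [hβ, inv_neg, inv_inv]
    rw [h9] at h8
    apply mul_right_cancel₀ hg0
    linear_combination h8
  · exact absurd h8 (h.ne _ (ne_e hc) sing_e)

end

end Cfsg.Agent.H117
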