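import Cfsg.Agent.H117.SysA

/-!
# The character `lam` of a system is the quadratic character; the two semi-invariant vectors
-/

set_option autoImplicit false

universe u v

namespace Cfsg.Agent.H117

open QuadraticMap Cfsg.Agent.LieClassical.OrthCore Cfsg.Agent.LieClassical.OrthTrans Module
open Cfsg.Agent.LieClassical.OrthCount (hypSum hypSum_apply polar_hypSum)

section

variable {F W : Type*} [Field F] [AddCommGroup W] [Module F W] [Fintype F] [Fintype W]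
  {Q : QuadraticForm F W} {V : Type*} [AddCommGroup V] [Module ℂ V]
  {P : PRep (E (hypSum (hypSum Q))) V} {ψ : AddChar F ℂ} {b : W × F × F → V} {lam : Fˣ → ℂ}

omit [Fintype W] [Module F W] [AddCommGroup W] in
theorem sum_psi_mul (hψ : ∃ c, ψ c ≠ 1) (d : F) [DecidableEq F] :
    ∑ t : F, ψ (t * d) = if d = 0 then (Fintype.card F : ℂ) else 0 := by
  have h1 : ψ ≠ 1 := by
    rintro rfl
    obtain ⟨c, hc⟩ := hψ
    exact hc rfl
  have h2 := AddChar.sum_mulShift d (AddChar.IsPrimitive.of_ne_one h1)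
  rw [h2]
  split_ifs <;> simp

theorem sum_GG [Fintype Fˣ] (hψ : ∃ c, ψ c ≠ 1) {k : ℕ} (hT : TF k Q) : ∑ t : Fˣ, GG Q ψ t = 0 := by
  classical
  have h1 : ∑ t : F, GG Q ψ t = (Fintype.card W : ℂ) := by
    unfold GG
    rw [Finset.sum_comm]
    have : ∀ w : W, ∑ t : F, ψ (t * Q w) = if Q w = 0 then (Fintype.card F : ℂ) else 0 :=
      fun w => sum_psi_mul hψ _
    rw [Fintype.sum_congr _ _ this, ← Finset.sum_filter, Finset.sum_const, nsmul_eq_mul]
    have h2 := hT.sing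
    have h3 := hT.card
    rw [Nat.card_eq_fintype_card, Fintype.card_subtype, Nat.card_eq_fintype_card] at h2
    rw [Nat.card_eq_fintype_card, Nat.card_eq_fintype_card] at h3
    rw [h2, h3]
    push_cast
    ring
  have h4 : ∑ t : F, GG Q ψ t = GG Q ψ 0 + ∑ t : Fˣ, GG Q ψ t := by
    rw [← Finset.add_sum_erase _ _ (Finset.mem_univ (0 : F))]
    congr 1
    symm
    refine Finset.sum_bij (fun (t : Fˣ) _ => (t : F)) ?_ ?_ ?_ ?_
    · intro t _
      exact Finset.mem_erase.2 ⟨t.ne_zero, Finset.mem_univ _⟩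
    · intro t _ t' _ h
      exact Units.ext h
    · intro t ht
      exact ⟨Units.mk0 t (Finset.mem_erase.1 ht).1, Finset.mem_univ _, rfl⟩
    · intro t _
      rfl
  have h5 : GG Q ψ 0 = (Fintype.card W : ℂ) := by
    unfold GG
    simp
  rw [h1, h5] at h4
  linear_combination -h4

omit [Fintype F] in
theorem GG_sq (s : Fˣ) (r : F) : GG Q ψ ((s : F) ^ 2 * r) = GG Q ψ r := by
  unfold GG
  refine Fintype.sum_equiv (LinearEquiv.smulOfUnit (M := W) s).toEquiv _ _ fun w => ?_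
  congr 1
  have : (LinearEquiv.smulOfUnit (M := W) s).toEquiv w = (s : F) • w := rfl
  rw [this, QuadraticMap.map_smul, smul_eq_mul]
  ring

variable [FiniteDimensional F W]

omit [Fintype W] in
theorem Sys.zz (h : Sys P ψ b lam) (a : Fˣ) (c : F) (hc : c ≠ 0) :
    P.R (io a (io a 1)) (b (0, c, 0)) = lam a • b (0, c, 0) := by
  have h1SO : io a (1 : W ≃ₗ[F] W) ∈ SO (hypSum Q) := io_mem_SO.2 (SO _).one_mem
  rw [h.act _ _ h1SO (zz_mem Q a) _ (ne_e hc) sing_e, io_apply]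
  congr 2
  have hb : (a : F) ≠ 0 := a.ne_zero
  ext <;> simp

omit [Fintype W] in
theorem Sys.lam_mul (h : Sys P ψ b lam) (a c : Fˣ) : lam (a * c) = lam a * lam c := by
  have h1 := h.zz (a * c) 1 one_ne_zero
  have h2 : io (a * c) (io (a * c) (1 : W ≃ₗ[F] W)) = io a (io a 1) * io c (io c 1) := by
    rw [io_mul, io_mul, mul_one]
  rw [h2, P.mul' (zz_mem Q a) (zz_mem Q c), h.zz c 1 one_ne_zero, map_smul, h.zz a 1 one_ne_zero,
    smul_smul] at h1
  have h3 : (lam c * lam a - lam (a * c)) • b (0, 1, 0) = 0 := by rw [sub_smul, h1, sub_self]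
  rcases smul_eq_zero.1 h3 with h4 | h4
  · linear_combination -h4
  · exact absurd h4 (h.ne _ (ne_e one_ne_zero) sing_e)

omit [Fintype W] in
theorem Sys.lam_ne_zero (h : Sys P ψ b lam) (a : Fˣ) : lam a ≠ 0 := by
  intro h0
  have h1 := h.lam_mul a a⁻¹
  rw [mul_inv_cancel, h.act_one, h0, zero_mul] at h1
  exact one_ne_zero h1

theorem Sys.lam_sq (h : Sys P ψ b lam) (hQ : Nondeg Q) (hψ : ∃ c, ψ c ≠ 1) (s : Fˣ) :
    lam (s ^ 2) = 1 := by
  obtain ⟨g, hg1, hg⟩ := h.exists_gam hQ hψ (one_ne_zero (α := F))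
  have h1 := h.rel hQ hψ one_ne_zero hg1 hg 1
  have h2 := h.rel hQ hψ one_ne_zero hg1 hg (s ^ 2)
  have h3 : (1 : F) * ((s ^ 2 : Fˣ) : F) = (s : F) ^ 2 * (1 * ((1 : Fˣ) : F)) := by
    push_cast
    ring
  rw [h3, GG_sq, h1] at h2
  have h4 : -(s ^ 2) = -1 * (s ^ 2) := by rw [neg_one_mul]
  rw [h4, h.lam_mul] at h2
  have h5 := h.lam_ne_zero (-1)
  apply mul_left_cancel₀ h5
  rw [← h2, mul_one]

theorem Sys.lam_mul_self (h : Sys P ψ b lam) (hQ : Nondeg Q) (hψ : ∃ c, ψ c ≠ 1) (a : Fˣ) :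
    lam a * lam a = 1 := by
  rw [← h.lam_mul, ← pow_two, h.lam_sq hQ hψ]

theorem Sys.lam_inv (h : Sys P ψ b lam) (hQ : Nondeg Q) (hψ : ∃ c, ψ c ≠ 1) (a : Fˣ) :
    lam a⁻¹ = lam a := by
  have h1 := h.lam_mul a a⁻¹
  rw [mul_inv_cancel, h.act_one] at h1
  have h2 := h.lam_mul_self hQ hψ a
  apply mul_left_cancel₀ (h.lam_ne_zero a)
  rw [← h1, h2]

theorem Sys.exists_lam_ne (h : Sys P ψ b lam) (hψ : ∃ c, ψ c ≠ 1) {k : ℕ} (hT : TF k Q) :
    ∃ a, lam a ≠ 1 := by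
  classical
  by_contra hc
  push Not at hc
  obtain ⟨g, hg1, hg⟩ := h.exists_gam hT.nondeg hψ (one_ne_zero (α := F))
  have h1 : ∑ t : Fˣ, lam (-t) = g * ∑ t : Fˣ, GG Q ψ t := by
    rw [Finset.mul_sum]
    refine Finset.sum_congr rfl fun t _ => ?_
    rw [← h.rel hT.nondeg hψ one_ne_zero hg1 hg t, one_mul]
  rw [sum_GG hψ hT, mul_zero, Finset.sum_congr rfl fun t _ => hc (-t), Finset.sum_const,
    Finset.card_univ, nsmul_eq_mul, mul_one] at h1
  exact (Nat.cast_ne_zero.2 Fintype.card_ne_zero) h1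

/-! ### the Weyl element `nn` -/

omit [Fintype F] [FiniteDimensional F W] in
theorem pr_kconj (u : W × F × F) [Fintype F] : pr (hypSum Q) ψ (TT (H117.kconj P) (hypSum Q)) u =
    pr (hypSum Q) ψ (TT P (hypSum Q)) (kap F W u) := by
  unfold pr
  congr 1
  refine Fintype.sum_equiv (kap F W).toEquiv _ _ fun v => ?_
  have : (kap F W).toEquiv v = kap F W v := rfl
  rw [this, TT_kconj, polar_map (kap_mem_O Q)]

omit [Fintype F] [Fintype W] [FiniteDimensional F W] in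
theorem kconj_nS : (H117.kconj P).R (nS F W) = P.R (nn W 1) := by
  rw [kconj_apply]
  congr 1
  apply LinearEquiv.ext
  rintro ⟨⟨w, x, y⟩, x', y'⟩
  simp only [LinearEquiv.mul_apply]
  rw [io_apply, kap_apply, nS_apply, io_apply, kap_apply, nn1_apply]
  simp

theorem Sys.exists_gam' (h : Sys P ψ b lam) (hQ : Nondeg Q) (hψ : ∃ c, ψ c ≠ 1) :
    ∃ g : ℂ, g ≠ 0 ∧ pr (hypSum Q) ψ (TT P (hypSum Q)) (0, 0, 1) (P.R (nn W 1) (b (0, 0, 1))) =
      g • b (0, 0, 1) := by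
  have h' := h.kconj
  obtain ⟨g, hg1, hg⟩ := h'.exists_gam hQ hψ (one_ne_zero (α := F))
  have h1 := h'.rel hQ hψ one_ne_zero hg1 hg 1
  refine ⟨g, ?_, ?_⟩
  · rintro rfl
    rw [zero_mul] at h1
    exact h.lam_ne_zero _ h1.symm
  · have h2 := hg1 0
    have e : uw Q 1 0 = (0, 1, 0) := by rw [uw]; simp
    rw [e, pr_kconj, kconj_nS, kap_apply] at h2
    exact h2

/-- components of `nS x` for `x` of weight `(w, a, 0)` -/
theorem Sys.L1 (h : Sys P ψ b lam) (hQ : Nondeg Q) (hψ : ∃ c, ψ c ≠ 1) {u : W × F × F} (hu : u ≠ 0)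
    (hu2 : u.2.2 = 0) {x : V} (hx : x ∈ wt (hypSum Q) ψ (TT P (hypSum Q)) u) :
    pr (hypSum Q) ψ (TT P (hypSum Q)) (0, 0, 1) (P.R (nS F W) x) = 0 := by
  have hW := wd_TT (P := P) (nondeg_hypSum hQ) hψ le_rfl
  obtain ⟨w, a, c⟩ := u
  simp only at hu2
  subst hu2
  by_cases ha : a = 0
  · subst ha
    have hw : w ≠ 0 := by
      rintro rfl
      exact hu rfl
    obtain ⟨c, hc⟩ := hψ
    obtain ⟨w', hw'⟩ := hQ.exists_polar_eq hw c
    have e1 : P.R (io 1 (sF Q (-w'))) (P.R (nS F W) x) = ψ c • P.R (nS F W) x := by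
      rw [← P.swap (nS_mem Q) (sE_mem _ _) (io_mem_E (sF_mem Q _)) (nS_mem Q) (nS_sE Q w')]
      have := hx (w', 0, 0)
      rw [TT, polar_hypSum] at this
      rw [this, map_smul]
      simp [hw']
    have e2 := io_pr P (nondeg_hypSum hQ) ⟨c, hc⟩ le_rfl (a := 1) (E_le_O (sF_mem Q (-w')))
      (io_mem_E (sF_mem Q (-w'))) (0, 0, 1) (P.R (nS F W) x)
    obtain ⟨g, hg⟩ := h.span _ (ne_f one_ne_zero) sing_f _
      (pr_mem hW ((0, 0, 1) : W × F × F) (P.R (nS F W) x))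
    have e3 : sF Q (-w') (0, 0, 1) = (0, 0, 1) := by
      rw [sF_apply]; simp
    rw [e1, hg, map_smul, h.act_E (sF_mem Q _) (ne_f one_ne_zero) sing_f, e3, Units.val_one, inv_one,
      one_smul, map_smul, hg] at e2
    rw [hg]
    have e4 : (ψ c - 1) • g • b (0, 0, 1) = 0 := by rw [sub_smul, ← e2, one_smul, sub_self]
    exact (smul_eq_zero.1 e4).resolve_left (sub_ne_zero.2 hc)
  · obtain ⟨t, ht⟩ := exists_psi hψ ha
    have e1 : TT P (hypSum Q) (0, 0, t) (P.R (nS F W) x) = ψ (a * t) • P.R (nS F W) x := by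
      rw [TT, ← P.swap (nS_mem Q) (sE_mem _ _) (sE_mem _ _) (nS_mem Q) (nS_sE_f Q t)]
      have := hx (0, 0, t)
      rw [TT, polar_hypSum] at this
      rw [this, map_smul]
      simp
    have e2 := pr_T hW (0, 0, 1) (0, 0, t) (P.R (nS F W) x)
    rw [psi_polar_zero, one_smul, e1, map_smul] at e2
    · have e4 : (ψ (a * t) - 1) • pr (hypSum Q) ψ (TT P (hypSum Q)) (0, 0, 1) (P.R (nS F W) x) = 0 := by
        rw [sub_smul, e2, one_smul, sub_self]
      exact (smul_eq_zero.1 e4).resolve_left (sub_ne_zero.2 ht)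
    · rw [polar_hypSum]; simp

theorem Sys.L2 (h : Sys P ψ b lam) (hQ : Nondeg Q) (hψ : ∃ c, ψ c ≠ 1) {c : F} (hc : c ≠ 0)
    {u : W × F × F} (hu2 : u.2.2 ≠ 0) :
    pr (hypSum Q) ψ (TT P (hypSum Q)) u (P.R (nn W 1) (b (0, c, 0))) = 0 := by
  have hW := wd_TT (P := P) (nondeg_hypSum hQ) hψ le_rfl
  obtain ⟨t, ht⟩ := exists_psi hψ hu2
  have e1 : TT P (hypSum Q) (0, t, 0) (P.R (nn W 1) (b (0, c, 0))) = P.R (nn W 1) (b (0, c, 0)) := by
    rw [TT, ← P.swap (nn_mem Q 1) (sE_mem _ _) (sE_mem _ _) (nn_mem Q 1) (nn_sE_e Q t)]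
    have := h.mem _ (ne_e hc) sing_e (0, t, 0)
    rw [TT, psi_polar_zero, one_smul] at this
    · rw [this]
    · rw [polar_hypSum]; simp
  have e2 := pr_T hW u (0, t, 0) (P.R (nn W 1) (b (0, c, 0)))
  rw [e1] at e2
  have e3 : polar (hypSum Q) u (0, t, 0) = u.2.2 * t := by
    rw [polar_hypSum]; simp [mul_comm]
  rw [e3] at e2
  have e4 : (ψ (u.2.2 * t) - 1) • pr (hypSum Q) ψ (TT P (hypSum Q)) u (P.R (nn W 1) (b (0, c, 0))) = 0 := by
    rw [sub_smul, ← e2, one_smul, sub_self]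
  exact (smul_eq_zero.1 e4).resolve_left (sub_ne_zero.2 ht)

open Classical in
theorem Sys.L3 (h : Sys P ψ b lam) (hQ : Nondeg Q) (hψ : ∃ c, ψ c ≠ 1) {g' : ℂ}
    (hg' : pr (hypSum Q) ψ (TT P (hypSum Q)) (0, 0, 1) (P.R (nn W 1) (b (0, 0, 1))) = g' • b (0, 0, 1))
    {c : F} (hc : c ≠ 0) (w : W) :
    pr (hypSum Q) ψ (TT P (hypSum Q)) (0, 0, 1) (P.R (nn W 1) (b (uw Q c w))) =
      if -(c * Q w) = 1 then g' • b (0, 0, 1) else 0 := by
  have hW := wd_TT (P := P) (nondeg_hypSum hQ) hψ le_rfl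
  by_cases h1 : -(c * Q w) = 1
  · rw [if_pos h1]
    have e1 : uw Q c w = sE Q (c • w) (0, 0, 1) := by
      rw [sE_apply, uw, h1, QuadraticMap.map_smul]
      ext
      · simp
      · simp only [polar_zero_right, smul_eq_mul]
        linear_combination (-c) * h1
      · rfl
    rw [e1, ← h.act_E (sE_mem Q _) (ne_f one_ne_zero) sing_f,
      P.swap (nn_mem Q 1) (io_mem_E (sE_mem Q _)) (sE_mem _ _) (nn_mem Q 1) (nn_io_sE Q _)]
    have e2 := pr_T hW (0, 0, 1) (c • w, 0, 0) (P.R (nn W 1) (b (0, 0, 1)))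
    rw [psi_polar_zero, one_smul, hg'] at e2
    · exact e2
    · rw [polar_hypSum]; simp
  · rw [if_neg h1]
    obtain ⟨t, ht⟩ := exists_psi hψ (sub_ne_zero.2 h1)
    have e1 : TT P (hypSum Q) (0, t, 0) (P.R (nn W 1) (b (uw Q c w))) =
        ψ (-(c * Q w) * t) • P.R (nn W 1) (b (uw Q c w)) := by
      rw [TT, ← P.swap (nn_mem Q 1) (sE_mem _ _) (sE_mem _ _) (nn_mem Q 1) (nn_sE_e Q t)]
      have := h.mem _ (uw_ne hc w) (uw_sing c w) (0, t, 0)
      rw [TT, polar_hypSum] at this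
      rw [this, map_smul]
      congr 2
      rw [uw]
      simp
      ring
    have e2 := pr_T hW (0, 0, 1) (0, t, 0) (P.R (nn W 1) (b (uw Q c w)))
    rw [e1, map_smul] at e2
    have e3 : polar (hypSum Q) (0, 0, 1) (0, t, 0) = t := by
      rw [polar_hypSum]; simp
    rw [e3] at e2
    have e4 : (ψ (-(c * Q w) * t) - ψ t) •
        pr (hypSum Q) ψ (TT P (hypSum Q)) (0, 0, 1) (P.R (nn W 1) (b (uw Q c w))) = 0 := by
      rw [sub_smul, e2, sub_self]
    refine (smul_eq_zero.1 e4).resolve_left ?_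
    intro h6
    apply ht
    rw [sub_mul, one_mul, AddChar.map_sub_eq_div, div_eq_one_iff_eq (psi_ne _)]
    exact sub_eq_zero.1 h6

end

end Cfsg.Agent.H117
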