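import Mathlib.LinearAlgebra.Charpoly.ToMatrix
import Mathlib.LinearAlgebra.Charpoly.BaseChange
import Mathlib.LinearAlgebra.Matrix.Charpoly.Coeff
import Mathlib.LinearAlgebra.Matrix.Dual
import Mathlib.LinearAlgebra.Dimension.OrzechProperty
import Mathlib.LinearAlgebra.Center
import Mathlib.LinearAlgebra.Dual.Lemmas
import Mathlib.Tactic

/-!
# Products of two matrices with prescribed characteristic polynomials (helper117)

`exists_mul_eq` (Theorem TL): `A` nonscalar invertible, `f`, `g` monic of degree `n`, `f(0) g(0) = det A`, `g` has a root: `A = X Y`, `X`, `Y` with characteristic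
polynomials `f`, `g`. Any field. Plan: tools/plans/S2464_TL.md.
-/

set_option autoImplicit false

namespace Cfsg.Agent.H117.TL

open Module Polynomial

set_option linter.unusedSectionVars false

section pole

variable {F V : Type*} [Field F] [AddCommGroup V] [Module F V]

/-- `b` is a cyclic vector of `X` -/
def Cyc (X : Module.End F V) (b : V) : Prop := ∀ U : Submodule F V, b ∈ U → (∀ u ∈ U, X u ∈ U) → U = ⊤

/-- the Horner polynomials of a monic polynomial of degree `n` -/
noncomputable def hor (f : F[X]) (n : ℕ) : ℕ → F[X]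
  | 0 => 1
  | i + 1 => X * hor f n i + C (f.coeff (n - 1 - i))

theorem hor_coeff {f : F[X]} {n : ℕ} (hf : f.Monic) (hn : f.natDegree = n) (i : ℕ) (hi : i ≤ n) (j : ℕ) :
    (hor f n i).coeff j = f.coeff (n - i + j) := by
  induction i generalizing j with
  | zero =>
    rw [hor, Nat.sub_zero, Polynomial.coeff_one]
    rcases j with _ | j
    · rw [if_pos rfl, add_zero, ← hn]
      exact hf.coeff_natDegree.symm
    · rw [if_neg (by omega), Polynomial.coeff_eq_zero_of_natDegree_lt (by omega)]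
  | succ i ih =>
    rw [hor]
    rcases j with _ | j
    · rw [Polynomial.coeff_add, Polynomial.mul_coeff_zero, Polynomial.coeff_X_zero, zero_mul, Polynomial.coeff_C_zero,
        zero_add]
      congr 1
      omega
    · rw [Polynomial.coeff_add, Polynomial.coeff_X_mul, Polynomial.coeff_C_succ, add_zero, ih (by omega)]
      congr 1
      omega

theorem hor_self {f : F[X]} {n : ℕ} (hf : f.Monic) (hn : f.natDegree = n) : hor f n n = f := by
  ext j
  rw [hor_coeff hf hn n le_rfl, Nat.sub_self, zero_add]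

variable [FiniteDimensional F V]

/-- a polynomial which kills a cyclic vector is the characteristic polynomial -/
theorem charpoly_eq {X : Module.End F V} {b : V} (hc : Cyc X b) {f : F[X]} (hf : f.Monic)
    (hn : f.natDegree = finrank F V) (h0 : aeval X f b = 0) : X.charpoly = f := by
  set n := finrank F V with hndef
  let φ : degreeLT F n →ₗ[F] V := ((LinearMap.applyₗ b).comp (aeval X).toLinearMap).comp (degreeLT F n).subtype
  have hφ : ∀ p : degreeLT F n, φ p = aeval X (p : F[X]) b := fun p => rfl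
  have hker : ∀ p : F[X], aeval X (p %ₘ f) b = aeval X p b := by
    intro p
    conv_rhs => rw [← modByMonic_add_div p f]
    rw [map_add, LinearMap.add_apply, mul_comm, map_mul, Module.End.mul_apply, h0, map_zero, add_zero]
  have hmem : ∀ p : F[X], aeval X p b ∈ LinearMap.range φ := by
    intro p
    have h1 : p %ₘ f ∈ degreeLT F n := by
      rw [mem_degreeLT, ← hn, ← Polynomial.degree_eq_natDegree hf.ne_zero]
      exact degree_modByMonic_lt p hf
    exact ⟨⟨p %ₘ f, h1⟩, by rw [hφ]; exact hker p⟩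
  have hsur : LinearMap.range φ = ⊤ := by
    apply hc
    · have := hmem 1
      rwa [map_one, Module.End.one_apply] at this
    · rintro _ ⟨p, rfl⟩
      have := hmem (Polynomial.X * (p : F[X]))
      rwa [map_mul, aeval_X, Module.End.mul_apply] at this
  have hfin : finrank F (degreeLT F n) = finrank F V := by
    rw [LinearEquiv.finrank_eq (degreeLTEquiv F n), Module.finrank_fin_fun]
  have : FiniteDimensional F (degreeLT F n) := LinearEquiv.finiteDimensional (degreeLTEquiv F n).symm
  have hinj : Function.Injective φ :=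
    (LinearMap.injective_iff_surjective_of_finrank_eq_finrank hfin).2 (LinearMap.range_eq_top.1 hsur)
  have hcm := LinearMap.charpoly_monic X
  have hcn : X.charpoly.natDegree = n := LinearMap.charpoly_natDegree X
  have h1 : X.charpoly - f ∈ degreeLT F n := by
    rw [mem_degreeLT, ← hcn, ← Polynomial.degree_eq_natDegree hcm.ne_zero]
    refine degree_sub_lt_left ?_ hcm.ne_zero ?_
    · rw [Polynomial.degree_eq_natDegree hcm.ne_zero, Polynomial.degree_eq_natDegree hf.ne_zero, hcn, hn]
    · rw [hcm.leadingCoeff, hf.leadingCoeff]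
  have h2 : φ ⟨X.charpoly - f, h1⟩ = φ 0 := by
    rw [hφ, map_zero]
    change aeval X (X.charpoly - f) b = 0
    rw [map_sub, LinearMap.aeval_self_charpoly, zero_sub, LinearMap.neg_apply, h0, neg_zero]
  have h3 := congrArg Subtype.val (hinj h2)
  exact sub_eq_zero.1 h3

/-- **pole placement** -/
theorem pole {X0 : Module.End F V} {b : V} (hc : Cyc X0 b) {f : F[X]} (hf : f.Monic) (hn : f.natDegree = finrank F V) :
    ∃ ζ : V →ₗ[F] F, (X0 + ζ.smulRight b).charpoly = f := by
  set n := finrank F V with hndef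
  set χ := X0.charpoly with hχ
  have hχm : χ.Monic := LinearMap.charpoly_monic X0
  have hχn : χ.natDegree = n := LinearMap.charpoly_natDegree X0
  let v : ℕ → V := fun i => aeval X0 (hor χ n i) b
  have hv0 : v 0 = b := by
    change aeval X0 (hor χ n 0) b = b
    rw [hor, map_one, Module.End.one_apply]
  have hvs : ∀ i, v (i + 1) = X0 (v i) + χ.coeff (n - 1 - i) • b := by
    intro i
    change aeval X0 (hor χ n (i + 1)) b = _
    rw [hor, map_add, map_mul, aeval_X, aeval_C, LinearMap.add_apply, Module.End.mul_apply, Module.algebraMap_end_apply]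
  have hvn : v n = 0 := by
    change aeval X0 (hor χ n n) b = 0
    rw [hor_self hχm hχn, hχ, LinearMap.aeval_self_charpoly, LinearMap.zero_apply]
  have hspan : Submodule.span F (Set.range fun i : Fin n => v i) = ⊤ := by
    rcases Nat.eq_zero_or_pos n with h0 | h0
    · have := Module.finrank_zero_iff.1 (hndef.symm.trans h0)
      exact Subsingleton.elim _ _
    have hm : ∀ i, i ≤ n → v i ∈ Submodule.span F (Set.range fun i : Fin n => v i) := by
      intro i hi
      rcases Nat.lt_or_ge i n with h1 | h1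
      · exact Submodule.subset_span ⟨⟨i, h1⟩, rfl⟩
      · rw [le_antisymm hi h1, hvn]
        exact Submodule.zero_mem _
    apply hc
    · have := hm 0 (Nat.zero_le _)
      rwa [hv0] at this
    · intro u hu
      induction hu using Submodule.span_induction with
      | mem x hx =>
        obtain ⟨i, rfl⟩ := hx
        have h1 : X0 (v i) = v (i + 1) - χ.coeff (n - 1 - i) • b := by rw [hvs]; abel
        change X0 (v i) ∈ _
        rw [h1]
        refine Submodule.sub_mem _ (hm _ i.2) (Submodule.smul_mem _ _ ?_)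
        have := hm 0 (Nat.zero_le _)
        rwa [hv0] at this
      | zero => rw [map_zero]; exact Submodule.zero_mem _
      | add x y _ _ hx hy => rw [map_add]; exact Submodule.add_mem _ hx hy
      | smul a x _ hx => rw [map_smul]; exact Submodule.smul_mem _ _ hx
  let B : Basis (Fin n) F V := basisOfTopLeSpanOfCardEqFinrank (fun i : Fin n => v i) hspan.ge (by rw [Fintype.card_fin])
  have hB : ∀ i : Fin n, B i = v i := fun i => by
    rw [coe_basisOfTopLeSpanOfCardEqFinrank]
  let ζ : V →ₗ[F] F := B.constr F fun i => χ.coeff (n - 1 - i) - f.coeff (n - 1 - i)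
  have hζ : ∀ i, i < n → ζ (v i) = χ.coeff (n - 1 - i) - f.coeff (n - 1 - i) := by
    intro i hi
    have := B.constr_basis F (fun i : Fin n => χ.coeff (n - 1 - i) - f.coeff (n - 1 - i)) ⟨i, hi⟩
    rwa [hB] at this
  refine ⟨ζ, ?_⟩
  set X := X0 + ζ.smulRight b with hX
  have hXv : ∀ i, i < n → X (v i) = v (i + 1) - f.coeff (n - 1 - i) • b := by
    intro i hi
    rw [hX, LinearMap.add_apply, LinearMap.smulRight_apply, hζ i hi, hvs, sub_smul]
    abel
  refine charpoly_eq (b := b) ?_ hf hn ?_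
  · intro U hb hU
    have h1 : ∀ i, i < n → v i ∈ U := by
      intro i
      induction i with
      | zero => intro _; rwa [hv0]
      | succ i ih =>
        intro hi
        have h2 : v (i + 1) = X (v i) + f.coeff (n - 1 - i) • b := by rw [hXv i (by omega)]; abel
        rw [h2]
        exact U.add_mem (hU _ (ih (by omega))) (U.smul_mem _ hb)
    rw [eq_top_iff, ← hspan, Submodule.span_le]
    rintro _ ⟨i, rfl⟩
    exact h1 i i.2
  · have h1 : ∀ i, i ≤ n → aeval X (hor f n i) b = v i := by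
      intro i
      induction i with
      | zero => intro _; rw [hor, map_one, Module.End.one_apply, hv0]
      | succ i ih =>
        intro hi
        rw [hor, map_add, map_mul, aeval_X, aeval_C, LinearMap.add_apply, Module.End.mul_apply,
          Module.algebraMap_end_apply, ih (by omega), hXv i (by omega)]
        abel
    have h2 := h1 n le_rfl
    rwa [hor_self hf hn, hvn] at h2

theorem charpoly_dual (T : Module.End F V) : LinearMap.charpoly (M := Dual F V) T.dualMap = T.charpoly := by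
  classical
  let B := Module.finBasis F V
  rw [← LinearMap.charpoly_toMatrix T B, ← LinearMap.charpoly_toMatrix (M := Dual F V) T.dualMap B.dualBasis,
    LinearMap.dualMap_def, LinearMap.toMatrix_transpose, Matrix.charpoly_transpose]

/-- **pole placement**, transposed -/
theorem pole' {Ω : Module.End F V} {ψ : V →ₗ[F] F}
    (ho : ∀ U : Submodule F V, (∀ u ∈ U, Ω u ∈ U) → (∀ u ∈ U, ψ u = 0) → U = ⊥) {g : F[X]} (hg : g.Monic)
    (hn : g.natDegree = finrank F V) : ∃ z : V, (Ω + ψ.smulRight z).charpoly = g := by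
  have hc : Cyc (V := Dual F V) Ω.dualMap ψ := by
    intro U hU hinv
    have h1 : U.dualCoannihilator = ⊥ := by
      apply ho
      · intro u hu
        rw [Submodule.mem_dualCoannihilator] at hu ⊢
        intro φ hφ
        exact hu _ (hinv φ hφ)
      · intro u hu
        rw [Submodule.mem_dualCoannihilator] at hu
        exact hu _ hU
    rw [← Subspace.dualCoannihilator_dualAnnihilator_eq (W := U), h1, Submodule.dualAnnihilator_bot]
  obtain ⟨ζ, hζ⟩ := pole (V := Dual F V) hc hg (by rw [hn, Subspace.dual_finrank_eq])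
  refine ⟨(Module.evalEquiv F V).symm ζ, ?_⟩
  rw [← charpoly_dual, ← hζ]
  congr 1
  refine LinearMap.ext fun φ => LinearMap.ext fun v => ?_
  have h2 : φ ((Module.evalEquiv F V).symm ζ) = ζ φ := Module.apply_evalEquiv_symm_apply F V φ ζ
  simp only [LinearMap.dualMap_apply, LinearMap.add_apply, LinearMap.smulRight_apply, map_add, map_smul, smul_eq_mul,
    LinearMap.smul_apply, h2]
  ring

/-- the inductive statement -/
structure Good (M : V ≃ₗ[F] V) (κ : V) (W : Submodule F V) (Ω : Module.End F V) (y : V) : Prop where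
  mem : κ ∈ W
  zero : Ω κ = 0
  inv : ∀ w ∈ W, Ω w ∈ W
  invM : ∀ w ∈ W, M.symm (Ω w) ∈ W
  nil : ∀ U : Submodule F V, (∀ w ∈ W, M.symm (Ω w) ∈ U → w ∈ U) → W ≤ U
  ker0 : ∀ w ∈ W, Ω w = 0 → ∃ a : F, w = a • κ
  ker1 : ∀ w ∈ W, Ω w = w → ∃ a : F, w = a • y
  spl : ∀ U : Submodule F V, (∀ w ∈ W, Ω w ∈ U → w ∈ U) → (∀ w ∈ W, Ω w - w ∈ U → w ∈ U) → W ≤ U

variable {M : V ≃ₗ[F] V} {κ : V}

theorem good_base (M : V ≃ₗ[F] V) (κ : V) : Good M κ (Submodule.span F {κ}) 0 0 where
  mem := Submodule.mem_span_singleton_self κ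
  zero := rfl
  inv w _ := by rw [LinearMap.zero_apply]; exact Submodule.zero_mem _
  invM w _ := by rw [LinearMap.zero_apply, map_zero]; exact Submodule.zero_mem _
  nil U hU := fun w hw => hU w hw (by rw [LinearMap.zero_apply, map_zero]; exact U.zero_mem)
  ker0 w hw _ := by
    obtain ⟨a, ha⟩ := Submodule.mem_span_singleton.1 hw
    exact ⟨a, ha.symm⟩
  ker1 w _ h := ⟨0, by rw [zero_smul, ← h, LinearMap.zero_apply]⟩
  spl U hU _ := fun w hw => hU w hw (by rw [LinearMap.zero_apply]; exact U.zero_mem)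

/-- extension of a linear map -/
theorem exists_ext (Ω : Module.End F V) {W : Submodule F V} {x : V} (hx : x ∉ W) (t : V) :
    ∃ Ω' : Module.End F V, (∀ w ∈ W, Ω' w = Ω w) ∧ Ω' x = t := by
  obtain ⟨l, hl, hW⟩ := Submodule.exists_le_ker_of_notMem hx
  refine ⟨Ω + ((l x)⁻¹ • l).smulRight (t - Ω x), fun w hw => ?_, ?_⟩
  · have h1 : l w = 0 := hW hw
    rw [LinearMap.add_apply, LinearMap.smulRight_apply, LinearMap.smul_apply, h1, smul_zero, zero_smul, add_zero]
  · rw [LinearMap.add_apply, LinearMap.smulRight_apply, LinearMap.smul_apply, smul_eq_mul, inv_mul_cancel₀ hl, one_smul,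
      add_sub_cancel]

theorem mem_sup_span {W : Submodule F V} {x w : V} : w ∈ W ⊔ Submodule.span F {x} ↔ ∃ u ∈ W, ∃ c : F, w = u + c • x := by
  rw [Submodule.mem_sup]
  constructor
  · rintro ⟨u, hu, v, hv, rfl⟩
    obtain ⟨c, rfl⟩ := Submodule.mem_span_singleton.1 hv
    exact ⟨u, hu, c, rfl⟩
  · rintro ⟨u, hu, c, rfl⟩
    exact ⟨u, hu, c • x, Submodule.smul_mem _ _ (Submodule.mem_span_singleton_self x), rfl⟩

theorem coeff_zero {W : Submodule F V} {x : V} (hx : x ∉ W) {u : V} (hu : u ∈ W) {c : F} (h : u + c • x ∈ W) : c = 0 := by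
  by_contra hc
  apply hx
  have h1 : c • x ∈ W := by
    have := W.sub_mem h hu
    rwa [add_sub_cancel_left] at this
  have := W.smul_mem c⁻¹ h1
  rwa [smul_smul, inv_mul_cancel₀ hc, one_smul] at this

/-- surjective on `W` implies injective on `W` -/
theorem inj_of_surj {W : Submodule F V} {P : Module.End F V} (hP : ∀ w ∈ W, P w ∈ W) (hs : ∀ w ∈ W, ∃ v ∈ W, P v = w)
    {w : V} (hw : w ∈ W) (h0 : P w = 0) : w = 0 := by
  have h1 : Function.Surjective (P.restrict hP) := by
    rintro ⟨w, hw⟩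
    obtain ⟨v, hv, hvw⟩ := hs w hw
    exact ⟨⟨v, hv⟩, Subtype.ext hvw⟩
  have h2 := LinearMap.injective_iff_surjective.2 h1
  have h3 : (⟨w, hw⟩ : W) = 0 := by
    apply h2
    rw [map_zero]
    exact Subtype.ext h0
  exact congrArg Subtype.val h3

theorem surj_of_inj {W : Submodule F V} {P : Module.End F V} (hP : ∀ w ∈ W, P w ∈ W) (hi : ∀ w ∈ W, P w = 0 → w = 0)
    {w : V} (hw : w ∈ W) : ∃ v ∈ W, P v = w := by
  have h1 : Function.Injective (P.restrict hP) := by
    rw [injective_iff_map_eq_zero]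
    rintro ⟨w, hw⟩ h
    exact Subtype.ext (hi w hw (congrArg Subtype.val h))
  obtain ⟨v, hv⟩ := LinearMap.injective_iff_surjective.1 h1 ⟨w, hw⟩
  exact ⟨v, v.2, congrArg Subtype.val hv⟩

theorem good_step (hκ : κ ≠ 0) {W : Submodule F V} {Ω : Module.End F V} {y : V} (h : Good M κ W Ω y) (hW : W ≠ ⊤) :
    ∃ W' Ω' y', W < W' ∧ Good M κ W' Ω' y' := by
  by_cases hinv : ∀ w ∈ W, M w ∈ W
  · -- a start
    obtain ⟨x, -, hx⟩ := SetLike.exists_of_lt hW.lt_top
    obtain ⟨s, hs, hsW⟩ : ∃ s ∈ W, ∀ w ∈ W, Ω w ≠ s := by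
      by_contra hcon
      push Not at hcon
      exact hκ (inj_of_surj h.inv hcon h.mem h.zero)
    obtain ⟨Ω', hΩ, hΩx⟩ := exists_ext Ω hx s
    have hMs : ∀ w ∈ W, M.symm w ∈ W := by
      intro w hw
      obtain ⟨v, hv, hvw⟩ := surj_of_inj (P := (M : V →ₗ[F] V)) hinv
        (fun w _ h0 => (LinearEquiv.map_eq_zero_iff M).1 h0) hw
      have : M.symm w = v := by rw [LinearEquiv.symm_apply_eq]; exact hvw.symm
      rwa [this]
    have key : ∀ u ∈ W, ∀ c : F, Ω' (u + c • x) = Ω u + c • s := fun u hu c => by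
      rw [map_add, map_smul, hΩ u hu, hΩx]
    have keyW : ∀ u ∈ W, ∀ c : F, Ω u + c • s ∈ W := fun u hu c => W.add_mem (h.inv u hu) (W.smul_mem c hs)
    have hle : W ≤ W ⊔ Submodule.span F {x} := le_sup_left
    refine ⟨W ⊔ Submodule.span F {x}, Ω', y, ?_, ?_⟩
    · refine lt_of_le_of_ne hle fun he => hx ?_
      rw [he]
      exact Submodule.mem_sup_right (Submodule.mem_span_singleton_self x)
    · constructor
      · exact hle h.mem
      · rw [hΩ κ h.mem, h.zero]
      · intro w hw
        obtain ⟨u, hu, c, rfl⟩ := mem_sup_span.1 hw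
        rw [key u hu]
        exact hle (keyW u hu c)
      · intro w hw
        obtain ⟨u, hu, c, rfl⟩ := mem_sup_span.1 hw
        rw [key u hu]
        exact hle (hMs _ (keyW u hu c))
      · intro U hU
        have h1 : W ≤ U := h.nil U fun w hw hwU => hU w (hle hw) (by rwa [hΩ w hw])
        intro w hw
        obtain ⟨u, hu, c, rfl⟩ := mem_sup_span.1 hw
        apply hU _ hw
        rw [key u hu]
        exact h1 (hMs _ (keyW u hu c))
      · intro w hw h0
        obtain ⟨u, hu, c, rfl⟩ := mem_sup_span.1 hw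
        rw [key u hu] at h0
        have hc : c = 0 := by
          by_contra hc
          apply hsW (-c⁻¹ • u) (W.smul_mem _ hu)
          rw [map_smul, eq_neg_of_add_eq_zero_left h0, smul_neg, neg_smul, neg_neg, smul_smul, inv_mul_cancel₀ hc,
            one_smul]
        subst hc
        rw [zero_smul, add_zero] at h0 ⊢
        exact h.ker0 u hu h0
      · intro w hw h1
        obtain ⟨u, hu, c, rfl⟩ := mem_sup_span.1 hw
        rw [key u hu] at h1
        have hc : c = 0 := by
          apply coeff_zero hx hu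
          rw [← h1]
          exact keyW u hu c
        subst hc
        rw [zero_smul, add_zero, zero_smul, add_zero] at h1
        rw [zero_smul, add_zero]
        exact h.ker1 u hu h1
      · intro U hU1 hU2
        have h1 : W ≤ U := h.spl U (fun w hw hwU => hU1 w (hle hw) (by rwa [hΩ w hw]))
          (fun w hw hwU => hU2 w (hle hw) (by rwa [hΩ w hw]))
        intro w hw
        obtain ⟨u, hu, c, rfl⟩ := mem_sup_span.1 hw
        apply hU1 _ hw
        rw [key u hu]
        exact h1 (keyW u hu c)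
  · -- a non-start
    push Not at hinv
    obtain ⟨w0, hw0, hx⟩ := hinv
    set x := M w0 with hxdef
    have hMx : M.symm x = w0 := by rw [hxdef, LinearEquiv.symm_apply_apply]
    obtain ⟨y0, y', hy0, hy0M, hy'⟩ : ∃ y0 y' : V, y0 ∈ W ∧ M.symm y0 ∈ W ∧
        ((y0 = 0 ∧ y' = x ∧ ∀ w ∈ W, Ω w = w → w = 0) ∨ (y' = y ∧ ∀ w ∈ W, Ω w - w ≠ y0)) := by
      by_cases hfix : ∀ w ∈ W, Ω w = w → w = 0
      · exact ⟨0, x, W.zero_mem, by rw [map_zero]; exact W.zero_mem, Or.inl ⟨rfl, rfl, hfix⟩⟩
      · by_contra hcon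
        apply hfix
        intro w hw h1
        have hP : ∀ w ∈ W, (Ω - 1) w ∈ W := fun w hw => by
          rw [LinearMap.sub_apply, Module.End.one_apply]
          exact W.sub_mem (h.inv w hw) hw
        refine inj_of_surj hP ?_ hw (by rw [LinearMap.sub_apply, Module.End.one_apply, h1, sub_self])
        intro w hw
        have h2 : ∃ v ∈ W, Ω v - v = Ω w := by
          by_contra h3
          push Not at h3
          exact hcon ⟨Ω w, y, h.inv w hw, h.invM w hw, Or.inr ⟨rfl, h3⟩⟩
        obtain ⟨v, hv, hvw⟩ := h2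
        refine ⟨v - w, W.sub_mem hv hw, ?_⟩
        rw [LinearMap.sub_apply, Module.End.one_apply, map_sub]
        calc Ω v - Ω w - (v - w) = (Ω v - v) - Ω w + w := by abel
          _ = w := by rw [hvw, sub_self, zero_add]
    obtain ⟨Ω', hΩ, hΩx⟩ := exists_ext Ω hx (x + y0)
    have key : ∀ u ∈ W, ∀ c : F, Ω' (u + c • x) = (Ω u + c • y0) + c • x := fun u hu c => by
      rw [map_add, map_smul, hΩ u hu, hΩx, smul_add]; abel
    have keyW : ∀ u ∈ W, ∀ c : F, Ω u + c • y0 ∈ W := fun u hu c => W.add_mem (h.inv u hu) (W.smul_mem c hy0)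
    have keyM : ∀ u ∈ W, ∀ c : F, M.symm (Ω' (u + c • x)) ∈ W := fun u hu c => by
      rw [key u hu, map_add, map_add, map_smul, map_smul, hMx]
      exact W.add_mem (W.add_mem (h.invM u hu) (W.smul_mem _ hy0M)) (W.smul_mem _ hw0)
    have hle : W ≤ W ⊔ Submodule.span F {x} := le_sup_left
    have hxm : x ∈ W ⊔ Submodule.span F {x} := Submodule.mem_sup_right (Submodule.mem_span_singleton_self x)
    refine ⟨W ⊔ Submodule.span F {x}, Ω', y', ?_, ?_⟩
    · refine lt_of_le_of_ne hle fun he => hx ?_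
      rw [he]
      exact hxm
    · constructor
      · exact hle h.mem
      · rw [hΩ κ h.mem, h.zero]
      · intro w hw
        obtain ⟨u, hu, c, rfl⟩ := mem_sup_span.1 hw
        rw [key u hu]
        exact Submodule.add_mem _ (hle (keyW u hu c)) (Submodule.smul_mem _ _ hxm)
      · intro w hw
        obtain ⟨u, hu, c, rfl⟩ := mem_sup_span.1 hw
        exact hle (keyM u hu c)
      · intro U hU
        have h1 : W ≤ U := h.nil U fun w hw hwU => hU w (hle hw) (by rwa [hΩ w hw])
        intro w hw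
        obtain ⟨u, hu, c, rfl⟩ := mem_sup_span.1 hw
        exact hU _ hw (h1 (keyM u hu c))
      · intro w hw h0
        obtain ⟨u, hu, c, rfl⟩ := mem_sup_span.1 hw
        rw [key u hu] at h0
        have hc : c = 0 := coeff_zero hx (keyW u hu c) (by rw [h0]; exact W.zero_mem)
        subst hc
        rw [zero_smul, zero_smul, add_zero, add_zero] at h0
        rw [zero_smul, add_zero]
        exact h.ker0 u hu h0
      · intro w hw h1
        obtain ⟨u, hu, c, rfl⟩ := mem_sup_span.1 hw
        rw [key u hu] at h1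
        have h2 : Ω u + c • y0 = u := add_right_cancel h1
        rcases hy' with ⟨rfl, rfl, h3⟩ | ⟨rfl, h3⟩
        · rw [smul_zero, add_zero] at h2
          exact ⟨c, by rw [h3 u hu h2, zero_add]⟩
        · have hc : c = 0 := by
            by_contra hc
            apply h3 (-c⁻¹ • u) (W.smul_mem _ hu)
            have h4 : Ω u - u = -(c • y0) := by
              rw [eq_neg_iff_add_eq_zero]
              calc Ω u - u + c • y0 = (Ω u + c • y0) - u := by abel
                _ = 0 := by rw [h2, sub_self]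
            rw [map_smul, ← smul_sub, h4, smul_neg, neg_smul, neg_neg, smul_smul, inv_mul_cancel₀ hc, one_smul]
          subst hc
          rw [zero_smul, add_zero] at h2 ⊢
          exact h.ker1 u hu h2
      · intro U hU1 hU2
        have h1 : W ≤ U := h.spl U (fun w hw hwU => hU1 w (hle hw) (by rwa [hΩ w hw]))
          (fun w hw hwU => hU2 w (hle hw) (by rwa [hΩ w hw]))
        intro w hw
        obtain ⟨u, hu, c, rfl⟩ := mem_sup_span.1 hw
        apply hU2 _ hw
        have h2 : Ω' (u + c • x) - (u + c • x) = (Ω u + c • y0) - u := by rw [key u hu]; abel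
        rw [h2]
        exact h1 (W.sub_mem (keyW u hu c) hu)

theorem exists_good (M : V ≃ₗ[F] V) (hκ : κ ≠ 0) : ∃ Ω y, Good M κ ⊤ Ω y := by
  have hwf : WellFounded ((· > ·) : Submodule F V → Submodule F V → Prop) := wellFounded_gt
  obtain ⟨W, ⟨Ω, y, hW⟩, hmax⟩ := hwf.has_min {W | ∃ Ω y, Good M κ W Ω y} ⟨_, 0, 0, good_base M κ⟩
  by_cases h : W = ⊤
  · subst h; exact ⟨Ω, y, hW⟩
  · obtain ⟨W', Ω', y', hlt, hg⟩ := good_step hκ hW h
    exact absurd hlt (hmax W' ⟨Ω', y', hg⟩)

theorem nil_gen {D : Module.End F V} {k : ℕ} (hk : D ^ k = 0) {U : Submodule F V} (hU : ∀ u ∈ U, D u ∈ U)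
    (hs : ∀ v, ∃ u ∈ U, ∃ w, v = u + D w) : U = ⊤ := by
  have hUk : ∀ j : ℕ, ∀ u ∈ U, (D ^ j) u ∈ U := by
    intro j
    induction j with
    | zero => intro u hu; rwa [pow_zero, Module.End.one_apply]
    | succ j ih => intro u hu; rw [pow_succ, Module.End.mul_apply]; exact ih _ (hU u hu)
  have h1 : ∀ j : ℕ, ∀ v, ∃ u ∈ U, ∃ w, v = u + (D ^ j) w := by
    intro j
    induction j with
    | zero => intro v; exact ⟨0, U.zero_mem, v, by rw [pow_zero, Module.End.one_apply, zero_add]⟩
    | succ j ih =>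
      intro v
      obtain ⟨u, hu, w, rfl⟩ := ih v
      obtain ⟨u', hu', w', rfl⟩ := hs w
      refine ⟨u + (D ^ j) u', U.add_mem hu (hUk j u' hu'), w', ?_⟩
      rw [map_add, pow_succ, Module.End.mul_apply, add_assoc]
  rw [eq_top_iff]
  intro v _
  obtain ⟨u, hu, w, rfl⟩ := h1 k v
  rw [hk, LinearMap.zero_apply, add_zero]
  exact hu

theorem good_nil {Ω : Module.End F V} {y : V} (h : Good M κ ⊤ Ω y) :
    ((M.symm : V →ₗ[F] V) ∘ₗ Ω : Module.End F V) ^ finrank F V = 0 := by
  set D : Module.End F V := (M.symm : V →ₗ[F] V) ∘ₗ Ω with hD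
  have h1 : (⊤ : Submodule F V) ≤ LinearMap.ker (D ^ finrank F V) := by
    apply h.nil
    intro w _ hw
    have h2 : w ∈ LinearMap.ker (D ^ (finrank F V + 1)) := by
      rw [LinearMap.mem_ker, pow_succ, Module.End.mul_apply]
      exact hw
    rwa [Module.End.ker_pow_eq_ker_pow_finrank_of_le (Nat.le_succ _)] at h2
  exact LinearMap.ker_eq_top.1 (eq_top_iff.2 h1)

theorem good_obs {Ω : Module.End F V} {y : V} (h : Good M κ ⊤ Ω y) {ψ : V →ₗ[F] F} (h0 : ψ κ ≠ 0)
    (h1 : y ≠ 0 → ψ y ≠ 0) (U : Submodule F V) (hU : ∀ u ∈ U, Ω u ∈ U) (hψ : ∀ u ∈ U, ψ u = 0) : U = ⊥ := by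
  set P : Module.End F V := Ω * (Ω - 1) with hP
  have hc1 : Commute P Ω := by
    have : Commute Ω (Ω - 1) := (Commute.refl Ω).sub_right (Commute.one_right Ω)
    exact (Commute.refl Ω).mul_left this.symm
  have hc2 : Commute P (Ω - 1) := hc1.sub_right (Commute.one_right P)
  have hP' : ∀ w, P w = (Ω - 1) (Ω w) := by
    intro w
    rw [hP, Module.End.mul_apply, LinearMap.sub_apply, LinearMap.sub_apply, map_sub, Module.End.one_apply,
      Module.End.one_apply]
  have hPt : P ^ finrank F V = 0 := by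
    have h2 : (⊤ : Submodule F V) ≤ LinearMap.ker (P ^ finrank F V) := by
      apply h.spl
      · intro w _ hw
        have h2 : w ∈ LinearMap.ker (P ^ (finrank F V + 1)) := by
          rw [LinearMap.mem_ker] at hw ⊢
          rw [pow_succ, Module.End.mul_apply, hP', ← Module.End.mul_apply, (hc2.pow_left _).eq, Module.End.mul_apply, hw,
            map_zero]
        rwa [Module.End.ker_pow_eq_ker_pow_finrank_of_le (Nat.le_succ _)] at h2
      · intro w _ hw
        have h2 : w ∈ LinearMap.ker (P ^ (finrank F V + 1)) := by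
          rw [LinearMap.mem_ker] at hw ⊢
          have h3 : P w = Ω (Ω w - w) := by
            rw [hP, Module.End.mul_apply, LinearMap.sub_apply, Module.End.one_apply]
          rw [pow_succ, Module.End.mul_apply, h3, ← Module.End.mul_apply, (hc1.pow_left _).eq, Module.End.mul_apply, hw,
            map_zero]
        rwa [Module.End.ker_pow_eq_ker_pow_finrank_of_le (Nat.le_succ _)] at h2
    exact LinearMap.ker_eq_top.1 (eq_top_iff.2 h2)
  have hU1 : ∀ u ∈ U, (Ω - 1) u ∈ U := fun u hu => by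
    rw [LinearMap.sub_apply, Module.End.one_apply]
    exact U.sub_mem (hU u hu) hu
  have h2 : ∀ k : ℕ, ∀ u ∈ U, (P ^ k) u = 0 → u = 0 := by
    intro k
    induction k with
    | zero => intro u _ hu; rwa [pow_zero, Module.End.one_apply] at hu
    | succ k ih =>
      intro u hu hk
      rw [pow_succ, Module.End.mul_apply] at hk
      have hPu : P u ∈ U := by rw [hP, Module.End.mul_apply]; exact hU _ (hU1 u hu)
      have h3 := ih _ hPu hk
      rw [hP, Module.End.mul_apply] at h3
      obtain ⟨a, ha⟩ := h.ker0 _ trivial h3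
      have h4 : (Ω - 1) u = 0 := by
        have h5 := hψ _ (hU1 u hu)
        rw [ha, map_smul, smul_eq_mul] at h5
        rw [ha, (mul_eq_zero.1 h5).resolve_right h0, zero_smul]
      rw [LinearMap.sub_apply, Module.End.one_apply, sub_eq_zero] at h4
      obtain ⟨a, ha⟩ := h.ker1 _ trivial h4
      by_cases hy : y = 0
      · rw [ha, hy, smul_zero]
      · have h5 := hψ _ hu
        rw [ha, map_smul, smul_eq_mul] at h5
        rw [ha, (mul_eq_zero.1 h5).resolve_right (h1 hy), zero_smul]
  rw [Submodule.eq_bot_iff]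
  intro u hu
  exact h2 _ u hu (by rw [hPt, LinearMap.zero_apply])

theorem exists_psi (hκ : κ ≠ 0) (y : V) : ∃ ψ : V →ₗ[F] F, ψ κ ≠ 0 ∧ (y ≠ 0 → ψ y ≠ 0) := by
  have h1 : ∀ v : V, v ≠ 0 → ∃ φ : V →ₗ[F] F, φ v ≠ 0 := by
    intro v hv
    by_contra hcon
    push Not at hcon
    exact hv ((Module.forall_dual_apply_eq_zero_iff F v).1 hcon)
  obtain ⟨φ, hφ⟩ := h1 κ hκ
  by_cases hy : y = 0
  · exact ⟨φ, hφ, fun h => absurd hy h⟩
  by_cases hφy : φ y = 0
  · obtain ⟨χ, hχ⟩ := h1 y hy
    by_cases hχκ : χ κ = 0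
    · exact ⟨φ + χ, by rwa [LinearMap.add_apply, hχκ, add_zero], fun _ => by rwa [LinearMap.add_apply, hφy, zero_add]⟩
    · exact ⟨χ, hχκ, fun _ => hχ⟩
  · exact ⟨φ, hφ, fun _ => hφy⟩

theorem det_ne_zero_of_coeff {T : Module.End F V} (h : T.charpoly.coeff 0 ≠ 0) : LinearMap.det T ≠ 0 := by
  rw [LinearMap.det_eq_sign_charpoly_coeff]
  exact mul_ne_zero (pow_ne_zero _ (neg_ne_zero.2 one_ne_zero)) h

/-- **Lemma P** -/
theorem lemmaP (M : V ≃ₗ[F] V) {ε : V} (hε : ε ≠ 0) {g : F[X]} (hg : g.Monic) (hn : g.natDegree = finrank F V)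
    (h0 : g.coeff 0 ≠ 0) : ∃ Y : V ≃ₗ[F] V, LinearMap.charpoly (Y : V →ₗ[F] V) = g ∧
      Cyc ((M : V →ₗ[F] V) ∘ₗ (Y.symm : V →ₗ[F] V)) ε := by
  have hκ : M.symm ε ≠ 0 := fun h => hε ((LinearEquiv.map_eq_zero_iff M.symm).1 h)
  obtain ⟨Ω, y, hG⟩ := exists_good M hκ
  obtain ⟨ψ, hψ0, hψ1⟩ := exists_psi (F := F) hκ y
  obtain ⟨z, hz⟩ := pole' (Ω := Ω) (ψ := ψ) (good_obs hG hψ0 hψ1) hg hn
  set T : Module.End F V := Ω + ψ.smulRight z with hT
  have hdet : LinearMap.det T ≠ 0 := det_ne_zero_of_coeff (by rwa [hz])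
  let Y : V ≃ₗ[F] V := LinearMap.equivOfDetNeZero T hdet
  have hY : ∀ v, Y v = Ω v + ψ v • z := fun v => rfl
  refine ⟨Y, hz, ?_⟩
  intro U hU hinv
  -- `G U = U`
  have hsurj : ∀ w ∈ U, ∃ v ∈ U, M (Y.symm v) = w := by
    intro w hw
    exact surj_of_inj (P := (M : V →ₗ[F] V) ∘ₗ (Y.symm : V →ₗ[F] V)) hinv (fun w _ h => by
      have h1 : M (Y.symm w) = 0 := h
      rwa [LinearEquiv.map_eq_zero_iff, LinearEquiv.map_eq_zero_iff] at h1) hw
  -- `U' = Y⁻¹ U`
  set U' : Submodule F V := U.comap (Y : V →ₗ[F] V) with hU'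
  have hmem : ∀ v, v ∈ U' ↔ Y v ∈ U := fun v => Iff.rfl
  have hM : ∀ v, v ∈ U' → M v ∈ U := by
    intro v hv
    have := hinv _ ((hmem v).1 hv)
    change M (Y.symm (Y v)) ∈ U at this
    rwa [LinearEquiv.symm_apply_apply] at this
  have hM' : ∀ w ∈ U, M.symm w ∈ U' := by
    intro w hw
    obtain ⟨v, hv, rfl⟩ := hsurj w hw
    rw [LinearEquiv.symm_apply_apply, hmem, LinearEquiv.apply_symm_apply]
    exact hv
  have hκU : M.symm ε ∈ U' := hM' ε hU
  have hstep : ∀ v ∈ U', M.symm (Y v) ∈ U' := fun v hv => hM' _ ((hmem v).1 hv)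
  -- `z'' = M⁻¹ z ∈ U'`
  have hzU : M.symm z ∈ U' := by
    have h1 := hstep _ hκU
    rw [hY, hG.zero, zero_add, map_smul] at h1
    have h2 := U'.smul_mem (ψ (M.symm ε))⁻¹ h1
    rwa [smul_smul, inv_mul_cancel₀ hψ0, one_smul] at h2
  have hDU : ∀ v ∈ U', ((M.symm : V →ₗ[F] V) ∘ₗ Ω : Module.End F V) v ∈ U' := by
    intro v hv
    have h1 := hstep v hv
    rw [hY, map_add, map_smul] at h1
    have h2 := U'.sub_mem h1 (U'.smul_mem (ψ v) hzU)
    rwa [add_sub_cancel_right] at h2
  have htop : U' = ⊤ := by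
    refine nil_gen (good_nil hG) hDU ?_
    intro v
    obtain ⟨w, hw⟩ := Y.surjective (M v)
    refine ⟨ψ w • M.symm z, U'.smul_mem _ hzU, w, ?_⟩
    have h1 : v = M.symm (Y w) := by rw [hw, LinearEquiv.symm_apply_apply]
    rw [h1, hY, map_add, map_smul, add_comm]
    rfl
  rw [eq_top_iff]
  intro v _
  have h1 : Y.symm v ∈ U' := by rw [htop]; trivial
  rwa [hmem, LinearEquiv.apply_symm_apply] at h1

end pole

section main

variable {F W : Type*} [Field F] [AddCommGroup W] [Module F W] [FiniteDimensional F W]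

/-- the characteristic polynomial of `[[c, y], [0, T]]` -/
theorem charpoly_block {c : F} {y : W →ₗ[F] F} {T : Module.End F W} {Z : Module.End F (F × W)}
    (hZ : ∀ s w, Z (s, w) = (c * s + y w, T w)) : Z.charpoly = (X - C c) * T.charpoly := by
  classical
  let b := Module.finBasis F W
  let b1 : Basis Unit F F := Basis.singleton Unit F
  have h1 : LinearMap.toMatrix (b1.prod b) (b1.prod b) Z =
      Matrix.fromBlocks (Matrix.of fun _ _ => c) (Matrix.of fun _ j => y (b j)) 0 (LinearMap.toMatrix b b T) := by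
    ext i j
    rw [LinearMap.toMatrix_apply]
    rcases j with j | j
    · have h2 : b1.prod b (Sum.inl j) = ((1 : F), (0 : W)) :=
        Prod.ext (by rw [Basis.prod_apply_inl_fst]; exact Basis.singleton_apply _ _ _) (by rw [Basis.prod_apply_inl_snd])
      rw [h2, hZ, mul_one, map_zero, add_zero, map_zero]
      rcases i with i | i
      · rw [Basis.prod_repr_inl, Matrix.fromBlocks_apply₁₁]
        exact Basis.singleton_repr _ _ _ _
      · rw [Basis.prod_repr_inr, Matrix.fromBlocks_apply₂₁]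
        simp
    · have h2 : b1.prod b (Sum.inr j) = ((0 : F), b j) :=
        Prod.ext (by rw [Basis.prod_apply_inr_fst]) (by rw [Basis.prod_apply_inr_snd])
      rw [h2, hZ, mul_zero, zero_add]
      rcases i with i | i
      · rw [Basis.prod_repr_inl, Matrix.fromBlocks_apply₁₂]
        exact Basis.singleton_repr _ _ _ _
      · rw [Basis.prod_repr_inr, Matrix.fromBlocks_apply₂₂, LinearMap.toMatrix_apply]
  rw [← LinearMap.charpoly_toMatrix Z (b1.prod b), h1, Matrix.charpoly_fromBlocks_zero₂₁, LinearMap.charpoly_toMatrix]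
  congr 1
  rw [Matrix.charpoly, Matrix.det_unique, Matrix.charmatrix_apply_eq]
  rfl

/-- the core -/
theorem main_prod {A : Module.End F (F × W)} (hdA : LinearMap.det A ≠ 0) {α : W →ₗ[F] F} {ε : W} {A1 : Module.End F W}
    (hA : ∀ s w, A (s, w) = (α w, s • ε + A1 w)) {f g : F[X]} {c : F} (hf : f.Monic)
    (hfn : f.natDegree = finrank F W + 1) (hg : g.Monic) (hgn : g.natDegree = finrank F W)
    (hdet : f.coeff 0 * ((X - C c) * g).coeff 0 = LinearMap.det A) :
    ∃ P Q : Module.End F (F × W), P * Q = A ∧ P.charpoly = f ∧ Q.charpoly = (X - C c) * g := by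
  have hinj : Function.Injective A := (LinearMap.equivOfDetNeZero A hdA).injective
  have hcoef : ∀ c : F, ((X - C c) * g).coeff 0 = -(c * g.coeff 0) := by
    intro c
    rw [Polynomial.mul_coeff_zero, Polynomial.coeff_sub, Polynomial.coeff_X_zero, Polynomial.coeff_C_zero]
    ring
  have hf0 : f.coeff 0 ≠ 0 := fun h => hdA (by rw [← hdet, h, zero_mul])
  have hg0 : g.coeff 0 ≠ 0 := fun h => hdA (by rw [← hdet, hcoef, h, mul_zero, neg_zero, mul_zero])
  have hε : ε ≠ 0 := by
    rintro rfl
    have h1 : A (1, 0) = A 0 := by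
      rw [hA, map_zero, map_zero, smul_zero, add_zero, map_zero]; rfl
    exact one_ne_zero (congrArg Prod.fst (hinj h1))
  obtain ⟨φ, hφ⟩ : ∃ φ : W →ₗ[F] F, φ ε ≠ 0 := by
    by_contra hcon
    push Not at hcon
    exact hε ((Module.forall_dual_apply_eq_zero_iff F ε).1 hcon)
  let r : W →ₗ[F] F := (φ ε)⁻¹ • φ
  have hr : r ε = 1 := by
    change (φ ε)⁻¹ * φ ε = 1
    exact inv_mul_cancel₀ hφ
  let M0 : Module.End F W := A1 + (α - r ∘ₗ A1).smulRight ε
  have hM0 : ∀ w, M0 w = A1 w + (α w - r (A1 w)) • ε := fun w => rfl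
  have hM0i : Function.Injective M0 := by
    rw [injective_iff_map_eq_zero]
    intro w hw
    rw [hM0] at hw
    have h1 : α w = 0 := by
      have := congrArg r hw
      rw [map_add, map_smul, hr, map_zero, smul_eq_mul, mul_one] at this
      linear_combination this
    have h2 : A1 w = r (A1 w) • ε := by
      rw [h1, zero_sub, neg_smul, ← sub_eq_add_neg, sub_eq_zero] at hw
      exact hw
    have h3 : A (0, w) = A (r (A1 w), 0) := by
      rw [hA, hA, h1, map_zero, zero_smul, zero_add, map_zero, add_zero, ← h2]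
    exact congrArg Prod.snd (hinj h3)
  let M : W ≃ₗ[F] W := LinearEquiv.ofInjectiveEndo M0 hM0i
  have hM : ∀ w, M w = A1 w + (α w - r (A1 w)) • ε := fun w => rfl
  obtain ⟨Y1, hY1, hcyc⟩ := lemmaP M hε hg hgn hg0
  set G : Module.End F W := (M : W →ₗ[F] W) ∘ₗ (Y1.symm : W →ₗ[F] W) with hG
  have hGY : ∀ w, G (Y1 w) = M w := fun w => by
    change M (Y1.symm (Y1 w)) = M w
    rw [LinearEquiv.symm_apply_apply]
  have hGs : ∀ w, ∃ v, G v = w := fun w => ⟨Y1 (M.symm w), by rw [hGY, LinearEquiv.apply_symm_apply]⟩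
  let X0 : Module.End F (F × W) :=
    LinearMap.prod (r ∘ₗ G ∘ₗ LinearMap.snd F F W) ((LinearMap.fst F F W).smulRight ε + G ∘ₗ LinearMap.snd F F W)
  have hX0 : ∀ s w, X0 (s, w) = (r (G w), s • ε + G w) := fun s w => rfl
  have hXc : Cyc X0 ((0 : F), ε) := by
    intro U hU hinv
    have h1 : U.map (LinearMap.snd F F W) = ⊤ := by
      apply hcyc
      · exact ⟨_, hU, rfl⟩
      · rintro _ ⟨⟨s, w⟩, hsw, rfl⟩
        have h2 := U.sub_mem (hinv _ hsw) (U.smul_mem s hU)
        refine ⟨_, h2, ?_⟩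
        rw [hX0]
        change s • ε + G w - s • ε = G w
        rw [add_sub_cancel_left]
    have h2 : ∀ w, ((r w, w) : F × W) ∈ U := by
      intro w
      obtain ⟨v, rfl⟩ := hGs w
      have h3 : v ∈ U.map (LinearMap.snd F F W) := by rw [h1]; trivial
      obtain ⟨⟨s, v'⟩, hsv, rfl⟩ := h3
      have h4 := U.sub_mem (hinv _ hsv) (U.smul_mem s hU)
      rw [hX0] at h4
      have h5 : ((r (G v'), s • ε + G v') : F × W) - s • ((0 : F), ε) = (r (G v'), G v') := by
        rw [Prod.smul_mk, Prod.mk_sub_mk, smul_zero, sub_zero, add_sub_cancel_left]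
      rw [h5] at h4
      exact h4
    have h3 : ((1 : F), (0 : W)) ∈ U := by
      have h4 := U.sub_mem (h2 ε) hU
      rw [hr, Prod.mk_sub_mk, sub_zero, sub_self] at h4
      exact h4
    rw [eq_top_iff]
    rintro ⟨s, w⟩ _
    have h4 := U.add_mem (h2 w) (U.smul_mem (s - r w) h3)
    rw [Prod.smul_mk, Prod.mk_add_mk, smul_eq_mul, mul_one, smul_zero, add_zero, add_sub_cancel] at h4
    exact h4
  have hfr : finrank F (F × W) = finrank F W + 1 := by rw [Module.finrank_prod, Module.finrank_self, add_comm]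
  obtain ⟨ζ, hζ⟩ := pole hXc hf (by rw [hfn, hfr])
  set P : Module.End F (F × W) := X0 + ζ.smulRight ((0 : F), ε) with hP
  set e : F := 1 + ζ (1, 0) with he
  have hζs : ∀ s w, ζ (s, w) = s * ζ (1, 0) + ζ (0, w) := by
    intro s w
    have h1 : ((s, w) : F × W) = s • ((1 : F), (0 : W)) + ((0 : F), w) := by
      rw [Prod.smul_mk, Prod.mk_add_mk, smul_eq_mul, mul_one, smul_zero, add_zero, zero_add]
    rw [h1, map_add, map_smul, smul_eq_mul]
  have hPs : ∀ s w, P (s, w) = (r (G w), (e * s + ζ (0, w)) • ε + G w) := by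
    intro s w
    rw [hP, LinearMap.add_apply, hX0, LinearMap.smulRight_apply, Prod.smul_mk, Prod.mk_add_mk, smul_zero, add_zero, hζs,
      he]
    congr 1
    module
  have he0 : e ≠ 0 := by
    intro h
    have h1 : LinearMap.det P ≠ 0 := det_ne_zero_of_coeff (by rwa [hζ])
    have h2 : P (1, 0) = P 0 := by
      rw [hPs, h, map_zero, map_zero, map_zero]
      have h3 : ζ ((0 : F), (0 : W)) = 0 := map_zero ζ
      rw [h3, zero_mul, zero_add, zero_smul, zero_add]
      rfl
    exact one_ne_zero (congrArg Prod.fst ((LinearMap.equivOfDetNeZero P h1).injective h2))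
  let y : W →ₗ[F] F := e⁻¹ • (r ∘ₗ A1 - α - ζ ∘ₗ LinearMap.inr F F W ∘ₗ (Y1 : W →ₗ[F] W))
  have hy : ∀ w, y w = e⁻¹ * (r (A1 w) - α w - ζ (0, Y1 w)) := fun w => rfl
  let Q : Module.End F (F × W) :=
    LinearMap.prod (e⁻¹ • LinearMap.fst F F W + y ∘ₗ LinearMap.snd F F W) ((Y1 : W →ₗ[F] W) ∘ₗ LinearMap.snd F F W)
  have hQ : ∀ s w, Q (s, w) = (e⁻¹ * s + y w, Y1 w) := fun s w => rfl
  have hPQ : P * Q = A := by
    refine LinearMap.ext fun x => ?_
    obtain ⟨s, w⟩ := x
    rw [Module.End.mul_apply, hQ, hPs, hGY, hM, hA]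
    refine Prod.ext ?_ ?_
    · change r (A1 w + (α w - r (A1 w)) • ε) = α w
      rw [map_add, map_smul, hr, smul_eq_mul, mul_one, add_sub_cancel]
    · change (e * (e⁻¹ * s + y w) + ζ (0, Y1 w)) • ε + (A1 w + (α w - r (A1 w)) • ε) = s • ε + A1 w
      have h1 : e * (e⁻¹ * s + y w) + ζ (0, Y1 w) = s + (r (A1 w) - α w) := by
        rw [hy]
        field_simp
        ring
      rw [h1]
      module
  have hQc : Q.charpoly = (X - C e⁻¹) * g := by
    rw [charpoly_block (T := (Y1 : W →ₗ[F] W)) hQ, hY1]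
  refine ⟨P, Q, hPQ, hζ, ?_⟩
  have h1 : LinearMap.det A = LinearMap.det P * LinearMap.det Q := by rw [← hPQ, map_mul]
  rw [LinearMap.det_eq_sign_charpoly_coeff P, LinearMap.det_eq_sign_charpoly_coeff Q, hζ, hQc, hcoef, ← hdet, hcoef] at h1
  have h2 : ((-1 : F) ^ finrank F (F × W)) * ((-1 : F) ^ finrank F (F × W)) = 1 := by
    rw [← mul_pow, neg_one_mul, neg_neg, one_pow]
  have h3 : c = e⁻¹ := by
    have h4 : f.coeff 0 * g.coeff 0 * (c - e⁻¹) = 0 := by
      linear_combination -h1 + (f.coeff 0 * e⁻¹ * g.coeff 0) * h2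
    have h5 := (mul_eq_zero.1 h4).resolve_left (mul_ne_zero hf0 hg0)
    exact sub_eq_zero.1 h5
  rw [hQc, h3]

end main

/-- **products of two operators with prescribed characteristic polynomials** -/
theorem main {F V : Type*} [Field F] [AddCommGroup V] [Module F V] [FiniteDimensional F V] {A : Module.End F V}
    (hA : LinearMap.det A ≠ 0) (hs : ¬ ∃ a : F, A = a • (1 : Module.End F V)) {f g : F[X]} (hf : f.Monic)
    (hfn : f.natDegree = finrank F V) (hg : g.Monic) (hgn : g.natDegree = finrank F V) {c : F} (hc : g.IsRoot c)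
    (hdet : f.coeff 0 * g.coeff 0 = LinearMap.det A) :
    ∃ P Q : Module.End F V, P * Q = A ∧ P.charpoly = f ∧ Q.charpoly = g := by
  -- the factorisation of `g`
  obtain ⟨g1, hg1⟩ := Polynomial.dvd_iff_isRoot.2 hc
  have hg1m : g1.Monic := (monic_X_sub_C c).of_mul_monic_left (by rwa [← hg1])
  have hg1n : g.natDegree = g1.natDegree + 1 := by
    rw [hg1, (monic_X_sub_C c).natDegree_mul hg1m, natDegree_X_sub_C, add_comm]
  -- a vector which is not an eigenvector
  obtain ⟨u, hu⟩ : ∃ u, LinearIndependent F ![u, A u] := by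
    by_contra hcon
    push Not at hcon
    exact hs (LinearMap.exists_eq_smul_id_of_forall_notLinearIndependent hcon)
  rw [LinearIndependent.pair_iff] at hu
  have hu1 : u ∉ Submodule.span F {A u} := by
    intro h
    obtain ⟨a, ha⟩ := Submodule.mem_span_singleton.1 h
    have := (hu 1 (-a) (by rw [one_smul, neg_smul, ha, add_neg_cancel])).1
    exact one_ne_zero this
  obtain ⟨l0, hl0, hW0⟩ := Submodule.exists_le_ker_of_notMem hu1
  let l : V →ₗ[F] F := (l0 u)⁻¹ • l0
  have hlu : l u = 1 := inv_mul_cancel₀ hl0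
  have hlA : l (A u) = 0 := by
    have h1 : l0 (A u) = 0 := hW0 (Submodule.mem_span_singleton_self _)
    change (l0 u)⁻¹ * l0 (A u) = 0
    rw [h1, mul_zero]
  let W := LinearMap.ker l
  have hWm : ∀ v, v - l v • u ∈ W := fun v => by
    rw [LinearMap.mem_ker, map_sub, map_smul, hlu, smul_eq_mul, mul_one, sub_self]
  have hW : ∀ w : W, l w = 0 := fun w => w.2
  let Φ : V ≃ₗ[F] F × W :=
    { toFun := fun v => (l v, ⟨v - l v • u, hWm v⟩)
      invFun := fun x => x.1 • u + x.2
      map_add' := fun v w => by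
        refine Prod.ext (map_add l v w) (Subtype.ext ?_)
        change v + w - l (v + w) • u = (v - l v • u) + (w - l w • u)
        rw [map_add]; module
      map_smul' := fun a v => by
        refine Prod.ext (map_smul l a v) (Subtype.ext ?_)
        change a • v - l (a • v) • u = a • (v - l v • u)
        rw [map_smul, smul_eq_mul]; module
      left_inv := fun v => by
        change l v • u + (v - l v • u) = v
        abel
      right_inv := fun x => by
        obtain ⟨s, w⟩ := x
        have h1 : l (s • u + (w : V)) = s := by rw [map_add, map_smul, hlu, hW, smul_eq_mul, mul_one, add_zero]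
        refine Prod.ext h1 (Subtype.ext ?_)
        change s • u + (w : V) - l (s • u + (w : V)) • u = w
        rw [h1]; abel }
  have hΦ : ∀ v, Φ v = (l v, ⟨v - l v • u, hWm v⟩) := fun v => rfl
  have hΦs : ∀ s (w : W), Φ.symm (s, w) = s • u + w := fun s w => rfl
  have hfr : finrank F V = finrank F W + 1 := by
    rw [LinearEquiv.finrank_eq Φ, Module.finrank_prod, Module.finrank_self, add_comm]
  let α : W →ₗ[F] F := l ∘ₗ A ∘ₗ W.subtype
  let A1 : Module.End F W :=
    { toFun := fun w => ⟨A w - l (A w) • u, hWm _⟩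
      map_add' := fun v w => Subtype.ext (by
        change A ((v : V) + w) - l (A ((v : V) + w)) • u = (A v - l (A v) • u) + (A w - l (A w) • u)
        rw [map_add, map_add]; module)
      map_smul' := fun a v => Subtype.ext (by
        change A (a • (v : V)) - l (A (a • (v : V))) • u = a • (A v - l (A v) • u)
        rw [map_smul, map_smul, smul_eq_mul]; module) }
  have hAc : ∀ s (w : W), (Φ.conj A) (s, w) = (α w, s • (⟨A u, hlA⟩ : W) + A1 w) := by
    intro s w
    rw [LinearEquiv.conj_apply_apply, hΦs, hΦ]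
    have h1 : l (A (s • u + (w : V))) = α w := by
      rw [map_add, map_smul, map_add, map_smul, hlA, smul_zero, zero_add]
      rfl
    refine Prod.ext h1 (Subtype.ext ?_)
    change A (s • u + (w : V)) - l (A (s • u + (w : V))) • u = s • A u + (A w - l (A w) • u)
    rw [h1, map_add, map_smul]
    change s • A u + A w - l (A w) • u = s • A u + (A w - l (A w) • u)
    abel
  have hdc : LinearMap.det (Φ.conj A) = LinearMap.det A := LinearMap.det_conj A Φ
  obtain ⟨P, Q, hPQ, hP, hQ⟩ := main_prod (A := Φ.conj A) (by rwa [hdc]) hAc hf (by rw [hfn, hfr]) hg1m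
    (by omega) (c := c) (by rw [← hg1, hdc, hdet])
  refine ⟨Φ.symm.conj P, Φ.symm.conj Q, ?_, ?_, ?_⟩
  · refine LinearMap.ext fun v => ?_
    have h1 := congrArg Φ.symm (LinearMap.congr_fun hPQ (Φ v))
    rw [LinearEquiv.conj_apply_apply, LinearEquiv.symm_apply_apply, LinearEquiv.symm_apply_apply] at h1
    rw [Module.End.mul_apply, LinearEquiv.conj_apply_apply, LinearEquiv.conj_apply_apply, LinearEquiv.symm_symm,
      LinearEquiv.apply_symm_apply]
    exact h1
  · rw [LinearEquiv.charpoly_conj, hP]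
  · rw [LinearEquiv.charpoly_conj, hQ, hg1]

/-- **Theorem TL** -/
theorem exists_mul_eq {F : Type*} [Field F] {ι : Type*} [Fintype ι] [DecidableEq ι] (A : Matrix ι ι F) (hA : A.det ≠ 0)
    (hs : ¬ ∃ a : F, A = Matrix.scalar ι a) {f g : F[X]} (hf : f.Monic) (hfn : f.natDegree = Fintype.card ι)
    (hg : g.Monic) (hgn : g.natDegree = Fintype.card ι) {c : F} (hc : g.IsRoot c)
    (hdet : f.coeff 0 * g.coeff 0 = A.det) :
    ∃ P Q : Matrix ι ι F, P * Q = A ∧ P.charpoly = f ∧ Q.charpoly = g := by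
  obtain ⟨P, Q, hPQ, hP, hQ⟩ := main (A := Matrix.toLin' A) (by rwa [LinearMap.det_toLin']) (by
    rintro ⟨a, ha⟩
    apply hs
    refine ⟨a, ?_⟩
    rw [← LinearMap.toMatrix'_toLin' A, ha, map_smul, LinearMap.toMatrix'_one, Matrix.smul_one_eq_diagonal,
      Matrix.scalar_apply]) hf (by rw [hfn, Module.finrank_fintype_fun_eq_card]) hg
    (by rw [hgn, Module.finrank_fintype_fun_eq_card]) hc (by rw [LinearMap.det_toLin', hdet])
  refine ⟨LinearMap.toMatrix' P, LinearMap.toMatrix' Q, ?_, ?_, ?_⟩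
  · rw [← LinearMap.toMatrix'_mul, hPQ, LinearMap.toMatrix'_toLin']
  · rw [← Matrix.charpoly_toLin', Matrix.toLin'_toMatrix', hP]
  · rw [← Matrix.charpoly_toLin', Matrix.toLin'_toMatrix', hQ]

end Cfsg.Agent.H117.TL
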