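import Cfsg.Agent.H957.TL.Glue

/-!
# Theorem L: cyclic `4 × 4` matrices with characteristic polynomial `p ^ 2` (helper117)

`A` cyclic with charpoly `p ^ 2`, `deg p = 2`: `A = X Y` with prescribed characteristic polynomials.
-/

set_option autoImplicit false

namespace Cfsg.Agent.H117.TLc

open Matrix Polynomial Cfsg.Agent.H957 Cfsg.Agent.H957.TL

variable {F : Type*} [Field F]

section Cyclic

variable {m n : Type*} [Fintype m] [DecidableEq m] [Fintype n] [DecidableEq n]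

/-- evaluation at a vector -/
noncomputable def ev (A : Matrix m m F) (v : m → F) : F[X] →ₗ[F] (m → F) :=
  (Matrix.mulVecBilin F F).flip v ∘ₗ (aeval A).toLinearMap

theorem ev_apply (A : Matrix m m F) (v : m → F) (c : F[X]) : ev A v c = aeval A c *ᵥ v := rfl

theorem ev_mul (A : Matrix m m F) (v : m → F) (c d : F[X]) : ev A v (c * d) = aeval A c *ᵥ ev A v d := by
  rw [ev_apply, ev_apply, map_mul, mulVec_mulVec]

theorem ev_eq_zero {A : Matrix m m F} {p : F[X]} (hp : Irreducible p) {k : ℕ} (hA : A.charpoly = p ^ (k + 1))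
    {v : m → F} (hv : aeval A (p ^ k) *ᵥ v ≠ 0) (c : F[X]) : ev A v c = 0 ↔ p ^ (k + 1) ∣ c := by
  classical
  constructor
  · intro h
    let d := EuclideanDomain.gcd c (p ^ (k + 1))
    have hd1 : d ∣ c := EuclideanDomain.gcd_dvd_left _ _
    have hd2 : d ∣ p ^ (k + 1) := EuclideanDomain.gcd_dvd_right _ _
    have hd3 : d = c * EuclideanDomain.gcdA c (p ^ (k + 1)) + p ^ (k + 1) * EuclideanDomain.gcdB c (p ^ (k + 1)) :=
      EuclideanDomain.gcd_eq_gcd_ab _ _
    have hd4 : ev A v d = 0 := by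
      rw [hd3, map_add, mul_comm c, ev_mul, h, mulVec_zero, zero_add, ← hA, mul_comm, ev_mul, ev_apply,
        aeval_self_charpoly, zero_mulVec, mulVec_zero]
    obtain ⟨i, hi, hdi⟩ := (dvd_prime_pow hp.prime _).1 hd2
    rcases Nat.lt_or_ge i (k + 1) with h1 | h1
    · exfalso
      have h2 : d ∣ p ^ k := hdi.dvd.trans (pow_dvd_pow p (by omega))
      obtain ⟨e, he⟩ := h2
      apply hv
      rw [← ev_apply, he, mul_comm, ev_mul, hd4, mulVec_zero]
    · have h2 : i = k + 1 := le_antisymm hi h1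
      rw [h2] at hdi
      exact hdi.symm.dvd.trans hd1
  · rintro ⟨e, rfl⟩
    rw [← hA, mul_comm, ev_mul, ev_apply, aeval_self_charpoly, zero_mulVec, mulVec_zero]

theorem ev_surj {A : Matrix m m F} {p : F[X]} (hp : Irreducible p) {k : ℕ} (hA : A.charpoly = p ^ (k + 1))
    {v : m → F} (hv : aeval A (p ^ k) *ᵥ v ≠ 0) : Function.Surjective (ev A v) := by
  let N := Fintype.card m
  let g : degreeLT F N →ₗ[F] (m → F) := ev A v ∘ₗ (degreeLT F N).subtype
  have hg : Function.Injective g := by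
    rw [injective_iff_map_eq_zero]
    intro c hc
    have h1 : ev A v c = 0 := hc
    rw [ev_eq_zero hp hA hv, ← hA] at h1
    have h2 := mem_degreeLT.1 c.2
    rw [← A.charpoly_degree_eq_dim] at h2
    exact Subtype.ext (Polynomial.eq_zero_of_dvd_of_degree_lt h1 h2)
  have hfin := Module.Finite.equiv (degreeLTEquiv F N).symm
  have h2 : Module.finrank F (degreeLT F N) = Module.finrank F (m → F) := by
    rw [(degreeLTEquiv F N).finrank_eq, Module.finrank_fin_fun, Module.finrank_fintype_fun_eq_card]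
  have h3 := (LinearMap.injective_iff_surjective_of_finrank_eq_finrank h2).1 hg
  intro y
  obtain ⟨c, hc⟩ := h3 y
  exact ⟨c, hc⟩

/-- cyclic matrices with the same characteristic polynomial `p ^ (k + 1)` are similar -/
theorem similar_cyc {A : Matrix m m F} {B : Matrix n n F} {p : F[X]} (hp : Irreducible p) {k : ℕ}
    (hA : A.charpoly = p ^ (k + 1)) (hB : B.charpoly = p ^ (k + 1)) (hA' : aeval A (p ^ k) ≠ 0)
    (hB' : aeval B (p ^ k) ≠ 0) :
    ∃ (P : Matrix m n F) (P' : Matrix n m F), P * P' = 1 ∧ P' * P = 1 ∧ P' * A * P = B := by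
  obtain ⟨v, hv⟩ : ∃ v, aeval A (p ^ k) *ᵥ v ≠ 0 := by
    by_contra hc
    push Not at hc
    apply hA'
    ext i j
    have := congrFun (hc (Pi.single j 1)) i
    simpa using this
  obtain ⟨w, hw⟩ : ∃ v, aeval B (p ^ k) *ᵥ v ≠ 0 := by
    by_contra hc
    push Not at hc
    apply hB'
    ext i j
    have := congrFun (hc (Pi.single j 1)) i
    simpa using this
  have hker : LinearMap.ker (ev A v) = LinearMap.ker (ev B w) := by
    ext c
    rw [LinearMap.mem_ker, LinearMap.mem_ker, ev_eq_zero hp hA hv, ev_eq_zero hp hB hw]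
  let E : (m → F) ≃ₗ[F] (n → F) := ((ev A v).quotKerEquivOfSurjective (ev_surj hp hA hv)).symm ≪≫ₗ
    (Submodule.quotEquivOfEq _ _ hker) ≪≫ₗ ((ev B w).quotKerEquivOfSurjective (ev_surj hp hB hw))
  have hE : ∀ c, E (ev A v c) = ev B w c := by
    intro c
    have h1 : ((ev A v).quotKerEquivOfSurjective (ev_surj hp hA hv)).symm (ev A v c) = Submodule.Quotient.mk c := by
      rw [LinearEquiv.symm_apply_eq]
      rfl
    show ((ev B w).quotKerEquivOfSurjective (ev_surj hp hB hw)) (Submodule.quotEquivOfEq _ _ hker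
      (((ev A v).quotKerEquivOfSurjective (ev_surj hp hA hv)).symm (ev A v c))) = _
    rw [h1]
    rfl
  have hEA : ∀ x, E (A *ᵥ x) = B *ᵥ E x := by
    intro x
    obtain ⟨c, rfl⟩ := ev_surj hp hA hv x
    have h1 : A *ᵥ ev A v c = ev A v (X * c) := by rw [ev_mul, aeval_X]
    rw [h1, hE, hE, ev_mul, aeval_X]
  refine ⟨LinearMap.toMatrix' E.symm.toLinearMap, LinearMap.toMatrix' E.toLinearMap, ?_, ?_, ?_⟩
  · rw [← LinearMap.toMatrix'_comp, LinearEquiv.symm_comp, LinearMap.toMatrix'_id]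
  · rw [← LinearMap.toMatrix'_comp, LinearEquiv.comp_symm, LinearMap.toMatrix'_id]
  · have h1 : E.toLinearMap ∘ₗ Matrix.toLin' A ∘ₗ E.symm.toLinearMap = Matrix.toLin' B := by
      apply LinearMap.ext
      intro y
      show E (A *ᵥ (E.symm y)) = B *ᵥ y
      rw [hEA, LinearEquiv.apply_symm_apply]
    have h2 := congrArg LinearMap.toMatrix' h1
    rw [LinearMap.toMatrix'_comp, LinearMap.toMatrix'_comp, LinearMap.toMatrix'_toLin',
      LinearMap.toMatrix'_toLin', ← Matrix.mul_assoc] at h2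
    exact h2

end Cyclic

section Four

/-- the block `B` -/
def B2 (τ ν : F) : Matrix (Fin 2) (Fin 2) F := !![0, 1; -ν, τ]

/-- the block `E` -/
def E2 (τ ν : F) : Matrix (Fin 2) (Fin 2) F := !![0, -ν; 1, τ]

/-- the shift `J` -/
def J2 (τ c : F) : Matrix (Fin 2) (Fin 2) F := !![0, -c; 0, c * (1 - τ)]

/-- the observation vector -/
def e2 : Fin 2 → F := ![1, 0]

theorem obs_J2 (τ : F) {c : F} (hc : c ≠ 0) : Obs (J2 τ c) e2 := by
  intro v hv
  have h0 := hv 0
  have h1 := hv 1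
  simp [e2, J2, dotProduct, Fin.sum_univ_two, mulVec] at h0 h1
  funext i
  fin_cases i
  · simpa using h0
  · simpa [hc] using h1

/-- the row of polynomials -/
noncomputable def mm (τ c : F) : Fin 2 → F[X] := ![-C τ + X * C (c * (1 - τ)), 1 + X * C c]

theorem row_B2 (τ ν c : F) (x : Fin 2 → F) : TL.row e2 (J2 τ c + vecMulVec x e2) (B2 τ ν) = mm τ c := by
  have hJ : J2 τ c + vecMulVec x e2 = !![x 0, -c; x 1, c * (1 - τ)] := by
    ext i j
    fin_cases i <;> fin_cases j <;> simp [J2, e2]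
  funext i
  rw [TL.row, pen, adjugate_fin_two, hJ]
  fin_cases i
  · simp [e2, B2, mm, vecMul, dotProduct, Fin.sum_univ_two]
    try ring
  · simp [e2, B2, mm, vecMul, dotProduct, Fin.sum_univ_two]
    try ring

theorem row_E2 (τ ν c : F) : TL.row e2 (J2 τ c) (E2 τ ν)ᵀ = mm τ c := by
  have h := row_B2 τ ν c 0
  rw [zero_vecMulVec, add_zero] at h
  rw [← h]
  congr 1
  ext i j
  fin_cases i <;> fin_cases j <;> simp [E2, B2]

theorem mm_indep (τ : F) {c : F} (hc : c ≠ 0) : LinearIndependent F (mm τ c) := by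
  rw [Fintype.linearIndependent_iff]
  intro g hg
  rw [Fin.sum_univ_two] at hg
  have h0 := congrArg (fun p => coeff p 0) hg
  have h1 := congrArg (fun p => coeff p 1) hg
  simp [mm, coeff_one] at h0 h1
  have h2 : c * g 0 = 0 := by linear_combination h1 - c * h0
  have h3 : g 0 = 0 := by
    rcases mul_eq_zero.1 h2 with h | h
    · exact absurd h hc
    · exact h
  have h4 : g 1 = 0 := by
    rw [h3] at h0
    linear_combination h0
  intro i
  fin_cases i
  · exact h3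
  · exact h4

theorem mm_mem (τ c : F) (i : Fin 2) : mm τ c i ∈ degreeLT F 2 := by
  rw [← row_E2 τ 1 c]
  exact row_mem _ _ _ _

/-- the element of the kernel -/
def ker2 (τ c : F) : Matrix (Fin 2) (Fin 2) F :=
  !![1 - c, 1 - (1 - τ) * (1 - c); -(1 - τ) * (1 - c) - c, -(1 - c) * ((1 - τ) * τ)]

theorem sum_ker2 (τ c : F) : ∑ i, ∑ j, ker2 τ c i j • (mm τ 1 i * mm τ c j) = 0 := by
  simp only [Fin.sum_univ_two, ker2, mm, smul_eq_C_mul]
  simp
  ring

theorem sum_add2 (τ c t : F) (Q : Matrix (Fin 2) (Fin 2) F) :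
    ∑ i, ∑ j, (Q + t • ker2 τ c) i j • (mm τ 1 i * mm τ c j) = ∑ i, ∑ j, Q i j • (mm τ 1 i * mm τ c j) := by
  have h : ∀ i j, (Q + t • ker2 τ c) i j • (mm τ 1 i * mm τ c j) =
      Q i j • (mm τ 1 i * mm τ c j) + t • (ker2 τ c i j • (mm τ 1 i * mm τ c j)) := by
    intro i j
    rw [Matrix.add_apply, Matrix.smul_apply, add_smul, smul_eq_mul, mul_smul]
  simp only [h, Finset.sum_add_distrib, ← Finset.smul_sum, sum_ker2, smul_zero, add_zero]

theorem charpoly_B2 (τ ν : F) : (B2 τ ν).charpoly = X ^ 2 - C τ * X + C ν := by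
  rw [charpoly_fin_two]
  simp [B2, trace_fin_two, det_fin_two]

theorem charpoly_E2 (τ ν : F) : (E2 τ ν).charpoly = X ^ 2 - C τ * X + C ν := by
  rw [charpoly_fin_two]
  simp [E2, trace_fin_two, det_fin_two]

/-- the `(0, 0)` and `(0, 1)` entries of the obstruction -/
theorem bad_iff (τ ν : F) (Q : Matrix (Fin 2) (Fin 2) F)
    (h : aeval (fromBlocks (B2 τ ν) Q 0 (E2 τ ν)) (X ^ 2 - C τ * X + C ν : F[X]) = 0) :
    Q 1 0 + Q 0 1 = τ * Q 0 0 ∧ Q 1 1 = ν * Q 0 0 := by
  have e : aeval (fromBlocks (B2 τ ν) Q 0 (E2 τ ν)) (X ^ 2 - C τ * X + C ν : F[X]) =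
      fromBlocks (B2 τ ν) Q 0 (E2 τ ν) * fromBlocks (B2 τ ν) Q 0 (E2 τ ν) - τ • fromBlocks (B2 τ ν) Q 0 (E2 τ ν) +
        ν • (1 : Matrix (Fin 2 ⊕ Fin 2) (Fin 2 ⊕ Fin 2) F) := by
    simp [pow_two, Algebra.algebraMap_eq_smul_one]
  rw [e] at h
  have h0 := congrFun (congrFun h (Sum.inl 0)) (Sum.inr 0)
  have h1 := congrFun (congrFun h (Sum.inl 0)) (Sum.inr 1)
  simp [fromBlocks_multiply, B2, E2, Matrix.mul_apply, Fin.sum_univ_two, vecMul, dotProduct] at h0 h1
  constructor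
  · linear_combination h0
  · linear_combination h1

theorem exists_Q {τ ν c : F} (hν : ν ≠ 0) (hc : c ≠ 0) (hc1 : c ≠ 1) {f g : F[X]} (hf : f.Monic) (hg : g.Monic)
    (hfn : f.natDegree = 4) (hgn : g.natDegree = 4) (h0 : f.coeff 0 * g.coeff 0 = ν * ν) :
    ∃ Q : Matrix (Fin 2) (Fin 2) F, Fac (fromBlocks (B2 τ ν) Q 0 (E2 τ ν)) f g ∧
      aeval (fromBlocks (B2 τ ν) Q 0 (E2 τ ν)) (X ^ 2 - C τ * X + C ν : F[X]) ≠ 0 := by
  have hB : (B2 τ ν).det = ν := by simp [B2, det_fin_two]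
  have hE : (E2 τ ν).det = ν := by simp [E2, det_fin_two]
  obtain ⟨x, G, hG, h⟩ := core_of (k := 1) (r := 1) (B := B2 τ ν) (E := E2 τ ν) (by rw [hB]; exact hν)
    (by rw [hE]; exact hν) (obs_J2 τ one_ne_zero) (obs_J2 τ hc) hf hg hfn hgn (by rw [hB, hE, h0])
  rw [row_B2, row_E2] at h
  obtain ⟨Q0, hQ0⟩ := span_mul (mm τ 1) (mm τ c) (mm_indep τ one_ne_zero) (mm_mem τ 1) (mm_indep τ hc) (mm_mem τ c)
    (by norm_num) (by norm_num) hG
  by_cases h1 : aeval (fromBlocks (B2 τ ν) Q0 0 (E2 τ ν)) (X ^ 2 - C τ * X + C ν : F[X]) = 0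
  · refine ⟨Q0 + (1 : F) • ker2 τ c, h _ (by rw [sum_add2]; exact hQ0), ?_⟩
    intro h2
    obtain ⟨a1, a2⟩ := bad_iff _ _ _ h1
    obtain ⟨b1, b2⟩ := bad_iff _ _ _ h2
    simp [ker2] at b1 b2
    have hc' : 1 - c ≠ 0 := sub_ne_zero.2 hc1.symm
    have e1 : (1 - c) * (τ - 1) = 0 := by linear_combination b1 - a1
    have e2 : (1 - c) * (ν + (1 - τ) * τ) = 0 := by linear_combination a2 - b2
    have e3 : τ - 1 = 0 := (mul_eq_zero.1 e1).resolve_left hc'
    have e4 := (mul_eq_zero.1 e2).resolve_left hc'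
    apply hν
    linear_combination e4 + τ * e3
  · exact ⟨Q0, h _ hQ0, h1⟩

/-- **Theorem L, `n = 4`, cyclic, characteristic polynomial `p ^ 2`** -/
theorem fac_four [Finite F] (h3 : 3 ≤ Nat.card F) (A : Matrix (Fin 4) (Fin 4) F) {p : F[X]} (hp : Irreducible p)
    (hpm : p.Monic) (hp2 : p.natDegree = 2) (hA : A.charpoly = p ^ 2) (hne : aeval A p ≠ 0) (hdet : A.det ≠ 0)
    {f g : F[X]} (hf : f.Monic) (hg : g.Monic) (hfn : f.natDegree = 4) (hgn : g.natDegree = 4)
    (h0 : f.coeff 0 * g.coeff 0 = A.det) : Fac A f g := by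
  classical
  have := Fintype.ofFinite F
  obtain ⟨c, hc⟩ : ∃ c : F, c ∉ ({0, 1} : Finset F) := by
    by_contra hcon
    push Not at hcon
    have h1 : (Finset.univ : Finset F) ⊆ {0, 1} := fun x _ => hcon x
    have h2 := Finset.card_le_card h1
    rw [Finset.card_univ, ← Nat.card_eq_fintype_card] at h2
    have h4 := Finset.card_le_two (a := (0 : F)) (b := 1)
    omega
  simp only [Finset.mem_insert, Finset.mem_singleton, not_or] at hc
  obtain ⟨hc0, hc1⟩ := hc
  let τ := -p.coeff 1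
  let ν := p.coeff 0
  have hpe : p = X ^ 2 - C τ * X + C ν := by
    have h1 := p.as_sum_range_C_mul_X_pow
    rw [hp2, Finset.sum_range_succ, Finset.sum_range_succ, Finset.sum_range_one] at h1
    have h2 : p.coeff 2 = 1 := by rw [← hp2]; exact hpm
    rw [h2, C_1, one_mul, pow_zero, mul_one, pow_one] at h1
    rw [h1]
    simp [τ, ν]
    ring
  have hdA : A.det = ν * ν := by
    rw [det_eq_sign_charpoly_coeff, hA, Fintype.card_fin]
    simp [ν, pow_two, mul_coeff_zero]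
    norm_num
  have hν : ν ≠ 0 := by
    intro h
    rw [hdA, h, zero_mul] at hdet
    exact hdet rfl
  obtain ⟨Q, hQ, hQ1⟩ := exists_Q (τ := τ) hν hc0 hc1 hf hg hfn hgn (by rw [h0, hdA])
  rw [← hpe] at hQ1
  have hcp : (fromBlocks (B2 τ ν) Q 0 (E2 τ ν)).charpoly = p ^ (1 + 1) := by
    rw [charpoly_fromBlocks_zero₂₁, charpoly_B2, charpoly_E2, ← hpe, pow_two]
  obtain ⟨P, P', e1, e2, e3⟩ := similar_cyc hp (k := 1) hA hcp (by rwa [pow_one]) (by rwa [pow_one])
  exact hQ.transfer e1 e2 e3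

end Four

end Cfsg.Agent.H117.TLc
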