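import Cfsg.Agent.H117.PRep
import Cfsg.Agent.H117.Gen

/-!
# Weights of the radical of the stabiliser of a singular point; the rank one operator
-/

set_option autoImplicit false

namespace Cfsg.Agent.H117

open QuadraticMap Cfsg.Agent.LieClassical.OrthCore Cfsg.Agent.LieClassical.OrthTrans Module
open Cfsg.Agent.LieClassical.OrthCount (hypSum hypSum_apply polar_hypSum)

section One

variable {F A : Type*} [Field F] [AddCommGroup A] [Module F A] {Q : QuadraticForm F A}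
  {V : Type*} [AddCommGroup V] [Module ℂ V] {G : Subgroup ((A × F × F) ≃ₗ[F] (A × F × F))} (P : PRep G V)

/-- the action of the radical -/
def TT (Q : QuadraticForm F A) (v : A) : Module.End ℂ V := P.R (sE Q v)

variable {P} in
theorem wd_TT (hQ : Nondeg Q) {ψ : AddChar F ℂ} (hψ : ∃ c, ψ c ≠ 1) (hE : E (hypSum Q) ≤ G) :
    WD Q ψ (TT P Q) := by
  refine ⟨hQ, hψ, ?_, ?_⟩
  · rw [TT, sE_zero, P.one]
  · intro a b
    rw [TT, sE_add, P.mul _ (hE (sE_mem Q a)) _ (hE (sE_mem Q b))]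
    rfl

/-- transport of weights by `io a s` -/
theorem io_wt (hE : E (hypSum Q) ≤ G) {ψ : AddChar F ℂ} {a : Fˣ} {s : A ≃ₗ[F] A} (hs : s ∈ O Q)
    (hg : io a s ∈ G) {u : A} {x : V} (hx : x ∈ wt Q ψ (TT P Q) u) :
    P.R (io a s) x ∈ wt Q ψ (TT P Q) ((a : F)⁻¹ • s u) := by
  intro v
  have ha : (a : F) ≠ 0 := a.ne_zero
  obtain ⟨v', hv'⟩ : ∃ v', v = (a : F) • s v' := by
    refine ⟨(a : F)⁻¹ • s.symm v, ?_⟩
    rw [map_smul, smul_smul, mul_inv_cancel₀ ha, one_smul, LinearEquiv.apply_symm_apply]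
  rw [hv', TT, ← P.swap hg (hE (sE_mem Q v')) (hE (sE_mem Q _)) hg (io_sE hs a v')]
  have h1 : P.R (sE Q v') x = ψ (polar Q u v') • x := hx v'
  rw [h1, map_smul, polar_smul_left, polar_smul_right, polar_map hs, smul_eq_mul, smul_eq_mul,
    inv_mul_cancel_left₀ ha]

variable [Fintype A]

theorem io_pr (hQ : Nondeg Q) {ψ : AddChar F ℂ} (hψ : ∃ c, ψ c ≠ 1) (hE : E (hypSum Q) ≤ G) {a : Fˣ}
    {s : A ≃ₗ[F] A} (hs : s ∈ O Q) (hg : io a s ∈ G) (u : A) (x : V) :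
    P.R (io a s) (pr Q ψ (TT P Q) u x) = pr Q ψ (TT P Q) ((a : F)⁻¹ • s u) (P.R (io a s) x) := by
  classical
  have hW := wd_TT (P := P) hQ hψ hE
  have ha : (a : F) ≠ 0 := a.ne_zero
  conv_rhs => rw [← sum_pr hW x, map_sum, map_sum]
  have : ∀ u' : A, pr Q ψ (TT P Q) ((a : F)⁻¹ • s u) (P.R (io a s) (pr Q ψ (TT P Q) u' x)) =
      if u' = u then P.R (io a s) (pr Q ψ (TT P Q) u x) else 0 := by
    intro u'
    by_cases h : u' = u
    · subst h
      rw [if_pos rfl, pr_of_mem (io_wt P hE hs hg (pr_mem hW u' x))]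
    · rw [if_neg h]
      refine pr_of_mem_ne hW ?_ (io_wt P hE hs hg (pr_mem hW u' x))
      intro h1
      apply h
      have h2 : s u = s u' := by
        have := congrArg (fun z => (a : F) • z) h1
        simpa [smul_smul, mul_inv_cancel₀ ha] using this
      exact (s.injective h2).symm
  rw [Fintype.sum_congr _ _ this, Finset.sum_ite_eq' Finset.univ u, if_pos (Finset.mem_univ _)]

end One

section Two

variable {F W : Type*} [Field F] [AddCommGroup W] [Module F W] {Q : QuadraticForm F W}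
  {V : Type*} [AddCommGroup V] [Module ℂ V]
  {G : Subgroup (((W × F × F) × F × F) ≃ₗ[F] ((W × F × F) × F × F))} (P : PRep G V)

theorem hh_comm_nn (b : Fˣ) :
    io b (io b⁻¹ (1 : W ≃ₗ[F] W)) * nn W 1 = nn W 1 * io b⁻¹ (io b 1) := by
  rw [nn_io]

theorem nn_sq : nn W (1 : Fˣ) * nn W 1 = io (-1) (io (-1)⁻¹ 1) := by
  apply LinearEquiv.ext
  rintro ⟨⟨w, x, y⟩, x', y'⟩
  rw [LinearEquiv.mul_apply, nn1_apply, nn1_apply, io_apply, io_apply]
  simp

/-- the sum over a root subgroup -/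
noncomputable def Sop [Fintype F] (Q : QuadraticForm F W) (x : V) : V := ∑ t : F, P.R (xr Q t) x

theorem xr_add (t t' : F) : xr Q (t + t') = xr Q t * xr Q t' := by
  rw [xr, xr, xr, ← sE_add]
  congr 1
  ext <;> simp
  ring

theorem xr_zero : xr Q (0 : F) = 1 := by
  have : ((0, 0, -0) : W × F × F) = 0 := by
    rw [neg_zero]
    rfl
  rw [xr, this, sE_zero]

variable [Fintype F]

theorem Sop_xr (hE : E (hypSum (hypSum Q)) ≤ G) (t : F) (x : V) :
    Sop P Q (P.R (xr Q t) x) = Sop P Q x := by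
  unfold Sop
  have : ∀ t', P.R (xr Q t') (P.R (xr Q t) x) = P.R (xr Q (t' + t)) x := fun t' => by
    rw [xr_add, P.mul' (hE (xr_mem Q _)) (hE (xr_mem Q _))]
  rw [Fintype.sum_congr _ _ this]
  exact Fintype.sum_equiv (Equiv.addRight t) _ (fun t => P.R (xr Q t) x) fun t' => rfl

/-- the rank one argument -/
theorem Sop_ne (hE : E (hypSum (hypSum Q)) ≤ G) {z : V} (hz : z ≠ 0) (hx : ∀ t, P.R (xr Q t) z = z)
    {χ : Fˣ → ℂ} (hh : ∀ b : Fˣ, P.R (io b (io b⁻¹ 1)) z = χ b • z) :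
    Sop P Q (P.R (nn W 1) z) ≠ 0 := by
  classical
  intro h0
  have hn : nn W 1 ∈ G := hE (nn_mem Q 1)
  have hhG : ∀ b : Fˣ, io b (io b⁻¹ (1 : W ≃ₗ[F] W)) ∈ G := fun b => hE (hh_mem Q b)
  -- apply `n`
  have h1 : P.R (nn W 1) (Sop P Q (P.R (nn W 1) z)) = 0 := by rw [h0, map_zero]
  have h2 : ∀ t : F, t ≠ 0 → ∃ (b : F) (c : ℂ), P.R (nn W 1) (P.R (xr Q t) (P.R (nn W 1) z)) =
      c • P.R (xr Q b) (P.R (nn W 1) z) := by
    intro t ht
    have hb : -(t⁻¹) ≠ 0 := neg_ne_zero.2 (inv_ne_zero ht)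
    refine ⟨-(t⁻¹), χ (Units.mk0 (-(t⁻¹)) hb)⁻¹, ?_⟩
    have e1 := nn_xr_nn Q (Units.mk0 t ht) (Units.mk0 (-(t⁻¹)) hb) rfl
    rw [Units.val_mk0, Units.val_mk0] at e1
    have e2 : P.R (nn W 1 * xr Q t * nn W 1) z =
        P.R (xr Q (-(t⁻¹)) * io (Units.mk0 (-(t⁻¹)) hb) (io (Units.mk0 (-(t⁻¹)) hb)⁻¹ 1) * nn W 1 *
          xr Q (-(t⁻¹))) z := by rw [e1]
    rw [P.mul' (G.mul_mem hn (hE (xr_mem Q _))) hn, P.mul' hn (hE (xr_mem Q _)),
      P.mul' (G.mul_mem (G.mul_mem (hE (xr_mem Q _)) (hhG _)) hn) (hE (xr_mem Q _)), hx,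
      mul_assoc, hh_comm_nn, P.mul' (hE (xr_mem Q _)) (G.mul_mem hn ?_), P.mul' hn ?_] at e2
    · rw [e2]
      have e3 := hh (Units.mk0 (-(t⁻¹)) hb)⁻¹
      rw [inv_inv] at e3
      rw [e3, map_smul, map_smul]
    · have := hhG (Units.mk0 (-(t⁻¹)) hb)⁻¹
      rwa [inv_inv] at this
    · have := hhG (Units.mk0 (-(t⁻¹)) hb)⁻¹
      rwa [inv_inv] at this
  -- apply `Sop`
  have h3 : Sop P Q (P.R (nn W 1) (Sop P Q (P.R (nn W 1) z))) = 0 := by
    rw [h1]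
    simp [Sop]
  have hadd : ∀ x y, Sop P Q (x + y) = Sop P Q x + Sop P Q y := by
    intro x y
    simp [Sop, Finset.sum_add_distrib]
  have hsmul : ∀ (c : ℂ) x, Sop P Q (c • x) = c • Sop P Q x := by
    intro c x
    simp [Sop, Finset.smul_sum]
  have hzero : Sop P Q (0 : V) = 0 := by simp [Sop]
  have hsum : ∀ (s : Finset F) (f : F → V), Sop P Q (∑ t ∈ s, f t) = ∑ t ∈ s, Sop P Q (f t) := by
    intro s f
    induction s using Finset.induction_on with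
    | empty => rw [Finset.sum_empty, Finset.sum_empty, hzero]
    | insert a s ha ih => rw [Finset.sum_insert ha, Finset.sum_insert ha, hadd, ih]
  have h4 : P.R (nn W 1) (Sop P Q (P.R (nn W 1) z)) =
      ∑ t : F, P.R (nn W 1) (P.R (xr Q t) (P.R (nn W 1) z)) := by
    rw [Sop, map_sum]
  rw [h4, hsum, ← Finset.add_sum_erase _ _ (Finset.mem_univ (0 : F))] at h3
  have h5 : ∑ t ∈ Finset.univ.erase (0 : F), Sop P Q (P.R (nn W 1) (P.R (xr Q t) (P.R (nn W 1) z))) = 0 := by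
    refine Finset.sum_eq_zero fun t ht => ?_
    obtain ⟨b, c, e⟩ := h2 t (Finset.mem_erase.1 ht).1
    rw [e, hsmul, Sop_xr P hE, h0, smul_zero]
  rw [h5, add_zero, xr_zero, P.one', ← P.mul' hn hn, nn_sq, hh, hsmul] at h3
  have h6 : Sop P Q z = (Fintype.card F : ℂ) • z := by
    unfold Sop
    rw [Finset.sum_congr rfl fun t _ => hx t, Finset.sum_const, Finset.card_univ, Nat.cast_smul_eq_nsmul]
  rw [h6, smul_smul] at h3
  rcases smul_eq_zero.1 h3 with h7 | h7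
  · rcases mul_eq_zero.1 h7 with h8 | h8
    · have := hh (-1)
      rw [h8, zero_smul] at this
      exact P.ne_zero (hhG (-1)) hz this
    · exact (Nat.cast_ne_zero.2 Fintype.card_ne_zero) h8
  · exact hz h7

variable [Fintype W]

/-- `x ↦ pr₀ (n x)` -/
noncomputable def Th (Q : QuadraticForm F W) (ψ : AddChar F ℂ) (x : V) : V :=
  pr (hypSum Q) ψ (TT P (hypSum Q)) 0 (P.R (nn W 1) x)

variable {ψ : AddChar F ℂ}

theorem Th_io (hQ : Nondeg Q) (hψ : ∃ c, ψ c ≠ 1) (hE : E (hypSum (hypSum Q)) ≤ G) {a b : Fˣ}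
    {s : W ≃ₗ[F] W} (hs : s ∈ O Q) (hg : io a (io b s) ∈ G) (hg' : io b (io a s) ∈ G) (x : V) :
    P.R (io a (io b s)) (Th P Q ψ x) = Th P Q ψ (P.R (io b (io a s)) x) := by
  have hn : nn W 1 ∈ G := hE (nn_mem Q 1)
  unfold Th
  rw [io_pr P (nondeg_hypSum hQ) hψ hE (io_mem_O.2 hs) hg, map_zero, smul_zero,
    ← P.swap hn hg' hg hn (nn_io a b s)]

theorem Th_sE (hQ : Nondeg Q) (hψ : ∃ c, ψ c ≠ 1) (hE : E (hypSum (hypSum Q)) ≤ G) (w : W) (x : V) :
    P.R (io 1 (sE Q w)) (Th P Q ψ x) = Th P Q ψ (P.R (sE (hypSum Q) (-w, 0, 0)) x) := by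
  have hn : nn W 1 ∈ G := hE (nn_mem Q 1)
  unfold Th
  have e := nn_sE Q (-w)
  rw [neg_neg] at e
  rw [io_pr P (nondeg_hypSum hQ) hψ hE (E_le_O (sE_mem Q w)) (hE (io_mem_E (sE_mem Q w))), map_zero,
    smul_zero, ← P.swap hn (hE (sE_mem _ _)) (hE (io_mem_E (sE_mem Q w))) hn e]

theorem Th_mem (hQ : Nondeg Q) (hψ : ∃ c, ψ c ≠ 1) (hE : E (hypSum (hypSum Q)) ≤ G) (x : V) :
    Th P Q ψ x ∈ wt (hypSum Q) ψ (TT P (hypSum Q)) 0 :=
  pr_mem (wd_TT (nondeg_hypSum hQ) hψ hE) _ _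

omit [Fintype F] [Fintype W] in
theorem mem_wt_zero {Q : QuadraticForm F W} {T : W → Module.End ℂ V} {x : V} :
    x ∈ wt Q ψ T 0 ↔ ∀ v, T v x = x := by
  rw [mem_wt]
  simp

theorem Th_ne (hQ : Nondeg Q) (hψ : ∃ c, ψ c ≠ 1) (hE : E (hypSum (hypSum Q)) ≤ G) {z : V} (hz : z ≠ 0)
    (hz0 : z ∈ wt (hypSum Q) ψ (TT P (hypSum Q)) 0) (hz1 : ∀ w : W, P.R (io 1 (sE Q w)) z = z)
    {χ : Fˣ → ℂ} (hh : ∀ b : Fˣ, P.R (io b (io b⁻¹ 1)) z = χ b • z) : Th P Q ψ z ≠ 0 := by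
  have hW := wd_TT (P := P) (nondeg_hypSum hQ) hψ hE
  have hn : nn W 1 ∈ G := hE (nn_mem Q 1)
  intro h0
  have hz0' : ∀ v, P.R (sE (hypSum Q) v) z = z := mem_wt_zero.1 hz0
  apply Sop_ne P hE hz (fun t => hz0' _) hh
  set y := P.R (nn W 1) z with hy
  have e0 : ∀ t, P.R (xr Q t) y = TT P (hypSum Q) (0, 0, -t) y := fun t => rfl
  -- `Sop y` has weight zero
  have h1 : ∀ v, TT P (hypSum Q) v (Sop P Q y) = Sop P Q y := by
    rintro ⟨w, s, t⟩
    have e1 : ((w, s, t) : W × F × F) = (w, 0, 0) + ((0, s, 0) + (0, 0, t)) := by ext <;> simp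
    have e2 : TT P (hypSum Q) (0, 0, t) (Sop P Q y) = Sop P Q y := by
      unfold Sop
      rw [map_sum]
      have : ∀ t', TT P (hypSum Q) (0, 0, t) (P.R (xr Q t') y) = P.R (xr Q (-t + t')) y := fun t' => by
        have e5 : xr Q (-t) = sE (hypSum Q) (0, 0, t) := by rw [xr, neg_neg]
        rw [xr_add, P.mul' (hE (xr_mem Q _)) (hE (xr_mem Q _)), e5]
        rfl
      rw [Fintype.sum_congr _ _ this]
      exact Fintype.sum_equiv (Equiv.addLeft (-t)) _ (fun t => P.R (xr Q t) y) fun t' => rfl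
    have e3 : TT P (hypSum Q) (0, s, 0) (Sop P Q y) = Sop P Q y := by
      unfold Sop
      rw [map_sum]
      refine Finset.sum_congr rfl fun t' _ => ?_
      rw [e0, T_comm hW]
      congr 1
      show P.R (sE (hypSum Q) (0, s, 0)) y = y
      rw [hy, ← P.swap hn (hE (sE_mem _ _)) (hE (sE_mem _ _)) hn (nn_sE_e Q s), hz0']
    have e4 : TT P (hypSum Q) (w, 0, 0) (Sop P Q y) = Sop P Q y := by
      unfold Sop
      rw [map_sum]
      refine Finset.sum_congr rfl fun t' _ => ?_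
      rw [e0, T_comm hW]
      congr 1
      show P.R (sE (hypSum Q) (w, 0, 0)) y = y
      rw [hy, ← P.swap hn (hE (io_mem_E (sE_mem _ _))) (hE (sE_mem _ _)) hn (nn_io_sE Q w), hz1]
    rw [e1, hW.add, hW.add, Module.End.mul_apply, Module.End.mul_apply, e2, e3, e4]
  have h2 : pr (hypSum Q) ψ (TT P (hypSum Q)) 0 (Sop P Q y) = Sop P Q y :=
    pr_of_mem (mem_wt_zero.2 h1)
  rw [← h2]
  unfold Sop
  rw [map_sum]
  refine Finset.sum_eq_zero fun t _ => ?_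
  rw [e0, pr_T hW]
  have : pr (hypSum Q) ψ (TT P (hypSum Q)) 0 y = 0 := h0
  rw [this, smul_zero]

end Two

end Cfsg.Agent.H117
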