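import Cfsg.Agent.H117.Hyp

/-!
# Two hyperbolic planes

Elements of the isometry group of `(W ⟂ H) ⟂ H` acting on the two hyperbolic planes: `nn b`, `nS`, `hh b`, `zz b`.
-/

set_option autoImplicit false

namespace Cfsg.Agent.H117

open QuadraticMap Cfsg.Agent.LieClassical.OrthCore Cfsg.Agent.LieClassical.OrthTrans
open Cfsg.Agent.LieClassical.OrthCount (hypSum hypSum_apply polar_hypSum)

variable {F W : Type*} [Field F] [AddCommGroup W] [Module F W]

/-- `(x₁, x₂) ↦ (b x₂, -b⁻¹ x₁)`, `(y₁, y₂) ↦ (b⁻¹ y₂, -b y₁)` as a linear map -/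
def nnLin (W : Type*) [AddCommGroup W] [Module F W] (b : F) :
    ((W × F × F) × F × F) →ₗ[F] ((W × F × F) × F × F) where
  toFun v := ((v.1.1, -b⁻¹ * v.2.1, -b * v.2.2), b * v.1.2.1, b⁻¹ * v.1.2.2)
  map_add' v w := by
    ext <;> simp [mul_add, neg_add_rev] <;> ring
  map_smul' c v := by
    ext <;> simp <;> ring

theorem nnLin_apply (b : F) (w : W) (x y x' y' : F) :
    nnLin W b ((w, x, y), x', y') = ((w, -b⁻¹ * x', -b * y'), b * x, b⁻¹ * y) := rfl

/-- the Weyl elements exchanging the two planes -/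
def nn (W : Type*) [AddCommGroup W] [Module F W] (b : Fˣ) :
    ((W × F × F) × F × F) ≃ₗ[F] ((W × F × F) × F × F) :=
  LinearEquiv.ofLinearMap (nnLin W (b : F)) (nnLin W (-(b : F)))
    (by
      apply LinearMap.ext
      rintro ⟨⟨w, x, y⟩, x', y'⟩
      have hb : (b : F) ≠ 0 := b.ne_zero
      rw [LinearMap.comp_apply, nnLin_apply, nnLin_apply, LinearMap.id_apply]
      ext <;> simp [inv_neg] <;> field_simp)
    (by
      apply LinearMap.ext
      rintro ⟨⟨w, x, y⟩, x', y'⟩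
      have hb : (b : F) ≠ 0 := b.ne_zero
      rw [LinearMap.comp_apply, nnLin_apply, nnLin_apply, LinearMap.id_apply]
      ext <;> simp [inv_neg] <;> field_simp)

theorem nn_apply (b : Fˣ) (w : W) (x y x' y' : F) :
    nn W b ((w, x, y), x', y') = ((w, -(b : F)⁻¹ * x', -(b : F) * y'), (b : F) * x, (b : F)⁻¹ * y) := rfl

theorem nn_inv (b : Fˣ) : (nn W b)⁻¹ = nn W (-b) := by
  rw [inv_eq_iff_mul_eq_one]
  apply LinearEquiv.ext
  rintro ⟨⟨w, x, y⟩, x', y'⟩
  have hb : (b : F) ≠ 0 := b.ne_zero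
  rw [LinearEquiv.mul_apply, nn_apply, nn_apply]
  ext <;> simp [inv_neg] <;> field_simp

variable (Q : QuadraticForm F W)

/-- `x₁ ↦ x₁ + t x₂`, `y₂ ↦ y₂ - t y₁` -/
def xr (t : F) : ((W × F × F) × F × F) ≃ₗ[F] ((W × F × F) × F × F) := sE (hypSum Q) (0, 0, -t)

/-- `x₂ ↦ x₂ + t x₁`, `y₁ ↦ y₁ - t y₂` -/
def yr (t : F) : ((W × F × F) × F × F) ≃ₗ[F] ((W × F × F) × F × F) := sF (hypSum Q) (0, t, 0)

theorem xr_apply (t : F) (w : W) (x y x' y' : F) :
    xr Q t ((w, x, y), x', y') = ((w, x, y - t * y'), x' + t * x, y') := by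
  rw [xr, sE_apply, polar_hypSum, hypSum_apply]
  ext
  · simp
  · simp
  · simp; ring
  · simp; ring
  · simp

theorem yr_apply (t : F) (w : W) (x y x' y' : F) :
    yr Q t ((w, x, y), x', y') = ((w, x + t * x', y), x', y' - t * y) := by
  rw [yr, sF_apply, polar_hypSum, hypSum_apply]
  ext
  · simp
  · simp; ring
  · simp
  · simp
  · simp

theorem xr_mem (t : F) : xr Q t ∈ E (hypSum (hypSum Q)) := sE_mem _ _

theorem yr_mem (t : F) : yr Q t ∈ E (hypSum (hypSum Q)) := sF_mem _ _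

theorem nn_eq (b : Fˣ) : nn W b = xr Q b * yr Q (-(b : F)⁻¹) * xr Q b := by
  apply LinearEquiv.ext
  rintro ⟨⟨w, x, y⟩, x', y'⟩
  have hb : (b : F) ≠ 0 := b.ne_zero
  rw [LinearEquiv.mul_apply, LinearEquiv.mul_apply, nn_apply, xr_apply, yr_apply, xr_apply]
  ext
  · simp
  · simp only
    field_simp
    ring
  · simp only
    field_simp
    ring
  · simp only
    field_simp
    ring
  · simp only
    field_simp
    ring

theorem nn_mem (b : Fˣ) : nn W b ∈ E (hypSum (hypSum Q)) := by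
  rw [nn_eq Q]
  exact (E _).mul_mem ((E _).mul_mem (xr_mem Q _) (yr_mem Q _)) (xr_mem Q _)

/-- `hh b = io b (io b⁻¹ 1)` -/
theorem hh_eq (b : Fˣ) : io b (io b⁻¹ (1 : W ≃ₗ[F] W)) = nn W b * nn W (-1) := by
  apply LinearEquiv.ext
  rintro ⟨⟨w, x, y⟩, x', y'⟩
  have hb : (b : F) ≠ 0 := b.ne_zero
  rw [LinearEquiv.mul_apply, nn_apply, nn_apply, io_apply, io_apply]
  ext <;> simp

theorem hh_mem (b : Fˣ) : io b (io b⁻¹ (1 : W ≃ₗ[F] W)) ∈ E (hypSum (hypSum Q)) := by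
  rw [hh_eq]
  exact (E _).mul_mem (nn_mem Q _) (nn_mem Q _)

theorem zz_mem (b : Fˣ) : io b (io b (1 : W ≃ₗ[F] W)) ∈ E (hypSum (hypSum Q)) := by
  have h1 : io b (io b (1 : W ≃ₗ[F] W)) =
      io 1 (kap F W) * io b (io b⁻¹ (1 : W ≃ₗ[F] W)) * (io 1 (kap F W))⁻¹ := by
    apply LinearEquiv.ext
    rintro ⟨⟨w, x, y⟩, x', y'⟩
    rw [io_inv, kap_inv, inv_one]
    simp only [LinearEquiv.mul_apply, io_apply, kap_apply]
    simp
  rw [h1]
  exact conj_mem_E (io_mem_O.2 (kap_mem_O Q)) (hh_mem Q b)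

/-- `nS`: the conjugate of `nn 1` under the swap of the inner plane -/
def nS (F W : Type*) [Field F] [AddCommGroup W] [Module F W] :
    ((W × F × F) × F × F) ≃ₗ[F] ((W × F × F) × F × F) :=
  io 1 (kap F W) * nn W (1 : Fˣ) * io 1 (kap F W)

theorem nS_apply (w : W) (x y x' y' : F) :
    nS F W ((w, x, y), x', y') = ((w, -y', -x'), y, x) := by
  rw [nS, LinearEquiv.mul_apply, LinearEquiv.mul_apply, io_apply, kap_apply, nn_apply, io_apply,
    kap_apply]
  simp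

theorem nn1_apply (w : W) (x y x' y' : F) :
    nn W (1 : Fˣ) ((w, x, y), x', y') = ((w, -x', -y'), x, y) := by
  rw [nn_apply]
  simp

theorem nS_mem : nS F W ∈ E (hypSum (hypSum Q)) := by
  have h1 : nS F W = io 1 (kap F W) * nn W 1 * (io 1 (kap F W))⁻¹ := by
    rw [io_inv, kap_inv, inv_one, nS]
  rw [h1]
  exact conj_mem_E (io_mem_O.2 (kap_mem_O Q)) (nn_mem Q 1)

theorem nn_nS : nn W (1 : Fˣ) * nS F W = nS F W * nn W (1 : Fˣ) := by
  apply LinearEquiv.ext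
  rintro ⟨⟨w, x, y⟩, x', y'⟩
  rw [LinearEquiv.mul_apply, LinearEquiv.mul_apply, nn1_apply, nS_apply, nn1_apply, nS_apply]

/-- `n σ(w) = τ'(-w) n` -/
theorem nn_sE (w : W) :
    nn W 1 * sE (hypSum Q) (w, 0, 0) = io 1 (sE Q (-w)) * nn W 1 := by
  apply LinearEquiv.ext
  rintro ⟨⟨a, x, y⟩, x', y'⟩
  rw [LinearEquiv.mul_apply, LinearEquiv.mul_apply, sE_apply, nn1_apply, io_apply, sE_apply,
    polar_hypSum, hypSum_apply]
  simp [nn1_apply]
  ring

/-- `n τ'(w) = σ(w) n` -/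
theorem nn_io_sE (w : W) :
    nn W 1 * io 1 (sE Q w) = sE (hypSum Q) (w, 0, 0) * nn W 1 := by
  apply LinearEquiv.ext
  rintro ⟨⟨a, x, y⟩, x', y'⟩
  rw [LinearEquiv.mul_apply, LinearEquiv.mul_apply, io_apply, sE_apply, nn1_apply, nn1_apply,
    sE_apply, polar_hypSum, hypSum_apply]
  simp

/-- `n` commutes with `σ(t e₂)` -/
theorem nn_sE_e (t : F) :
    nn W 1 * sE (hypSum Q) (0, t, 0) = sE (hypSum Q) (0, t, 0) * nn W 1 := by
  apply LinearEquiv.ext
  rintro ⟨⟨a, x, y⟩, x', y'⟩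
  rw [LinearEquiv.mul_apply, LinearEquiv.mul_apply, sE_apply, nn1_apply, sE_apply, polar_hypSum,
    hypSum_apply, polar_hypSum]
  simp only [Prod.mk_add_mk, Prod.smul_mk, nn1_apply, smul_zero, add_zero, smul_eq_mul]
  ext <;> simp <;> ring

/-- `n ι(b, ι(a, s)) = ι(a, ι(b, s)) n` -/
theorem nn_io (a b : Fˣ) (s : W ≃ₗ[F] W) :
    nn W 1 * io b (io a s) = io a (io b s) * nn W 1 := by
  apply LinearEquiv.ext
  rintro ⟨⟨w, x, y⟩, x', y'⟩
  rw [LinearEquiv.mul_apply, LinearEquiv.mul_apply, io_apply, io_apply, nn1_apply, nn1_apply,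
    io_apply, io_apply]
  ext <;> simp

/-- the Bruhat relation in `SL₂` -/
theorem nn_xr_nn (t b : Fˣ) (hb : (b : F) = -(t : F)⁻¹) :
    nn W 1 * xr Q t * nn W 1 = xr Q b * io b (io b⁻¹ 1) * nn W 1 * xr Q b := by
  have ht : (t : F) ≠ 0 := t.ne_zero
  have hb' : (b : F)⁻¹ = -(t : F) := by rw [hb, inv_neg, inv_inv]
  apply LinearEquiv.ext
  rintro ⟨⟨w, x, y⟩, x', y'⟩
  simp only [LinearEquiv.mul_apply]
  rw [nn1_apply, xr_apply, nn1_apply, xr_apply, nn1_apply, io_apply, io_apply, xr_apply]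
  simp only [Units.val_inv_eq_inv_val, inv_inv, hb', hb]
  ext
  · simp
  · simp only []
    field_simp
    ring
  · simp only []
    field_simp
    ring
  · simp only []
    field_simp
    ring
  · simp only []
    field_simp
    ring

/-- `nS σ(w) = τ(-w) nS` -/
theorem nS_sE (w : W) :
    nS F W * sE (hypSum Q) (w, 0, 0) = io 1 (sF Q (-w)) * nS F W := by
  apply LinearEquiv.ext
  rintro ⟨⟨a, x, y⟩, x', y'⟩
  rw [LinearEquiv.mul_apply, LinearEquiv.mul_apply, sE_apply, nS_apply, io_apply, sF_apply,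
    polar_hypSum, hypSum_apply]
  simp [nS_apply]
  ring

/-- `nS τ(w) = σ(w) nS` -/
theorem nS_io_sF (w : W) :
    nS F W * io 1 (sF Q w) = sE (hypSum Q) (w, 0, 0) * nS F W := by
  apply LinearEquiv.ext
  rintro ⟨⟨a, x, y⟩, x', y'⟩
  rw [LinearEquiv.mul_apply, LinearEquiv.mul_apply, io_apply, sF_apply, nS_apply, nS_apply,
    sE_apply, polar_hypSum, hypSum_apply]
  simp

/-- `nS` commutes with `σ(t f₂)` -/
theorem nS_sE_f (t : F) :
    nS F W * sE (hypSum Q) (0, 0, t) = sE (hypSum Q) (0, 0, t) * nS F W := by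
  apply LinearEquiv.ext
  rintro ⟨⟨a, x, y⟩, x', y'⟩
  rw [LinearEquiv.mul_apply, LinearEquiv.mul_apply, sE_apply, nS_apply, sE_apply, polar_hypSum,
    hypSum_apply, polar_hypSum]
  simp [nS_apply]
  ring

/-- the Bruhat relation in the second `SL₂` -/
theorem nS_rr_nS (t b : Fˣ) (hb : (b : F) = -(t : F)⁻¹) :
    nS F W * sE (hypSum Q) (0, -(t : F), 0) * nS F W =
      sE (hypSum Q) (0, -(b : F), 0) * io b (io b 1) * nS F W * sE (hypSum Q) (0, -(b : F), 0) := by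
  have ht : (t : F) ≠ 0 := t.ne_zero
  apply LinearEquiv.ext
  rintro ⟨⟨w, x, y⟩, x', y'⟩
  simp only [LinearEquiv.mul_apply]
  rw [nS_apply, sE_apply, polar_hypSum, hypSum_apply, sE_apply, polar_hypSum, hypSum_apply]
  simp only [Prod.mk_add_mk, Prod.smul_mk]
  rw [nS_apply, nS_apply, io_apply, io_apply, sE_apply, polar_hypSum, hypSum_apply]
  ext
  · simp
  · simp only [hb, smul_eq_mul, polar_zero_left, QuadraticMap.map_zero, LinearEquiv.coe_one, id_eq,
      Prod.mk_add_mk, Prod.smul_mk]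
    field_simp
    ring
  · simp only [hb, smul_eq_mul, polar_zero_left, QuadraticMap.map_zero, LinearEquiv.coe_one, id_eq,
      Prod.mk_add_mk, Prod.smul_mk]
    field_simp
    ring
  · simp only [hb, smul_eq_mul, polar_zero_left, QuadraticMap.map_zero, LinearEquiv.coe_one, id_eq,
      Prod.mk_add_mk, Prod.smul_mk]
    field_simp
    ring
  · simp only [hb, smul_eq_mul, polar_zero_left, QuadraticMap.map_zero, LinearEquiv.coe_one, id_eq,
      Prod.mk_add_mk, Prod.smul_mk]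
    field_simp
    ring

end Cfsg.Agent.H117
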